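import Mathlib
import Cfsg.Prelude.Def_Characters
import Cfsg.Prelude.Def_Blocks
import Cfsg.Agent.Lib.Helper17.ExcMain

/-!
# Simple groups of order 7920: the statements of the pieces (S0434, S0435)

Each `def X : Prop` below is the exact statement of one piece of the proofs of S0434
(`|N_G(P_3)| = 144`) and S0435 (`|C_G(t)| = 48` for every involution `t`).
A piece is proved as `theorem main : Cfsg.Agent.Lib.Helper92.M11Stmt.X.{u} := by intro G _ _ ...`
(without `.{u}` for the arithmetic ones) in a file of its own.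
-/

set_option autoImplicit false

namespace Cfsg.Agent.Lib.Helper92.M11Stmt

open Cfsg Cfsg.Agent.Lib.Helper17.ExcMain

universe u

/-- The nine non-trivial irreducible characters of a simple group of order `7920`:
`a i` of degree 10, `b` of degree 11, `th i` of degree 16, `d` of degree 44, `e` of degree 45,
`f` of degree 55; `sum_eq` says that together with the trivial character they are all the
irreducible characters, without repetition. -/
structure Chars (G : Type u) [Group G] where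
  a : Fin 3 → IrrCharacter G
  b : IrrCharacter G
  th : Fin 2 → IrrCharacter G
  d : IrrCharacter G
  e : IrrCharacter G
  f : IrrCharacter G
  ha : ∀ i, charDegree (a i : G → ℂ) = 10
  hb : charDegree (b : G → ℂ) = 11
  hth : ∀ i, charDegree (th i : G → ℂ) = 16
  hd : charDegree (d : G → ℂ) = 44
  he : charDegree (e : G → ℂ) = 45
  hf : charDegree (f : G → ℂ) = 55
  sum_eq : ∀ F : IrrCharacter G → ℂ, ∑ᶠ ψ : IrrCharacter G, F ψ =
    F (trivIrr G) + (F (a 0) + F (a 1) + F (a 2)) + F b + (F (th 0) + F (th 1)) + F d + F e + F f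

/-- [EX] the characters exist. -/
def ExistsChars : Prop :=
  ∀ (G : Type u) [Group G] [Finite G] [IsSimpleGroup G], Nat.card G = 7920 → Nonempty (Chars G)

/-- [R11] the relation coming from the elements of order 11. -/
def Rel11 : Prop :=
  ∀ (G : Type u) [Group G] [Finite G] [IsSimpleGroup G], Nat.card G = 7920 →
    ∀ (D : Chars G) (x : G), orderOf x ≠ 11 →
      (D.th 0 : G → ℂ) x = (D.th 1 : G → ℂ) x ∧
      1 + (D.e : G → ℂ) x
        = (D.a 0 : G → ℂ) x + (D.a 1 : G → ℂ) x + (D.a 2 : G → ℂ) x + (D.th 0 : G → ℂ) x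

/-- [R5] the relation coming from the elements of order 5. -/
def Rel5 : Prop :=
  ∀ (G : Type u) [Group G] [Finite G] [IsSimpleGroup G], Nat.card G = 7920 →
    ∀ (D : Chars G) (x : G), orderOf x ≠ 5 →
      1 + (D.b : G → ℂ) x + (D.th 0 : G → ℂ) x + (D.th 1 : G → ℂ) x = (D.d : G → ℂ) x

/-- [FS] Frobenius–Schur count: the centralizer of an involution has order at least 37. -/
def InvCentLB : Prop :=
  ∀ (G : Type u) [Group G] [Finite G] [IsSimpleGroup G], Nat.card G = 7920 →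
    ∀ t : G, orderOf t = 2 → 37 ≤ Nat.card (Subgroup.centralizer ({t} : Set G))

/-- [DIV] centralizers of non-trivial elements of order prime to 55 have order dividing 144. -/
def CentDvd : Prop :=
  ∀ (G : Type u) [Group G] [Finite G] [IsSimpleGroup G], Nat.card G = 7920 →
    ∀ x : G, x ≠ 1 → ¬ 5 ∣ orderOf x → ¬ 11 ∣ orderOf x →
      Nat.card (Subgroup.centralizer ({x} : Set G)) ∣ 144

/-- [NORM] the normalizer of a Sylow 3-subgroup has order dividing 144 (pure group theory). -/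
def NormDvd : Prop :=
  ∀ (G : Type u) [Group G] [Finite G], Nat.card G = 7920 →
    (∀ x : G, x ≠ 1 → ¬ 5 ∣ orderOf x → ¬ 11 ∣ orderOf x →
      Nat.card (Subgroup.centralizer ({x} : Set G)) ∣ 144) →
    ∀ P : Sylow 3 G, Nat.card (Subgroup.normalizer ((P : Subgroup G) : Set G)) ∣ 144

/-- [M6] eigenvalue 1 of `t * y` for a character vanishing on the 3-singular elements. -/
def Mult6 : Prop :=
  ∀ (G : Type u) [Group G] [Finite G] (χ : G → ℂ), IsCharacter G χ → ∀ t y : G,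
    orderOf t = 2 → orderOf y = 3 → Commute t y → (∀ x : G, 3 ∣ orderOf x → χ x = 0) →
    ∃ n : ℕ, χ 1 + χ t = 6 * (n : ℂ)

/-- [M4] multiplicities on `⟨y⟩` of a character vanishing on `y ^ k * s`, `s ∈ T \ {1}`. -/
def Mult4 : Prop :=
  ∀ (G : Type u) [Group G] [Finite G] (χ : G → ℂ), IsCharacter G χ → ∀ (y : G) (T : Subgroup G),
    orderOf y = 3 → (∀ s ∈ T, Commute s y) →
    (∀ s ∈ T, s ≠ 1 → ∀ k : ℕ, χ (y ^ k * s) = 0) →
    ∃ n0 n1 n2 : ℕ, χ 1 = (Nat.card T : ℂ) * ((n0 : ℂ) + n1 + n2) ∧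
      Complex.normSq (χ y) = (Nat.card T : ℝ) ^ 2 *
        ((n0 : ℝ) ^ 2 + (n1 : ℝ) ^ 2 + (n2 : ℝ) ^ 2 - n0 * n1 - n1 * n2 - n0 * n2)

/-- [I3] the inequality for an element of order 3 centralized by a 2-group of order `q ≥ 4`. -/
def Ineq3 : Prop :=
  ∀ (a0 a1 a2 b c d f : ℂ) (N q n0 n1 n2 : ℕ),
    1 = a0 + a1 + a2 + c → d = 1 + b + 2 * c →
    1 + 10 * (a0 + a1 + a2) + 11 * b + 32 * c + 44 * d + 55 * f = 0 →
    (N : ℝ) = 1 + Complex.normSq a0 + Complex.normSq a1 + Complex.normSq a2 + Complex.normSq b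
      + 2 * Complex.normSq c + Complex.normSq d + Complex.normSq f →
    q * (n0 + n1 + n2) = 16 →
    Complex.normSq c = (q : ℝ) ^ 2 *
      ((n0 : ℝ) ^ 2 + (n1 : ℝ) ^ 2 + (n2 : ℝ) ^ 2 - n0 * n1 - n1 * n2 - n0 * n2) →
    4 ≤ q → N ≤ 9 * q → False

/-- [TI] distinct Sylow 3-subgroups meet trivially (pure group theory). -/
def SylTI : Prop :=
  ∀ (G : Type u) [Group G] [Finite G], Nat.card G = 7920 →
    (∀ x : G, x ≠ 1 → ¬ 5 ∣ orderOf x → ¬ 11 ∣ orderOf x →
      Nat.card (Subgroup.centralizer ({x} : Set G)) ∣ 144) →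
    (∀ y : G, orderOf y = 3 → ¬ 4 ∣ Nat.card (Subgroup.centralizer ({y} : Set G))) →
    ∀ P Q : Sylow 3 G, P ≠ Q → (P : Subgroup G) ⊓ (Q : Subgroup G) = ⊥

/-- [CONG] Sylow subgroups meeting trivially: `n_p ≡ 1 mod |P|` (pure group theory). -/
def SylCong : Prop :=
  ∀ (G : Type u) [Group G] [Finite G] (p : ℕ) [Fact p.Prime] (P : Sylow p G),
    (∀ Q : Sylow p G, Q ≠ P → (P : Subgroup G) ⊓ (Q : Subgroup G) = ⊥) →
    Nat.card (Sylow p G) ≡ 1 [MOD Nat.card (P : Subgroup G)]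

/-- [IA] the enumeration for the values at an involution. -/
def InvArith : Prop :=
  ∀ (a0 a1 a2 b : ℤ) (N : ℕ), (∃ m : ℤ, a0 = 10 - 4 * m) → (∃ m : ℤ, a1 = 10 - 4 * m) →
    (∃ m : ℤ, a2 = 10 - 4 * m) → (∃ m : ℤ, b = 11 - 4 * m) →
    (N : ℤ) = 1 + a0 ^ 2 + a1 ^ 2 + a2 ^ 2 + b ^ 2 + (1 + b) ^ 2 + (a0 + a1 + a2 - 1) ^ 2
      + (a0 + a1 + a2 + b) ^ 2 →
    N ∣ 144 → 37 ≤ N → (3 ∣ N → (3 : ℤ) ∣ a0 + a1 + a2 - 1) →
    N = 48 ∨ (N = 144 ∧ b = -5 ∧ ((a0 = -6 ∧ a1 = 2 ∧ a2 = 2) ∨ (a0 = 2 ∧ a1 = -6 ∧ a2 = 2) ∨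
      (a0 = 2 ∧ a1 = 2 ∧ a2 = -6)))

/-- [PERM] the permutation character on the cosets of a subgroup `H`, decomposed. -/
def PermDecomp : Prop :=
  ∀ (G : Type u) [Group G] [Finite G] [IsSimpleGroup G], Nat.card G = 7920 →
    ∀ (D : Chars G) (H : Subgroup G) (t : G),
    ∃ (m0 m1 m2 mb mt0 mt1 md me mf k : ℕ),
      (H.index : ℂ) = 1 + 10 * ((m0 : ℂ) + m1 + m2) + 11 * mb + 16 * ((mt0 : ℂ) + mt1)
        + 44 * md + 45 * me + 55 * mf ∧
      (k : ℂ) = 1 + m0 * (D.a 0 : G → ℂ) t + m1 * (D.a 1 : G → ℂ) t + m2 * (D.a 2 : G → ℂ) t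
        + mb * (D.b : G → ℂ) t + mt0 * (D.th 0 : G → ℂ) t + mt1 * (D.th 1 : G → ℂ) t
        + md * (D.d : G → ℂ) t + me * (D.e : G → ℂ) t + mf * (D.f : G → ℂ) t

end Cfsg.Agent.Lib.Helper92.M11Stmt
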