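import Mathlib
import Cfsg.Agent.Lib.Helper10.SWDefs
import Cfsg.Agent.Lib.Helper17.Sylow

/-!
# Sims–Wong, piece SY1: Sylow structure of a group of order `3 * 2 ^ k` with a non-normal
subgroup of index `3`

The lines of `P` (subgroups of index 3) are the Sylow 2-subgroups of `P`: there are three of
them, conjugate and self-normalizing in `P`, any two of them meet in `Qs P`, of index 2.
-/

set_option autoImplicit false

namespace Cfsg.Agent.Lib.Helper92.SWSY1

open Pointwise
open Cfsg.Agent.Lib.Helper10.SWDefs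
open Cfsg.Agent.Lib.Helper17.Sylow

universe u

variable {G : Type u} [Group G] [Finite G]

/-- A line of `P` has order `2 ^ k`. -/
theorem card_line {P S : Subgroup G} {k : ℕ} (hP : Nat.card P = 3 * 2 ^ k) (hS : IsLine P S) :
    Nat.card S = 2 ^ k := by
  have h := card_mul_relIndex hS.1
  rw [hS.2, hP, mul_comm] at h
  exact Nat.eq_of_mul_eq_mul_left (by norm_num) h

/-- A line contained in a line is equal to it. -/
theorem line_eq_of_le {P S S' : Subgroup G} {k : ℕ} (hP : Nat.card P = 3 * 2 ^ k)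
    (hS : IsLine P S) (hS' : IsLine P S') (h : S ≤ S') : S = S' :=
  Subgroup.eq_of_le_of_card_ge h (by rw [card_line hP hS, card_line hP hS'])

/-- Two distinct lines generate `P`. -/
theorem line_sup {P S S' : Subgroup G} {k : ℕ} (hP : Nat.card P = 3 * 2 ^ k)
    (hS : IsLine P S) (hS' : IsLine P S') (hne : S ≠ S') : S ⊔ S' = P := by
  have hle : S ⊔ S' ≤ P := sup_le hS.1 hS'.1
  apply Subgroup.eq_of_le_of_card_ge hle
  have h1 : Nat.card S ∣ Nat.card (S ⊔ S' : Subgroup G) := Subgroup.card_dvd_of_le le_sup_left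
  have h2 : Nat.card (S ⊔ S' : Subgroup G) ∣ Nat.card P := Subgroup.card_dvd_of_le hle
  rw [card_line hP hS] at h1
  rw [hP] at h2 ⊢
  obtain ⟨j, hj⟩ := h1
  rw [hj] at h2 ⊢
  have hj3 : j ∣ 3 := by
    have h3 : 2 ^ k * j ∣ 2 ^ k * 3 := by rwa [mul_comm 3] at h2
    exact (Nat.mul_dvd_mul_iff_left (by positivity)).1 h3
  rcases (Nat.dvd_prime Nat.prime_three).1 hj3 with rfl | rfl
  · exfalso
    have hSS : S = S ⊔ S' :=
      Subgroup.eq_of_le_of_card_ge le_sup_left (by rw [hj, card_line hP hS, mul_one])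
    have hle' : S' ≤ S := le_sup_right.trans hSS.ge
    exact hne (line_eq_of_le hP hS' hS hle').symm
  · rw [mul_comm]

/-- Two distinct lines meet in a subgroup of index `2`. -/
theorem relIndex_inf {P S S' : Subgroup G} {k : ℕ} (hP : Nat.card P = 3 * 2 ^ k)
    (hS : IsLine P S) (hS' : IsLine P S') (hne : S ≠ S') : (S ⊓ S').relIndex S = 2 := by
  rw [Subgroup.inf_relIndex_left]
  have h1 : S'.relIndex S ≤ 3 := by
    have := Subgroup.relIndex_le_of_le_right (H := S') hS.1 (by rw [hS'.2]; norm_num)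
    rwa [hS'.2] at this
  have h2 : S'.relIndex S ∣ 2 ^ k := by
    have := Subgroup.relIndex_dvd_card S' S
    rwa [card_line hP hS] at this
  have h3 : S'.relIndex S ≠ 1 := by
    intro h
    rw [Subgroup.relIndex_eq_one] at h
    exact hne (line_eq_of_le hP hS hS' h)
  obtain ⟨j, -, hj'⟩ := (Nat.dvd_prime_pow Nat.prime_two).1 h2
  rw [hj'] at h1 h3 ⊢
  rcases j with _ | _ | j
  · simp at h3
  · rfl
  · exfalso
    have h4 : 1 * 4 ≤ 2 ^ j * 4 := Nat.mul_le_mul_right 4 Nat.one_le_two_pow
    have h5 : 2 ^ (j + 1 + 1) = 2 ^ j * 4 := by ring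
    omega

/-- Conjugation commutes with the inclusion of `P`. -/
theorem map_conj (P : Subgroup G) (p : P) (T : Subgroup P) :
    (MulAut.conj p • T).map P.subtype = MulAut.conj (p : G) • T.map P.subtype := by
  ext x
  rw [mem_conj_smul, Subgroup.mem_map, Subgroup.mem_map]
  constructor
  · rintro ⟨y, hy, rfl⟩
    rw [mem_conj_smul] at hy
    exact ⟨_, hy, by simp⟩
  · rintro ⟨z, hz, hzx⟩
    refine ⟨p * z * p⁻¹, ?_, ?_⟩
    · rw [mem_conj_smul]
      have h1 : p⁻¹ * (p * z * p⁻¹) * p = z := by group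
      rw [h1]
      exact hz
    · simp only [Subgroup.subtype_apply, Subgroup.coe_mul, InvMemClass.coe_inv] at hzx ⊢
      rw [hzx]
      group

theorem main : StSY1.{u} := by
  intro G _ _ P k hP hnn
  obtain ⟨S₀, hS₀, hn₀⟩ := hnn
  haveI : Fact (Nat.Prime 2) := ⟨Nat.prime_two⟩
  have hcard : Nat.card (↥P) = 2 ^ k * 3 := by rw [hP, mul_comm]
  have h23 : ¬ 2 ∣ 3 := by norm_num
  -- Sylow 2-subgroups of `P` give lines
  have line_of : ∀ Q : Sylow 2 P, IsLine P ((Q : Subgroup P).map P.subtype) := by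
    intro Q
    refine ⟨Subgroup.map_subtype_le _, ?_⟩
    have h1 := index_sylow_subgroup hcard h23 Q
    have h2 : ((Q : Subgroup P).map P.subtype).subgroupOf P = (Q : Subgroup P) :=
      Subgroup.comap_map_eq_self_of_injective P.subtype_injective _
    show (((Q : Subgroup P).map P.subtype).subgroupOf P).index = 3
    rw [h2]
    exact h1
  -- lines come from Sylow 2-subgroups
  have of_line : ∀ S, IsLine P S → ∃ Q : Sylow 2 P, (Q : Subgroup P).map P.subtype = S := by
    intro S hS
    have hT : Nat.card (S.subgroupOf P) = 2 ^ k := by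
      have h1 := (S.subgroupOf P).card_mul_index
      have h2 : (S.subgroupOf P).index = 3 := hS.2
      rw [h2, hcard] at h1
      exact Nat.eq_of_mul_eq_mul_right (by norm_num) h1
    obtain ⟨Q, hQ⟩ := (IsPGroup.of_card hT).exists_le_sylow
    refine ⟨Q, ?_⟩
    have hQT : S.subgroupOf P = (Q : Subgroup P) :=
      Subgroup.eq_of_le_of_card_ge hQ (by rw [hT, card_sylow_subgroup hcard h23 Q])
    rw [← hQT, Subgroup.map_subgroupOf_eq_of_le hS.1]
  have hinj : ∀ Q Q' : Sylow 2 P,
      (Q : Subgroup P).map P.subtype = (Q' : Subgroup P).map P.subtype → Q = Q' := by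
    intro Q Q' h
    exact Sylow.ext (Subgroup.map_injective P.subtype_injective h)
  -- conjugacy
  have conj_line : ∀ S S' : Subgroup G, IsLine P S → IsLine P S' →
      ∃ p ∈ P, S' = MulAut.conj p • S := by
    intro S S' hS hS'
    obtain ⟨Q, rfl⟩ := of_line S hS
    obtain ⟨Q', rfl⟩ := of_line S' hS'
    obtain ⟨g, hg⟩ := MulAction.exists_smul_eq (↥P) Q Q'
    refine ⟨g, g.2, ?_⟩
    rw [← map_conj, ← hg]
    rfl
  -- the number of lines
  have hn3 : Nat.card (Sylow 2 P) = 3 := by
    have h1 : Nat.card (Sylow 2 P) ∣ 3 := card_sylow_dvd hcard h23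
    rcases (Nat.dvd_prime Nat.prime_three).1 h1 with h1' | h1'
    · exfalso
      haveI : Subsingleton (Sylow 2 P) := (Nat.card_eq_one_iff_unique.1 h1').1
      apply hn₀
      intro p hp
      obtain ⟨Q, rfl⟩ := of_line S₀ hS₀
      have h2 : (⟨p, hp⟩ : P) • Q = Q := Subsingleton.elim _ _
      have h3 := map_conj P ⟨p, hp⟩ (Q : Subgroup P)
      have h4 : MulAut.conj (⟨p, hp⟩ : P) • (Q : Subgroup P) = (Q : Subgroup P) :=
        congrArg (fun R : Sylow 2 P => (R : Subgroup P)) h2
      rw [h4] at h3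
      exact h3.symm
    · exact h1'
  classical
  haveI : Fintype (Sylow 2 P) := Fintype.ofFinite _
  have hu : (Finset.univ : Finset (Sylow 2 P)).card = 3 := by
    rw [Finset.card_univ, ← Nat.card_eq_fintype_card]
    exact hn3
  obtain ⟨Q₁, Q₂, Q₃, h12, h13, h23', huniv⟩ := Finset.card_eq_three.1 hu
  have hall : ∀ Q : Sylow 2 P, Q = Q₁ ∨ Q = Q₂ ∨ Q = Q₃ := by
    intro Q
    have := Finset.mem_univ Q
    rw [huniv] at this
    simpa using this
  -- lines are self-normalizing
  have self_norm : ∀ S : Subgroup G, IsLine P S → ∀ p ∈ P, MulAut.conj p • S = S → p ∈ S := by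
    intro S hS p hp hpS
    obtain ⟨Q, rfl⟩ := of_line S hS
    have h1 : (MulAut.conj (⟨p, hp⟩ : P) • (Q : Subgroup P)).map P.subtype
        = (Q : Subgroup P).map P.subtype :=
      (map_conj P ⟨p, hp⟩ (Q : Subgroup P)).trans hpS
    have h2 : (⟨p, hp⟩ : P) • Q = Q :=
      Sylow.ext (Subgroup.map_injective P.subtype_injective h1)
    rw [Sylow.smul_eq_iff_mem_normalizer] at h2
    have h3 : (Q : Subgroup P) = Subgroup.normalizer ((Q : Subgroup P) : Set P) := by
      apply Subgroup.eq_of_le_of_card_ge Subgroup.le_normalizer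
      have h4 := card_normalizer_mul_card_sylow Q
      rw [hn3, hcard] at h4
      rw [card_sylow_subgroup hcard h23 Q]
      exact le_of_eq (Nat.eq_of_mul_eq_mul_right (by norm_num) h4)
    have h2' : (⟨p, hp⟩ : P) ∈ Subgroup.normalizer ((Q : Subgroup P) : Set P) := h2
    rw [← h3] at h2'
    exact ⟨⟨p, hp⟩, h2', rfl⟩
  -- two distinct lines meet in `Qs P`
  have key : ∀ S S' : Subgroup G, IsLine P S → IsLine P S' → S ≠ S' → S ⊓ S' = Qs P := by
    intro S S' hS hS' hne
    have hD1 := relIndex_inf hP hS hS' hne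
    have hD2 : (S ⊓ S').relIndex S' = 2 := by
      rw [inf_comm]
      exact relIndex_inf hP hS' hS (Ne.symm hne)
    have hN1 : S ≤ Subgroup.normalizer ((S ⊓ S' : Subgroup G) : Set G) :=
      (Subgroup.normal_subgroupOf_iff_le_normalizer inf_le_left).1
        (Subgroup.normal_of_index_eq_two hD1)
    have hN2 : S' ≤ Subgroup.normalizer ((S ⊓ S' : Subgroup G) : Set G) :=
      (Subgroup.normal_subgroupOf_iff_le_normalizer inf_le_right).1
        (Subgroup.normal_of_index_eq_two hD2)
    have hN : P ≤ Subgroup.normalizer ((S ⊓ S' : Subgroup G) : Set G) := by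
      rw [← line_sup hP hS hS' hne]
      exact sup_le hN1 hN2
    apply le_antisymm
    · apply le_sInf
      intro S'' hS''
      obtain ⟨p, hp, rfl⟩ := conj_line S S'' hS hS''
      intro x hx
      rw [mem_conj_smul]
      have hpn := hN (P.inv_mem hp)
      rw [Subgroup.mem_normalizer_iff] at hpn
      have h5 := (hpn x).1 hx
      rw [inv_inv] at h5
      exact h5.1
    · exact le_inf (sInf_le hS) (sInf_le hS')
  refine ⟨conj_line, key, ?_, self_norm, ?_, ?_⟩
  · intro S hS
    obtain ⟨Q, hQ⟩ := of_line S hS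
    obtain ⟨Q', hQ'⟩ : ∃ Q' : Sylow 2 P, Q' ≠ Q := by
      by_cases h : Q = Q₁
      · exact ⟨Q₂, by rw [h]; exact Ne.symm h12⟩
      · exact ⟨Q₁, Ne.symm h⟩
    have hne : S ≠ (Q' : Subgroup P).map P.subtype := by
      rw [← hQ]
      intro h
      exact hQ' (hinj _ _ h).symm
    rw [← key S _ hS (line_of Q') hne]
    exact relIndex_inf hP hS (line_of Q') hne
  · intro p hp
    rw [← Qs_conj, Subgroup.conj_smul_eq_self_of_mem hp]
  · refine ⟨(Q₁ : Subgroup P).map P.subtype, (Q₂ : Subgroup P).map P.subtype,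
      (Q₃ : Subgroup P).map P.subtype, fun h => h12 (hinj _ _ h), fun h => h13 (hinj _ _ h),
      fun h => h23' (hinj _ _ h), ?_⟩
    intro S
    constructor
    · intro hS
      obtain ⟨Q, rfl⟩ := of_line S hS
      rcases hall Q with rfl | rfl | rfl
      · exact Or.inl rfl
      · exact Or.inr (Or.inl rfl)
      · exact Or.inr (Or.inr rfl)
    · rintro (rfl | rfl | rfl)
      · exact line_of Q₁
      · exact line_of Q₂
      · exact line_of Q₃

end Cfsg.Agent.Lib.Helper92.SWSY1
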