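import Mathlib
import Cfsg.Agent.Lib.Helper10.SWDefs
import Cfsg.Agent.Lib.Helper92.SWSY1

/-!
# Sims–Wong, piece SY2: combinatorics of the three lines of a point
-/

set_option autoImplicit false

namespace Cfsg.Agent.Lib.Helper92.SWSY2

open Pointwise
open Cfsg.Agent.Lib.Helper10.SWDefs
open Cfsg.Agent.Lib.Helper92.SWSY1

universe u

/-- Three pairwise distinct members of a three-element list exhaust it. -/
theorem three_cover {α : Type*} {L₁ L₂ L₃ A B C X : α} (hA : A = L₁ ∨ A = L₂ ∨ A = L₃)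
    (hB : B = L₁ ∨ B = L₂ ∨ B = L₃) (hC : C = L₁ ∨ C = L₂ ∨ C = L₃)
    (hX : X = L₁ ∨ X = L₂ ∨ X = L₃) (hAB : A ≠ B) (hAC : A ≠ C) (hBC : B ≠ C) :
    X = A ∨ X = B ∨ X = C := by
  rcases hA with rfl | rfl | rfl <;> rcases hB with rfl | rfl | rfl <;>
    rcases hC with rfl | rfl | rfl <;> rcases hX with rfl | rfl | rfl <;> simp_all

theorem main : StSY2.{u} := by
  intro G _ _ P k hP hstr
  obtain ⟨hconj, hinf, hidx, hself, -, L₁, L₂, L₃, -, -, -, hlines⟩ := hstr
  -- the swap property
  have hswap : ∀ S S' : Subgroup G, IsLine P S → IsLine P S' → S' ≠ S → ∀ s ∈ S, s ∉ Qs P →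
      MulAut.conj s • S' ≠ S' ∧ MulAut.conj s • S' ≠ S ∧ IsLine P (MulAut.conj s • S') := by
    intro S S' hS hS' hne s hs hsQ
    refine ⟨?_, ?_, ?_⟩
    · intro h
      have h1 := hself S' hS' s (hS.1 hs) h
      apply hsQ
      rw [← hinf S S' hS hS' (Ne.symm hne)]
      exact ⟨hs, h1⟩
    · intro h
      apply hne
      have h1 : MulAut.conj s⁻¹ • MulAut.conj s • S' = MulAut.conj s⁻¹ • S := by rw [h]
      rw [conj_inv_smul, Subgroup.conj_smul_eq_self_of_mem (S.inv_mem hs)] at h1
      exact h1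
    · have h1 := isLine_conj s hS'
      rwa [Subgroup.conj_smul_eq_self_of_mem (hS.1 hs)] at h1
  refine ⟨?_, ?_, hswap, ?_, ?_⟩
  · intro S hS
    exact IsPGroup.of_card (card_line hP hS)
  · intro S S' hS hS' hne
    exact line_sup hP hS hS' hne
  · -- inv3
    intro S hS s hs hsQ d hd hd3
    have hdP : MulAut.conj d • P = P := Subgroup.conj_smul_eq_self_of_mem hd
    have hline : ∀ T : Subgroup G, IsLine P T → IsLine P (MulAut.conj d • T) := by
      intro T hT
      have h1 := isLine_conj d hT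
      rwa [hdP] at h1
    have hnot : ∀ T : Subgroup G, IsLine P T → d ∉ T := by
      intro T hT hdT
      have h1 := Subgroup.orderOf_dvd_natCard T hdT
      rw [hd3, card_line hP hT] at h1
      have h2 := Nat.Prime.dvd_of_dvd_pow Nat.prime_three h1
      omega
    have hfix : ∀ T : Subgroup G, IsLine P T → MulAut.conj d • T ≠ T := by
      intro T hT h
      exact hnot T hT (hself T hT d hd h)
    obtain ⟨B, hB⟩ : ∃ B : Subgroup G, B = MulAut.conj d • S := ⟨_, rfl⟩
    obtain ⟨C, hC⟩ : ∃ C : Subgroup G, C = MulAut.conj d • B := ⟨_, rfl⟩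
    have hBl : IsLine P B := by rw [hB]; exact hline S hS
    have hCl : IsLine P C := by rw [hC]; exact hline B hBl
    have hd3' : d * d * d = 1 := by
      have h1 := pow_orderOf_eq_one d
      rw [hd3] at h1
      have h2 : d ^ 3 = d * d * d := by rw [pow_succ, pow_two]
      rw [← h2]
      exact h1
    have hCS : MulAut.conj d • C = S := by
      rw [hC, hB, conj_mul_smul, conj_mul_smul, hd3', conj_one_smul]
    have hBS : B ≠ S := by rw [hB]; exact hfix S hS
    have hCB : C ≠ B := by rw [hC]; exact hfix B hBl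
    have hCS' : C ≠ S := by
      intro h
      apply hBS
      rw [h] at hCS
      rw [hB]
      exact hCS
    have hall : ∀ X : Subgroup G, IsLine P X → X = S ∨ X = B ∨ X = C := by
      intro X hX
      exact three_cover ((hlines S).1 hS) ((hlines B).1 hBl) ((hlines C).1 hCl)
        ((hlines X).1 hX) (Ne.symm hBS) (Ne.symm hCS') (Ne.symm hCB)
    have hsS : MulAut.conj s • S = S := Subgroup.conj_smul_eq_self_of_mem hs
    have hsS' : MulAut.conj s⁻¹ • S = S := Subgroup.conj_smul_eq_self_of_mem (S.inv_mem hs)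
    have hsB : MulAut.conj s • B = C := by
      obtain ⟨h1, h2, h3⟩ := hswap S B hS hBl hBS s hs hsQ
      rcases hall _ h3 with h | h | h
      · exact absurd h h2
      · exact absurd h h1
      · exact h
    have hsC : MulAut.conj s • C = B := by
      obtain ⟨h1, h2, h3⟩ := hswap S C hS hCl hCS' s hs hsQ
      rcases hall _ h3 with h | h | h
      · exact absurd h h2
      · exact h
      · exact absurd h h1
    have hsB' : MulAut.conj s⁻¹ • B = C := by rw [← hsC, conj_inv_smul]
    have hsC' : MulAut.conj s⁻¹ • C = B := by rw [← hsB, conj_inv_smul]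
    have hg : ∀ X : Subgroup G, MulAut.conj (s * d * s⁻¹ * d) • X
        = MulAut.conj s • MulAut.conj d • MulAut.conj s⁻¹ • MulAut.conj d • X := by
      intro X
      simp only [conj_mul_smul, mul_assoc]
    have hgP : s * d * s⁻¹ * d ∈ P :=
      P.mul_mem (P.mul_mem (P.mul_mem (hS.1 hs) hd) (P.inv_mem (hS.1 hs))) hd
    have hgS : s * d * s⁻¹ * d ∈ S := by
      apply hself S hS _ hgP
      rw [hg, ← hB, hsB', hCS, hsS]
    have hgB : s * d * s⁻¹ * d ∈ B := by
      apply hself B hBl _ hgP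
      rw [hg, ← hC, hsC', ← hC, hsC]
    have hgC : s * d * s⁻¹ * d ∈ C := by
      apply hself C hCl _ hgP
      rw [hg, hCS, hsS', ← hB, hsB]
    unfold Qs
    rw [Subgroup.mem_sInf]
    intro X hX
    rcases hall X hX with rfl | rfl | rfl
    · exact hgS
    · exact hgB
    · exact hgC
  · -- two_trans
    intro S₁ S₂ T₁ T₂ hS₁ hS₂ hT₁ hT₂ hS hT
    obtain ⟨p₁, hp₁, hT₁'⟩ := hconj S₁ T₁ hS₁ hT₁
    have hp₁P : MulAut.conj p₁ • P = P := Subgroup.conj_smul_eq_self_of_mem hp₁
    have hS₂' : IsLine P (MulAut.conj p₁ • S₂) := by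
      have h1 := isLine_conj p₁ hS₂
      rwa [hp₁P] at h1
    have hne : MulAut.conj p₁ • S₂ ≠ T₁ := by
      rw [hT₁']
      intro h
      apply hS
      have h1 : MulAut.conj p₁⁻¹ • MulAut.conj p₁ • S₂ = MulAut.conj p₁⁻¹ • MulAut.conj p₁ • S₁ := by
        rw [h]
      rw [conj_inv_smul, conj_inv_smul] at h1
      exact h1.symm
    by_cases h2 : MulAut.conj p₁ • S₂ = T₂
    · exact ⟨p₁, hp₁, hT₁'.symm, h2⟩
    · -- a swap inside `T₁`
      obtain ⟨s, hs, hsQ⟩ : ∃ s ∈ T₁, s ∉ Qs P := by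
        by_contra hcon
        have h3 : T₁ ≤ Qs P := fun x hx => by
          by_contra hx'
          exact hcon ⟨x, hx, hx'⟩
        have h4 := hidx T₁ hT₁
        rw [Subgroup.relIndex_eq_one.2 h3] at h4
        omega
      obtain ⟨h5, h6, h7⟩ := hswap T₁ _ hT₁ hS₂' hne s hs hsQ
      have h8 := three_cover ((hlines T₁).1 hT₁) ((hlines _).1 hS₂') ((hlines T₂).1 hT₂)
        ((hlines _).1 h7) (Ne.symm hne) hT h2
      refine ⟨s * p₁, P.mul_mem (hT₁.1 hs) hp₁, ?_, ?_⟩
      · rw [← conj_mul_smul, ← hT₁', Subgroup.conj_smul_eq_self_of_mem hs]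
      · rw [← conj_mul_smul]
        rcases h8 with h | h | h
        · exact absurd h h6
        · exact absurd h h5
        · exact h

end Cfsg.Agent.Lib.Helper92.SWSY2
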