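import Mathlib
import Cfsg.Agent.Lib.Helper16.BRStmt

/-!
# Brauer–Reynolds piece [ARITHA]: the arithmetic lemma `ArithA`
-/

set_option autoImplicit false

namespace Cfsg.Agent.Lib.Helper92.BRARITHA

theorem main : Cfsg.Agent.Lib.Helper16.BRStmt.ArithA := by
  intro p e n f hp he hep hlt hdvd hmod hne
  obtain ⟨g, hg⟩ := hdvd
  have hp2 : 2 ≤ p := hp.two_le
  -- f = 1 + k p with k ≥ 1
  obtain ⟨k, hk⟩ : ∃ k, f = 1 + k * p := by
    refine ⟨f / p, ?_⟩
    have := Nat.div_add_mod f p
    rw [hmod] at this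
    nlinarith [this]
  have hk1 : 1 ≤ k := by
    rcases Nat.eq_zero_or_pos k with h0 | h0
    · subst h0; simp at hk; exact absurd hk hne
    · exact h0
  -- g ≡ e mod p
  have hgmod : g % p = e % p := by
    have h1 : (f * g) % p = g % p := by
      rw [Nat.mul_mod, hmod, one_mul, Nat.mod_mod]
    have h2 : (e * (1 + n * p)) % p = e % p := by
      have : e * (1 + n * p) = e + (e * n) * p := by ring
      rw [this, Nat.add_mul_mod_self_right]
    rw [← h1, ← hg, h2]
  have hemod : e % p = e := Nat.mod_eq_of_lt hep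
  -- g < p
  have hfg : f * g < p ^ 2 := by rw [← hg]; exact hlt
  have hgp : g < p := by
    by_contra hcon
    push Not at hcon
    have : p ^ 2 ≤ f * g := by
      have hf : 1 + p ≤ f := by rw [hk]; nlinarith
      calc p ^ 2 = p * p := by ring
        _ ≤ (1 + p) * p := by nlinarith
        _ ≤ f * g := Nat.mul_le_mul hf hcon
    omega
  have hge : g = e := by
    rw [Nat.mod_eq_of_lt hgp, hemod] at hgmod
    exact hgmod
  subst hge
  have hgpos : 0 < g := he
  have := Nat.eq_of_mul_eq_mul_left hgpos (by rw [hg]; ring : g * (1 + n * p) = g * f)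
  exact this.symm

end Cfsg.Agent.Lib.Helper92.BRARITHA
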