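import Mathlib
import Cfsg.Agent.Lib.Helper16.BRStmt

/-!
# Brauer–Reynolds piece [ARITHB]: the arithmetic lemma `ArithB`
-/

set_option autoImplicit false

namespace Cfsg.Agent.Lib.Helper92.BRARITHB

theorem main : Cfsg.Agent.Lib.Helper16.BRStmt.ArithB := by
  intro p e n f hp he hep hlt hdvd hmod
  obtain ⟨g, hg⟩ := hdvd
  have hp2 : 2 ≤ p := hp.two_le
  have hp3 : 3 ≤ p := by omega
  -- f + 1 = k * p
  obtain ⟨k, hk, hk1⟩ : ∃ k, f + 1 = k * p ∧ 1 ≤ k := by
    refine ⟨f / p + 1, ?_, Nat.le_add_left 1 _⟩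
    have := Nat.div_add_mod f p
    rw [hmod] at this
    have h2 : (f / p + 1) * p = p * (f / p) + p := by ring
    rw [h2]; omega
  have hgpos : 0 < g := by
    rcases Nat.eq_zero_or_pos g with h0 | h0
    · subst h0
      have : 0 < e * (1 + n * p) := Nat.mul_pos he (by positivity)
      rw [hg] at this; simp at this
    · exact h0
  -- p ∣ g + e
  have hdv : p ∣ g + e := by
    have h1 : g + e + e * n * p = k * p * g := by
      have : (f + 1) * g = k * p * g := by rw [hk]
      have h3 : (f + 1) * g = f * g + g := by ring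
      have h4 : e * (1 + n * p) = e + e * n * p := by ring
      rw [h3, ← hg, h4] at this
      omega
    have h2 : p ∣ g + e + e * n * p := by
      rw [h1]; exact Dvd.intro_left _ (by ring : k * g * p = k * p * g)
    exact (Nat.dvd_add_left (Dvd.intro_left _ rfl)).1 h2
  obtain ⟨j, hj⟩ := hdv
  have hj1 : 1 ≤ j := by
    rcases Nat.eq_zero_or_pos j with h0 | h0
    · subst h0; omega
    · exact h0
  have hfg : f * g < p ^ 2 := by rw [← hg]; exact hlt
  have hgp : p ≤ g + e := by rw [hj]; nlinarith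
  -- k = 1
  have hk_eq : k = 1 := by
    by_contra hcon
    have hk2 : 2 ≤ k := by omega
    have hf : 2 * p ≤ f + 1 := by rw [hk]; nlinarith
    have h2g : p + 1 ≤ 2 * g := by omega
    have : 2 * p ^ 2 ≤ 2 * (f * g) := by
      have h5 : (2 * p - 1) * (p + 1) ≤ f * (2 * g) := Nat.mul_le_mul (by omega) h2g
      have h6 : 2 * p ^ 2 ≤ (2 * p - 1) * (p + 1) := by
        obtain ⟨q, rfl⟩ : ∃ q, p = q + 1 := ⟨p - 1, by omega⟩
        have : 2 * (q + 1) - 1 = 2 * q + 1 := by omega
        rw [this]; nlinarith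
      calc 2 * p ^ 2 ≤ (2 * p - 1) * (p + 1) := h6
        _ ≤ f * (2 * g) := h5
        _ = 2 * (f * g) := by ring
    omega
  subst hk_eq
  have hf : f = p - 1 := by omega
  refine ⟨hf, ?_⟩
  have hj_eq : j = 1 := by
    by_contra hcon
    have hj2 : 2 ≤ j := by omega
    have hg2 : 2 * p ≤ g + e := by rw [hj]; nlinarith
    have h2g : 3 * p + 1 ≤ 2 * g := by omega
    have : 2 * p ^ 2 ≤ 2 * (f * g) := by
      have h5 : (p - 1) * (3 * p + 1) ≤ f * (2 * g) := Nat.mul_le_mul (by omega) h2g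
      have h6 : 2 * p ^ 2 ≤ (p - 1) * (3 * p + 1) := by
        obtain ⟨q, rfl⟩ : ∃ q, p = q + 3 := ⟨p - 3, by omega⟩
        have : q + 3 - 1 = q + 2 := by omega
        rw [this]; nlinarith
      calc 2 * p ^ 2 ≤ (p - 1) * (3 * p + 1) := h6
        _ ≤ f * (2 * g) := h5
        _ = 2 * (f * g) := by ring
    omega
  subst hj_eq
  -- g = p - e, f = p - 1
  obtain ⟨q, rfl⟩ : ∃ q, p = q + 1 := ⟨p - 1, by omega⟩
  have hf' : f = q := by omega
  subst hf'
  have hge : g + e = f + 1 := by omega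
  show e * (n + 1) = f + 1 - 1
  rw [Nat.add_sub_cancel]
  have h7 : (f + 1) * (e * (n + 1)) = (f + 1) * f := by
    have h8 : e * (1 + n * (f + 1)) + f * e = f * (g + e) := by rw [hg]; ring
    rw [hge] at h8
    nlinarith [h8]
  exact Nat.eq_of_mul_eq_mul_left (by omega) h7

end Cfsg.Agent.Lib.Helper92.BRARITHB
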