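import Mathlib
import Cfsg.Prelude.Def_Sporadic_a
import Cfsg.Agent.Lib.Helper7.GolayCode

set_option autoImplicit false

namespace Cfsg.Agent.Lib.Helper92.LeechCore

open Cfsg Cfsg.Agent.Lib.Helper7.GolayBase Cfsg.Agent.Lib.Helper7.GolayCode

/-! ### Supports of code words -/

theorem empty_mem : (∅ : Finset GolayPt) ∈ supports (golayCode : Set (GolayPt → ZMod 2)) :=
  (mem_supports_iff _).mpr ⟨0, zero_mem_codeList, mk_zero⟩

theorem univ_mem :
    (Finset.univ : Finset GolayPt) ∈ supports (golayCode : Set (GolayPt → ZMod 2)) :=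
  (mem_supports_iff _).mpr ⟨full, full_mem_codeList, mk_full⟩

theorem symmDiff_mem {c d : Finset GolayPt}
    (hc : c ∈ supports (golayCode : Set (GolayPt → ZMod 2)))
    (hd : d ∈ supports (golayCode : Set (GolayPt → ZMod 2))) :
    symmDiff c d ∈ supports (golayCode : Set (GolayPt → ZMod 2)) := by
  obtain ⟨a, ha, rfl⟩ := (mem_supports_iff c).mp hc
  obtain ⟨b, hb, rfl⟩ := (mem_supports_iff d).mp hd
  rw [← mk_xor]
  exact mk_mem_supports (xor_mem_codeList ha hb)

theorem compl_mem {c : Finset GolayPt}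
    (hc : c ∈ supports (golayCode : Set (GolayPt → ZMod 2))) :
    cᶜ ∈ supports (golayCode : Set (GolayPt → ZMod 2)) := by
  have h := symmDiff_mem hc univ_mem
  have e : symmDiff c Finset.univ = cᶜ := by
    ext i
    simp [Finset.mem_symmDiff]
  rwa [e] at h

theorem card_mem {c : Finset GolayPt}
    (hc : c ∈ supports (golayCode : Set (GolayPt → ZMod 2))) :
    c.card = 0 ∨ c.card = 8 ∨ c.card = 12 ∨ c.card = 16 ∨ c.card = 24 := by
  obtain ⟨m, hm, rfl⟩ := (mem_supports_iff c).mp hc
  rw [card_mk]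
  exact weights m hm

theorem card_golayPt : Fintype.card GolayPt = 24 := by decide

/-! ### `leechSet` is an additive subgroup -/

theorem leechSet_zero : (0 : GolayPt → ℤ) ∈ leechSet := by
  refine ⟨0, fun i => rfl, by simp, fun k => ?_⟩
  by_cases hk : (0 : ℤ) ≡ k [ZMOD 4]
  · have : (Finset.univ.filter fun i : GolayPt => (0 : GolayPt → ℤ) i ≡ k [ZMOD 4]) = Finset.univ :=
      Finset.filter_true_of_mem (fun i _ => hk)
    rw [this]
    exact univ_mem
  · have : (Finset.univ.filter fun i : GolayPt => (0 : GolayPt → ℤ) i ≡ k [ZMOD 4]) = ∅ :=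
      Finset.filter_false_of_mem (fun i _ => hk)
    rw [this]
    exact empty_mem

theorem leechSet_neg {x : GolayPt → ℤ} (hx : x ∈ leechSet) : -x ∈ leechSet := by
  obtain ⟨m, h1, h2, h3⟩ := hx
  refine ⟨-m, fun i => ?_, ?_, fun k => ?_⟩
  · have := h1 i
    simp only [Int.ModEq, Pi.neg_apply] at *
    omega
  · simp only [Pi.neg_apply, Finset.sum_neg_distrib, Int.ModEq] at *
    omega
  · have : (Finset.univ.filter fun i => (-x) i ≡ k [ZMOD 4])
        = (Finset.univ.filter fun i => x i ≡ -k [ZMOD 4]) := by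
      apply Finset.filter_congr
      intro i _
      simp only [Int.ModEq, Pi.neg_apply]
      omega
    rw [this]
    exact h3 (-k)

theorem leechSet_add {x y : GolayPt → ℤ} (hx : x ∈ leechSet) (hy : y ∈ leechSet) :
    x + y ∈ leechSet := by
  obtain ⟨m, h1, h2, h3⟩ := hx
  obtain ⟨m', h1', h2', h3'⟩ := hy
  refine ⟨m + m', fun i => ?_, ?_, fun k => ?_⟩
  · have := h1 i
    have := h1' i
    simp only [Int.ModEq, Pi.add_apply] at *
    omega
  · simp only [Pi.add_apply, Finset.sum_add_distrib, Int.ModEq] at *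
    omega
  · by_cases hk : (k - m - m') % 2 = 0
    · have : (Finset.univ.filter fun i => (x + y) i ≡ k [ZMOD 4])
          = (symmDiff (Finset.univ.filter fun i => x i ≡ m [ZMOD 4])
              (Finset.univ.filter fun i => y i ≡ k - m [ZMOD 4]))ᶜ := by
        ext i
        have e1 := h1 i
        have e2 := h1' i
        rw [Finset.mem_compl, Finset.mem_symmDiff, Finset.mem_filter, Finset.mem_filter,
          Finset.mem_filter]
        simp only [Finset.mem_univ, true_and, Pi.add_apply, Int.ModEq] at e1 e2 ⊢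
        omega
      rw [this]
      exact compl_mem (symmDiff_mem (h3 m) (h3' (k - m)))
    · have : (Finset.univ.filter fun i => (x + y) i ≡ k [ZMOD 4]) = ∅ := by
        apply Finset.filter_false_of_mem
        intro i _
        have e1 := h1 i
        have e2 := h1' i
        simp only [Int.ModEq, Pi.add_apply] at *
        omega
      rw [this]
      exact empty_mem

/-- `leechSet` as an additive subgroup. -/
def leechSub : AddSubgroup (GolayPt → ℤ) where
  carrier := leechSet
  add_mem' := leechSet_add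
  zero_mem' := leechSet_zero
  neg_mem' := leechSet_neg

theorem coe_leechSub : (leechSub : Set (GolayPt → ℤ)) = leechSet := rfl

theorem leechLattice_eq : leechLattice = leechSub := by
  apply le_antisymm
  · unfold leechLattice
    rw [AddSubgroup.closure_le]
    exact fun x hx => hx
  · intro x hx
    exact AddSubgroup.subset_closure hx

theorem mem_leechLattice_iff {x : GolayPt → ℤ} : x ∈ leechLattice ↔ x ∈ leechSet := by
  rw [leechLattice_eq]
  rfl

/-! ### Norms -/

theorem sq_sub_mod16 (t m : ℤ) (h : t ≡ m [ZMOD 2]) :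
    (16 : ℤ) ∣ (t - m) ^ 2 - (if t ≡ m + 2 [ZMOD 4] then 4 else 0) := by
  have h2 : (t - m) % 4 = 0 ∨ (t - m) % 4 = 2 := by
    simp only [Int.ModEq] at h
    omega
  rcases h2 with h2 | h2
  · have hne : ¬ (t ≡ m + 2 [ZMOD 4]) := by
      simp only [Int.ModEq]
      omega
    rw [if_neg hne, sub_zero]
    obtain ⟨q, hq⟩ : (4 : ℤ) ∣ t - m := Int.dvd_of_emod_eq_zero h2
    rw [hq]
    exact ⟨q ^ 2, by ring⟩
  · have hpos : t ≡ m + 2 [ZMOD 4] := by
      simp only [Int.ModEq]
      omega
    rw [if_pos hpos]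
    obtain ⟨q, hq⟩ : (4 : ℤ) ∣ t - m - 2 := Int.dvd_of_emod_eq_zero (by omega)
    have : t - m = 4 * q + 2 := by linarith
    rw [this]
    exact ⟨q ^ 2 + q, by ring⟩

theorem sqNorm_dvd16_of_leechSet {x : GolayPt → ℤ} (hx : x ∈ leechSet) : (16 : ℤ) ∣ sqNorm x := by
  obtain ⟨m, h1, h2, h3⟩ := hx
  have hexp : sqNorm x = ∑ i, (x i - m) ^ 2 + 2 * m * ∑ i, x i - 24 * m ^ 2 := by
    unfold sqNorm
    have : ∀ i, x i ^ 2 = (x i - m) ^ 2 + 2 * m * x i - m ^ 2 := fun i => by ring
    simp_rw [this]
    rw [Finset.sum_sub_distrib, Finset.sum_add_distrib, ← Finset.mul_sum, Finset.sum_const,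
      Finset.card_univ, card_golayPt]
    simp
  have hA := h3 (m + 2)
  have hcardA : (4 : ℤ) ∣ ((Finset.univ.filter fun i => x i ≡ m + 2 [ZMOD 4]).card : ℤ) := by
    rcases card_mem hA with h | h | h | h | h <;> rw [h] <;> decide
  have hsum1 : (16 : ℤ) ∣ ∑ i, ((x i - m) ^ 2 - (if x i ≡ m + 2 [ZMOD 4] then 4 else 0)) :=
    Finset.dvd_sum (fun i _ => sq_sub_mod16 (x i) m (h1 i))
  rw [Finset.sum_sub_distrib] at hsum1
  have hsum2 : ∑ i, (if x i ≡ m + 2 [ZMOD 4] then (4 : ℤ) else 0)
      = 4 * (Finset.univ.filter fun i => x i ≡ m + 2 [ZMOD 4]).card := by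
    rw [Finset.sum_ite, Finset.sum_const, Finset.sum_const_zero]
    simp
    ring
  rw [hsum2] at hsum1
  obtain ⟨a, ha⟩ := hsum1
  obtain ⟨b, hb⟩ := hcardA
  obtain ⟨s, hs⟩ : (8 : ℤ) ∣ ∑ i, x i - 4 * m := Int.modEq_iff_dvd.mp h2.symm
  have e1 : ∑ i, (x i - m) ^ 2 = 16 * a + 16 * b := by
    rw [hb] at ha
    linarith
  have e2 : ∑ i, x i = 8 * s + 4 * m := by linarith
  rw [hexp, e1, e2]
  exact ⟨a + b + m * s - m ^ 2, by ring⟩

theorem min_norm_of_leechSet {x : GolayPt → ℤ} (hx : x ∈ leechSet) (h0 : x ≠ 0) :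
    32 ≤ sqNorm x := by
  have h16 := sqNorm_dvd16_of_leechSet hx
  obtain ⟨m, h1, h2, h3⟩ := hx
  by_cases hm : m % 2 = 1
  · have h24 : 24 ≤ sqNorm x := by
      unfold sqNorm
      have hge : ∀ i ∈ (Finset.univ : Finset GolayPt), (1 : ℤ) ≤ x i ^ 2 := by
        intro i _
        have := h1 i
        have hne : x i ≠ 0 := by
          intro h
          simp only [Int.ModEq, h] at this
          omega
        have : 0 < x i ^ 2 := by positivity
        omega
      calc (24 : ℤ) = ∑ _i : GolayPt, (1 : ℤ) := by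
            rw [Finset.sum_const, Finset.card_univ, card_golayPt]; simp
        _ ≤ ∑ i, x i ^ 2 := Finset.sum_le_sum hge
    obtain ⟨k, hk⟩ := h16
    omega
  · have hev : ∀ i, x i % 2 = 0 := by
      intro i
      have := h1 i
      simp only [Int.ModEq] at this
      omega
    have hA := h3 2
    obtain ⟨A, hAdef⟩ : ∃ A : Finset GolayPt, A = Finset.univ.filter fun i => x i ≡ 2 [ZMOD 4] :=
      ⟨_, rfl⟩
    rw [← hAdef] at hA
    rcases card_mem hA with hc | hc
    · have hA0 : A = ∅ := Finset.card_eq_zero.mp hc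
      have h4 : ∀ i, x i % 4 = 0 := by
        intro i
        have hi : i ∉ A := by rw [hA0]; simp
        rw [hAdef, Finset.mem_filter] at hi
        simp only [Finset.mem_univ, true_and, Int.ModEq] at hi
        have := hev i
        omega
      obtain ⟨j, hj⟩ : ∃ j, x j ≠ 0 := by
        by_contra h
        rw [not_exists] at h
        exact h0 (funext fun i => not_not.mp (h i))
      have hsq : ∀ i, x i ≠ 0 → 16 ≤ x i ^ 2 := by
        intro i hi
        obtain ⟨t, ht⟩ : (4 : ℤ) ∣ x i := Int.dvd_of_emod_eq_zero (h4 i)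
        have ht0 : t ≠ 0 := by
          rintro rfl
          simp at ht
          exact hi ht
        have h1t : 1 ≤ t ^ 2 := by
          have := sq_nonneg t
          have : t ^ 2 ≠ 0 := pow_ne_zero 2 ht0
          omega
        rw [ht]
        nlinarith
      by_cases hother : ∃ i, i ≠ j ∧ x i ≠ 0
      · obtain ⟨i, hij, hi⟩ := hother
        have hle : x i ^ 2 + x j ^ 2 ≤ sqNorm x := by
          unfold sqNorm
          have hp := Finset.sum_pair (f := fun k => x k ^ 2) hij
          rw [← hp]
          exact Finset.sum_le_sum_of_subset_of_nonneg (Finset.subset_univ _)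
            (fun k _ _ => sq_nonneg _)
        have := hsq i hi
        have := hsq j hj
        linarith
      · have hother' : ∀ i, i ≠ j → x i = 0 := by
          intro i hij
          by_contra hi
          exact hother ⟨i, hij, hi⟩
        have hsum : ∑ i, x i = x j :=
          Finset.sum_eq_single j (fun i _ hi => hother' i hi)
            (fun h => absurd (Finset.mem_univ j) h)
        have h8 : x j % 8 = 0 := by
          have := h2
          rw [hsum] at this
          simp only [Int.ModEq] at this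
          omega
        obtain ⟨t, ht⟩ : (8 : ℤ) ∣ x j := Int.dvd_of_emod_eq_zero h8
        have ht0 : t ≠ 0 := by
          rintro rfl
          simp at ht
          exact hj ht
        have h1t : 1 ≤ t ^ 2 := by
          have := sq_nonneg t
          have : t ^ 2 ≠ 0 := pow_ne_zero 2 ht0
          omega
        have h64 : 64 ≤ x j ^ 2 := by
          rw [ht]
          nlinarith
        have hle : x j ^ 2 ≤ sqNorm x := by
          unfold sqNorm
          exact Finset.single_le_sum (f := fun i => x i ^ 2) (fun i _ => sq_nonneg (x i))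
            (Finset.mem_univ j)
        linarith
    · have hA8 : 8 ≤ A.card := by
        rcases hc with h | h | h | h <;> omega
      have hle : (4 : ℤ) * A.card ≤ sqNorm x := by
        unfold sqNorm
        calc (4 : ℤ) * A.card = ∑ _i ∈ A, (4 : ℤ) := by
              rw [Finset.sum_const]; simp; ring
          _ ≤ ∑ i ∈ A, x i ^ 2 := Finset.sum_le_sum (fun i hi => by
                rw [hAdef, Finset.mem_filter] at hi
                simp only [Finset.mem_univ, true_and, Int.ModEq] at hi
                have h2' : x i ≤ -2 ∨ 2 ≤ x i := by omega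
                rcases h2' with h | h <;> nlinarith)
          _ ≤ ∑ i, x i ^ 2 := Finset.sum_le_sum_of_subset_of_nonneg (Finset.subset_univ _)
                (fun k _ _ => sq_nonneg _)
      have : (8 : ℤ) ≤ A.card := by exact_mod_cast hA8
      linarith

theorem sqNorm_dvd16 {x : GolayPt → ℤ} (hx : x ∈ leechLattice) : (16 : ℤ) ∣ sqNorm x :=
  sqNorm_dvd16_of_leechSet (mem_leechLattice_iff.mp hx)

theorem min_norm {x : GolayPt → ℤ} (hx : x ∈ leechLattice) (h0 : x ≠ 0) : 32 ≤ sqNorm x :=
  min_norm_of_leechSet (mem_leechLattice_iff.mp hx) h0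

/-! ### Polarisation -/

theorem sqNorm_add (x y : GolayPt → ℤ) :
    sqNorm (x + y) = sqNorm x + 2 * dotInt x y + sqNorm y := by
  unfold sqNorm dotInt
  rw [Finset.mul_sum, ← Finset.sum_add_distrib, ← Finset.sum_add_distrib]
  apply Finset.sum_congr rfl
  intro i _
  simp only [Pi.add_apply]
  ring

theorem sqNorm_sub (x y : GolayPt → ℤ) :
    sqNorm (x - y) = sqNorm x - 2 * dotInt x y + sqNorm y := by
  unfold sqNorm dotInt
  rw [Finset.mul_sum, ← Finset.sum_sub_distrib, ← Finset.sum_add_distrib]
  apply Finset.sum_congr rfl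
  intro i _
  simp only [Pi.sub_apply]
  ring

theorem sqNorm_two_smul (z : GolayPt → ℤ) : sqNorm (2 • z) = 4 * sqNorm z := by
  unfold sqNorm
  rw [Finset.mul_sum]
  apply Finset.sum_congr rfl
  intro i _
  simp only [Pi.smul_apply, smul_eq_mul]
  ring

theorem sqNorm_neg (x : GolayPt → ℤ) : sqNorm (-x) = sqNorm x := by
  unfold sqNorm
  apply Finset.sum_congr rfl
  intro i _
  simp only [Pi.neg_apply]
  ring

theorem dot_dvd8 {x y : GolayPt → ℤ} (hx : x ∈ leechLattice) (hy : y ∈ leechLattice) :
    (8 : ℤ) ∣ dotInt x y := by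
  obtain ⟨a, ha⟩ := sqNorm_dvd16 hx
  obtain ⟨b, hb⟩ := sqNorm_dvd16 hy
  obtain ⟨c, hc⟩ := sqNorm_dvd16 (leechLattice.add_mem hx hy)
  rw [sqNorm_add, ha, hb] at hc
  exact ⟨c - a - b, by linarith⟩

/-- Short vectors congruent modulo twice the lattice: either equal, opposite, or orthogonal of
norm 64. -/
theorem short_congr {v w : GolayPt → ℤ} (hv : v ∈ leechLattice) (hw : w ∈ leechLattice)
    (hvn : sqNorm v ≤ 64) (hwn : sqNorm w ≤ 64)
    (hc : ∃ z ∈ leechLattice, v - w = 2 • z) :
    w = v ∨ w = -v ∨ (sqNorm v = 64 ∧ sqNorm w = 64 ∧ dotInt v w = 0) := by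
  by_cases h1 : w = v
  · exact Or.inl h1
  by_cases h2 : w = -v
  · exact Or.inr (Or.inl h2)
  right; right
  obtain ⟨z, hz, hvw⟩ := hc
  have hz0 : z ≠ 0 := by
    rintro rfl
    apply h1
    have : v - w = 0 := by rw [hvw]; simp
    exact (sub_eq_zero.mp this).symm
  have hzw : z + w ∈ leechLattice := leechLattice.add_mem hz hw
  have hvw' : v + w = 2 • (z + w) := by
    have : v = 2 • z + w := by rw [← hvw]; abel
    rw [this]
    simp only [smul_add, two_smul]
    abel
  have hzw0 : z + w ≠ 0 := by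
    intro h
    apply h2
    have : v + w = 0 := by rw [hvw', h]; simp
    exact eq_neg_of_add_eq_zero_right this
  have n1 := min_norm hz hz0
  have n2 := min_norm hzw hzw0
  have e1 : sqNorm (v - w) = 4 * sqNorm z := by rw [hvw, sqNorm_two_smul]
  have e2 : sqNorm (v + w) = 4 * sqNorm (z + w) := by rw [hvw', sqNorm_two_smul]
  rw [sqNorm_sub] at e1
  rw [sqNorm_add] at e2
  refine ⟨by linarith, by linarith, by linarith⟩

end Cfsg.Agent.Lib.Helper92.LeechCore
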