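import Mathlib
import Cfsg.Prelude.Def_Sporadic_a
import Cfsg.Agent.Lib.Helper92.LeechCore

/-!
Membership criteria for the lattice (even / odd vectors), sign twists, and the classification of
the vectors of sum of squares 32 into three shapes.
-/

set_option autoImplicit false

namespace Cfsg.Agent.Lib.Helper92.MinVec

open Cfsg Cfsg.Agent.Lib.Helper92.LeechCore

/-- `c` is the support of a code word. -/
abbrev IsCW (c : Finset GolayPt) : Prop := c ∈ supports (golayCode : Set (GolayPt → ZMod 2))

theorem four_dvd_card {c : Finset GolayPt} (hc : IsCW c) : 4 ∣ c.card := by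
  rcases card_mem hc with h | h | h | h | h <;> omega

theorem parity {v : GolayPt → ℤ} (hv : v ∈ leechLattice) :
    (∀ i, v i % 2 = 0) ∨ (∀ i, v i % 2 = 1) := by
  obtain ⟨m, h1, -, -⟩ := mem_leechLattice_iff.mp hv
  rcases Int.emod_two_eq_zero_or_one m with hm | hm
  · left
    intro i
    have := h1 i
    simp only [Int.ModEq] at this
    omega
  · right
    intro i
    have := h1 i
    simp only [Int.ModEq] at this
    omega

/-- Membership criterion for even vectors. -/
theorem mem_iff_even {v : GolayPt → ℤ} (hev : ∀ i, v i % 2 = 0) :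
    v ∈ leechLattice ↔ IsCW (Finset.univ.filter fun i => v i % 4 = 2) ∧ (∑ i, v i) % 8 = 0 := by
  rw [mem_leechLattice_iff]
  constructor
  · rintro ⟨m, h1, h2, h3⟩
    have hm : m % 2 = 0 := by
      have := h1 none
      have := hev none
      simp only [Int.ModEq] at *
      omega
    constructor
    · have e : (Finset.univ.filter fun i => v i ≡ 2 [ZMOD 4])
          = (Finset.univ.filter fun i => v i % 4 = 2) :=
        Finset.filter_congr (fun i _ => by simp only [Int.ModEq]; omega)
      rw [← e]
      exact h3 2
    · simp only [Int.ModEq] at h2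
      omega
  · rintro ⟨hc, hs⟩
    refine ⟨0, fun i => ?_, ?_, fun k => ?_⟩
    · have := hev i
      simp only [Int.ModEq]
      omega
    · simp only [Int.ModEq]
      omega
    · have hk : k % 4 = 0 ∨ k % 4 = 2 ∨ (k % 4 ≠ 0 ∧ k % 4 ≠ 2) := by omega
      rcases hk with hk | hk | hk
      · have e : (Finset.univ.filter fun i => v i ≡ k [ZMOD 4])
            = (Finset.univ.filter fun i => v i % 4 = 2)ᶜ := by
          ext i
          have := hev i
          rw [Finset.mem_compl, Finset.mem_filter, Finset.mem_filter]
          simp only [Finset.mem_univ, true_and, Int.ModEq]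
          omega
        rw [e]
        exact compl_mem hc
      · have e : (Finset.univ.filter fun i => v i ≡ k [ZMOD 4])
            = (Finset.univ.filter fun i => v i % 4 = 2) :=
          Finset.filter_congr (fun i _ => by simp only [Int.ModEq]; omega)
        rw [e]
        exact hc
      · have e : (Finset.univ.filter fun i => v i ≡ k [ZMOD 4]) = ∅ := by
          apply Finset.filter_false_of_mem
          intro i _
          have := hev i
          simp only [Int.ModEq]
          omega
        rw [e]
        exact empty_mem

/-- Membership criterion for odd vectors. -/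
theorem mem_iff_odd {v : GolayPt → ℤ} (hodd : ∀ i, v i % 2 = 1) :
    v ∈ leechLattice ↔ IsCW (Finset.univ.filter fun i => v i % 4 = 3) ∧ (∑ i, v i) % 8 = 4 := by
  rw [mem_leechLattice_iff]
  constructor
  · rintro ⟨m, h1, h2, h3⟩
    have hm : m % 2 = 1 := by
      have := h1 none
      have := hodd none
      simp only [Int.ModEq] at *
      omega
    constructor
    · have e : (Finset.univ.filter fun i => v i ≡ 3 [ZMOD 4])
          = (Finset.univ.filter fun i => v i % 4 = 3) :=
        Finset.filter_congr (fun i _ => by simp only [Int.ModEq]; omega)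
      rw [← e]
      exact h3 3
    · simp only [Int.ModEq] at h2
      omega
  · rintro ⟨hc, hs⟩
    refine ⟨1, fun i => ?_, ?_, fun k => ?_⟩
    · have := hodd i
      simp only [Int.ModEq]
      omega
    · simp only [Int.ModEq]
      omega
    · have hk : k % 4 = 1 ∨ k % 4 = 3 ∨ (k % 4 ≠ 1 ∧ k % 4 ≠ 3) := by omega
      rcases hk with hk | hk | hk
      · have e : (Finset.univ.filter fun i => v i ≡ k [ZMOD 4])
            = (Finset.univ.filter fun i => v i % 4 = 3)ᶜ := by
          ext i
          have := hodd i
          rw [Finset.mem_compl, Finset.mem_filter, Finset.mem_filter]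
          simp only [Finset.mem_univ, true_and, Int.ModEq]
          omega
        rw [e]
        exact compl_mem hc
      · have e : (Finset.univ.filter fun i => v i ≡ k [ZMOD 4])
            = (Finset.univ.filter fun i => v i % 4 = 3) :=
          Finset.filter_congr (fun i _ => by simp only [Int.ModEq]; omega)
        rw [e]
        exact hc
      · have e : (Finset.univ.filter fun i => v i ≡ k [ZMOD 4]) = ∅ := by
          apply Finset.filter_false_of_mem
          intro i _
          have := hodd i
          simp only [Int.ModEq]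
          omega
        rw [e]
        exact empty_mem

/-! ### Sign twists -/

/-- Negate the coordinates in `c`. -/
def tw (c : Finset GolayPt) (w : GolayPt → ℤ) : GolayPt → ℤ := fun i => if i ∈ c then -w i else w i

theorem tw_apply (c : Finset GolayPt) (w : GolayPt → ℤ) (i : GolayPt) :
    tw c w i = if i ∈ c then -w i else w i := rfl

theorem tw_tw (c : Finset GolayPt) (w : GolayPt → ℤ) : tw c (tw c w) = w := by
  funext i
  unfold tw
  split_ifs <;> ring

theorem sqNorm_tw (c : Finset GolayPt) (w : GolayPt → ℤ) : sqNorm (tw c w) = sqNorm w := by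
  unfold sqNorm
  apply Finset.sum_congr rfl
  intro i _
  unfold tw
  split_ifs <;> ring

theorem sum_tw (c : Finset GolayPt) (w : GolayPt → ℤ) :
    ∑ i, tw c w i = ∑ i, w i - 2 * ∑ i ∈ c, w i := by
  have e1 : ∀ i, tw c w i = w i - 2 * (if i ∈ c then w i else 0) := by
    intro i
    unfold tw
    split_ifs <;> ring
  simp_rw [e1]
  rw [Finset.sum_sub_distrib, ← Finset.mul_sum, Finset.sum_ite_mem, Finset.univ_inter]

/-- Sum over a set of numbers that are `1` mod 4. -/
theorem sum_mod4 (c : Finset GolayPt) (w : GolayPt → ℤ) (hw : ∀ i, w i % 4 = 1) :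
    (∑ i ∈ c, w i) % 4 = (c.card : ℤ) % 4 := by
  have h : (4 : ℤ) ∣ ∑ i ∈ c, (w i - 1) := Finset.dvd_sum (fun i _ => by
    have := hw i
    omega)
  rw [Finset.sum_sub_distrib, Finset.sum_const] at h
  simp only [nsmul_eq_mul, mul_one] at h
  omega

/-- Odd vectors of the lattice: twist of a vector that is `1` mod 4 by a code word. -/
theorem tw_mem_iff {c : Finset GolayPt} {w : GolayPt → ℤ} (hw : ∀ i, w i % 4 = 1) :
    tw c w ∈ leechLattice ↔ IsCW c ∧ (∑ i, w i) % 8 = 4 := by
  have hodd : ∀ i, tw c w i % 2 = 1 := by
    intro i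
    have := hw i
    unfold tw
    split_ifs <;> omega
  have e : (Finset.univ.filter fun i => tw c w i % 4 = 3) = c := by
    ext i
    have := hw i
    rw [Finset.mem_filter]
    unfold tw
    by_cases hi : i ∈ c
    · simp only [hi, if_true, Finset.mem_univ, true_and, iff_true]
      omega
    · simp only [hi, if_false, Finset.mem_univ, true_and, iff_false]
      omega
  rw [mem_iff_odd hodd, e, sum_tw]
  constructor
  · rintro ⟨hc, hs⟩
    refine ⟨hc, ?_⟩
    have h4 := sum_mod4 c w hw
    obtain ⟨q, hq⟩ := four_dvd_card hc
    rw [hq] at h4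
    push_cast at h4
    omega
  · rintro ⟨hc, hs⟩
    refine ⟨hc, ?_⟩
    have h4 := sum_mod4 c w hw
    obtain ⟨q, hq⟩ := four_dvd_card hc
    rw [hq] at h4
    push_cast at h4
    omega

/-- Every odd lattice vector is the twist by a code word of a vector that is `1` mod 4. -/
theorem odd_decomp {v : GolayPt → ℤ} (hv : v ∈ leechLattice) (hodd : ∀ i, v i % 2 = 1) :
    ∃ c w, IsCW c ∧ (∀ i, w i % 4 = 1) ∧ (∑ i, w i) % 8 = 4 ∧ v = tw c w ∧
      sqNorm w = sqNorm v := by
  obtain ⟨c, hc⟩ : ∃ c : Finset GolayPt, c = Finset.univ.filter fun i => v i % 4 = 3 := ⟨_, rfl⟩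
  have hw : ∀ i, tw c v i % 4 = 1 := by
    intro i
    have := hodd i
    have hi : i ∈ c ↔ v i % 4 = 3 := by
      rw [hc, Finset.mem_filter]
      simp
    unfold tw
    by_cases h : i ∈ c
    · rw [if_pos h]
      have := hi.mp h
      omega
    · rw [if_neg h]
      have : ¬ (v i % 4 = 3) := fun h' => h (hi.mpr h')
      omega
  have hv' : tw c (tw c v) ∈ leechLattice := by rw [tw_tw]; exact hv
  obtain ⟨h1, h2⟩ := (tw_mem_iff hw).mp hv'
  exact ⟨c, tw c v, h1, hw, h2, (tw_tw c v).symm, sqNorm_tw c v⟩

/-! ### Shapes -/

/-- `-a` on `e`, `a` on `p \ e`, `0` elsewhere. -/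
def shape (a : ℤ) (p e : Finset GolayPt) : GolayPt → ℤ :=
  fun i => if i ∈ e then -a else if i ∈ p then a else 0

theorem shape_eq (a : ℤ) {p e : Finset GolayPt} (he : e ⊆ p) (i : GolayPt) :
    shape a p e i = a * ((if i ∈ p then 1 else 0) - 2 * (if i ∈ e then 1 else 0)) := by
  unfold shape
  by_cases h1 : i ∈ e
  · have := he h1
    simp only [h1, this, if_true]
    ring
  · by_cases h2 : i ∈ p
    · simp only [h1, h2, if_true, if_false]
      ring
    · simp only [h1, h2, if_false]
      ring

theorem sum_indicator (p : Finset GolayPt) :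
    ∑ i : GolayPt, (if i ∈ p then (1 : ℤ) else 0) = p.card := by
  rw [Finset.sum_ite_mem, Finset.univ_inter, Finset.sum_const]
  simp

theorem sum_shape (a : ℤ) {p e : Finset GolayPt} (he : e ⊆ p) :
    ∑ i, shape a p e i = a * ((p.card : ℤ) - 2 * e.card) := by
  simp_rw [shape_eq a he]
  rw [← Finset.mul_sum, Finset.sum_sub_distrib, ← Finset.mul_sum, sum_indicator, sum_indicator]

theorem sqNorm_shape (a : ℤ) {p e : Finset GolayPt} (he : e ⊆ p) :
    sqNorm (shape a p e) = a ^ 2 * p.card := by
  unfold sqNorm
  have h : ∀ i, shape a p e i ^ 2 = a ^ 2 * (if i ∈ p then 1 else 0) := by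
    intro i
    unfold shape
    by_cases h1 : i ∈ e
    · have := he h1
      simp only [h1, this, if_true]
      ring
    · by_cases h2 : i ∈ p
      · simp only [h1, h2, if_true, if_false]
        ring
      · simp only [h1, h2, if_false]
        ring
  simp_rw [h]
  rw [← Finset.mul_sum, sum_indicator]

theorem shape4_mem {p e : Finset GolayPt} (hp : p.card = 2) (he : e ⊆ p) :
    shape 4 p e ∈ leechLattice := by
  have hev : ∀ i, shape 4 p e i % 2 = 0 := by
    intro i
    unfold shape
    split_ifs <;> decide
  rw [mem_iff_even hev]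
  constructor
  · have : (Finset.univ.filter fun i => shape 4 p e i % 4 = 2) = ∅ := by
      apply Finset.filter_false_of_mem
      intro i _
      unfold shape
      split_ifs <;> decide
    rw [this]
    exact empty_mem
  · rw [sum_shape 4 he, hp]
    push_cast
    omega

theorem shape2_mem {c e : Finset GolayPt} (hc : IsCW c) (he : e ⊆ c) (hev : Even e.card) :
    shape 2 c e ∈ leechLattice := by
  have hev2 : ∀ i, shape 2 c e i % 2 = 0 := by
    intro i
    unfold shape
    split_ifs <;> decide
  rw [mem_iff_even hev2]
  constructor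
  · have : (Finset.univ.filter fun i => shape 2 c e i % 4 = 2) = c := by
      ext i
      rw [Finset.mem_filter]
      unfold shape
      by_cases h1 : i ∈ e
      · have := he h1
        simp only [h1, this, if_true, Finset.mem_univ, true_and, iff_true]
        decide
      · by_cases h2 : i ∈ c
        · simp only [h1, h2, if_true, if_false, Finset.mem_univ, true_and, iff_true]
          decide
        · simp only [h1, h2, if_false, Finset.mem_univ, true_and, iff_false]
          decide
    rw [this]
    exact hc
  · rw [sum_shape 2 he]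
    obtain ⟨q, hq⟩ := four_dvd_card hc
    obtain ⟨r, hr⟩ := hev
    rw [hq, hr]
    push_cast
    omega

/-- The vector `(-3, 1, ..., 1)` with the `-3` at `j`. -/
def w3 (j : GolayPt) : GolayPt → ℤ := fun i => if i = j then -3 else 1

theorem w3_mod (j i : GolayPt) : w3 j i % 4 = 1 := by
  unfold w3
  split_ifs <;> decide

theorem sum_w3 (j : GolayPt) : ∑ i, w3 j i = 20 := by
  have : ∀ i, w3 j i = 1 - (if i = j then 4 else 0) := fun i => by
    unfold w3
    split_ifs <;> norm_num
  simp_rw [this]
  rw [Finset.sum_sub_distrib, Finset.sum_ite_eq' Finset.univ j, Finset.sum_const,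
    Finset.card_univ, card_golayPt]
  simp

theorem sqNorm_w3 (j : GolayPt) : sqNorm (w3 j) = 32 := by
  unfold sqNorm
  have : ∀ i, w3 j i ^ 2 = 1 + (if i = j then 8 else 0) := fun i => by
    unfold w3
    split_ifs <;> norm_num
  simp_rw [this]
  rw [Finset.sum_add_distrib, Finset.sum_ite_eq' Finset.univ j, Finset.sum_const,
    Finset.card_univ, card_golayPt]
  simp

theorem vec3_mem {c : Finset GolayPt} (hc : IsCW c) (j : GolayPt) :
    tw c (w3 j) ∈ leechLattice := by
  rw [tw_mem_iff (w3_mod j)]
  refine ⟨hc, ?_⟩
  rw [sum_w3]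
  decide

/-! ### Classification of the vectors of sum of squares 32 -/

theorem two_le_sum {f : GolayPt → ℤ} (h0 : ∀ i, 0 ≤ f i) {i j : GolayPt} (hij : i ≠ j) :
    f i + f j ≤ ∑ k, f k := by
  rw [← Finset.sum_pair hij]
  exact Finset.sum_le_sum_of_subset_of_nonneg (Finset.subset_univ _) (fun k _ _ => h0 k)

theorem odd32 {w : GolayPt → ℤ} (hw : ∀ i, w i % 4 = 1) (hn : sqNorm w = 32) :
    ∃ j, w = w3 j := by
  have hf0 : ∀ i, 0 ≤ w i ^ 2 - 1 := by
    intro i
    have := hw i
    have h1 : w i ≤ -1 ∨ 1 ≤ w i := by omega
    rcases h1 with h | h <;> nlinarith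
  have hf8 : ∀ i, w i ≠ 1 → 8 ≤ w i ^ 2 - 1 := by
    intro i hi
    have := hw i
    have h1 : w i ≤ -3 ∨ 5 ≤ w i := by omega
    rcases h1 with h | h <;> nlinarith
  have hsum : ∑ i, (w i ^ 2 - 1) = 8 := by
    rw [Finset.sum_sub_distrib, Finset.sum_const, Finset.card_univ, card_golayPt]
    unfold sqNorm at hn
    rw [hn]
    norm_num
  obtain ⟨j, hj⟩ : ∃ j, w j ≠ 1 := by
    by_contra h
    rw [not_exists] at h
    have : ∑ i, (w i ^ 2 - 1) = 0 := by
      apply Finset.sum_eq_zero
      intro i _
      have := not_not.mp (h i)
      rw [this]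
      norm_num
    rw [this] at hsum
    norm_num at hsum
  have hother : ∀ i, i ≠ j → w i = 1 := by
    intro i hij
    by_contra hi
    have := two_le_sum hf0 hij
    rw [hsum] at this
    have := hf8 i hi
    have := hf8 j hj
    linarith
  have hj3 : w j = -3 := by
    have hs : ∑ i, (w i ^ 2 - 1) = w j ^ 2 - 1 := by
      apply Finset.sum_eq_single j
      · intro i _ hi
        rw [hother i hi]
        norm_num
      · intro h
        exact absurd (Finset.mem_univ j) h
    rw [hs] at hsum
    have h9 : (w j - 3) * (w j + 3) = 0 := by nlinarith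
    rcases mul_eq_zero.mp h9 with h | h
    · have := hw j
      omega
    · linarith
  refine ⟨j, ?_⟩
  funext i
  unfold w3
  by_cases hi : i = j
  · rw [if_pos hi, hi, hj3]
  · rw [if_neg hi, hother i hi]

theorem classify32 {v : GolayPt → ℤ} (hv : v ∈ leechLattice) (hn : sqNorm v = 32) :
    (∃ p e : Finset GolayPt, p.card = 2 ∧ e ⊆ p ∧ v = shape 4 p e) ∨
    (∃ O e : Finset GolayPt, IsCW O ∧ O.card = 8 ∧ e ⊆ O ∧ Even e.card ∧ v = shape 2 O e) ∨
    (∃ c j, IsCW c ∧ v = tw c (w3 j)) := by
  rcases parity hv with hev | hodd
  · -- even case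
    obtain ⟨hc, hs⟩ := (mem_iff_even hev).mp hv
    obtain ⟨c, hcdef⟩ : ∃ c : Finset GolayPt, c = Finset.univ.filter fun i => v i % 4 = 2 :=
      ⟨_, rfl⟩
    rw [← hcdef] at hc
    have hmem : ∀ i, i ∈ c ↔ v i % 4 = 2 := by
      intro i
      rw [hcdef, Finset.mem_filter]
      simp
    have hsq0 : ∀ i, 0 ≤ v i ^ 2 := fun i => sq_nonneg _
    have hbound : (4 : ℤ) * c.card ≤ 32 := by
      rw [← hn]
      unfold sqNorm
      calc (4 : ℤ) * c.card = ∑ _i ∈ c, (4 : ℤ) := by
            rw [Finset.sum_const]; simp; ring
        _ ≤ ∑ i ∈ c, v i ^ 2 := Finset.sum_le_sum (fun i hi => by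
              have := (hmem i).mp hi
              have h2' : v i ≤ -2 ∨ 2 ≤ v i := by omega
              rcases h2' with h | h <;> nlinarith)
        _ ≤ ∑ i, v i ^ 2 := Finset.sum_le_sum_of_subset_of_nonneg (Finset.subset_univ _)
              (fun k _ _ => sq_nonneg _)
    have hcard : c.card = 0 ∨ c.card = 8 := by
      rcases card_mem hc with h | h | h | h | h
      · exact Or.inl h
      · exact Or.inr h
      all_goals (rw [h] at hbound; norm_num at hbound)
    rcases hcard with hc0 | hc8
    · -- all coordinates divisible by 4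
      left
      have hcempty : c = ∅ := Finset.card_eq_zero.mp hc0
      have h4 : ∀ i, v i % 4 = 0 := by
        intro i
        have hi : i ∉ c := by rw [hcempty]; simp
        rw [hmem] at hi
        have := hev i
        omega
      obtain ⟨p, hpdef⟩ : ∃ p : Finset GolayPt, p = Finset.univ.filter fun i => v i ≠ 0 :=
        ⟨_, rfl⟩
      have hpmem : ∀ i, i ∈ p ↔ v i ≠ 0 := by
        intro i
        rw [hpdef, Finset.mem_filter]
        simp
      have h16 : ∀ i, v i ≠ 0 → 16 ≤ v i ^ 2 := by
        intro i hi
        have := h4 i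
        have h2' : v i ≤ -4 ∨ 4 ≤ v i := by omega
        rcases h2' with h | h <;> nlinarith
      have hg0 : ∀ i, 0 ≤ v i ^ 2 - (if i ∈ p then 16 else 0) := by
        intro i
        by_cases hi : i ∈ p
        · rw [if_pos hi]
          have := h16 i ((hpmem i).mp hi)
          linarith
        · rw [if_neg hi]
          have := sq_nonneg (v i)
          linarith
      have hgsum : ∑ i, (v i ^ 2 - (if i ∈ p then (16 : ℤ) else 0)) = 32 - 16 * p.card := by
        rw [Finset.sum_sub_distrib, Finset.sum_ite_mem, Finset.univ_inter, Finset.sum_const]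
        unfold sqNorm at hn
        rw [hn]
        simp
        ring
      have hgnn : 0 ≤ ∑ i, (v i ^ 2 - (if i ∈ p then (16 : ℤ) else 0)) :=
        Finset.sum_nonneg (fun i _ => hg0 i)
      rw [hgsum] at hgnn
      have hp2 : p.card ≤ 2 := by
        have : (p.card : ℤ) ≤ 2 := by linarith
        exact_mod_cast this
      have hpcases : p.card = 0 ∨ p.card = 1 ∨ p.card = 2 := by omega
      rcases hpcases with hp0 | hp1 | hp2'
      · exfalso
        have hpe : p = ∅ := Finset.card_eq_zero.mp hp0
        have : sqNorm v = 0 := by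
          unfold sqNorm
          apply Finset.sum_eq_zero
          intro i _
          have hi : i ∉ p := by rw [hpe]; simp
          rw [hpmem, not_not] at hi
          rw [hi]
          norm_num
        rw [this] at hn
        norm_num at hn
      · exfalso
        obtain ⟨j, hj⟩ := Finset.card_eq_one.mp hp1
        have hs32 : sqNorm v = v j ^ 2 := by
          unfold sqNorm
          apply Finset.sum_eq_single j
          · intro i _ hi
            have hi' : i ∉ p := by rw [hj]; simpa using hi
            rw [hpmem, not_not] at hi'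
            rw [hi']
            norm_num
          · intro h
            exact absurd (Finset.mem_univ j) h
        rw [hn] at hs32
        have h5 : v j ≤ 5 ∨ 6 ≤ v j := by omega
        have h5' : -5 ≤ v j ∨ v j ≤ -6 := by omega
        rcases h5 with h | h <;> rcases h5' with h' | h' <;> nlinarith
      · have hz : ∀ i, v i ^ 2 - (if i ∈ p then (16 : ℤ) else 0) = 0 := by
          have hz0 : ∑ i, (v i ^ 2 - (if i ∈ p then (16 : ℤ) else 0)) = 0 := by
            rw [hgsum, hp2']
            norm_num
          intro i
          exact (Finset.sum_eq_zero_iff_of_nonneg (fun i _ => hg0 i)).mp hz0 i (Finset.mem_univ i)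
        obtain ⟨e, hedef⟩ : ∃ e : Finset GolayPt, e = Finset.univ.filter fun i => v i = -4 :=
          ⟨_, rfl⟩
        have hemem : ∀ i, i ∈ e ↔ v i = -4 := by
          intro i
          rw [hedef, Finset.mem_filter]
          simp
        have hep : e ⊆ p := by
          intro i hi
          rw [hpmem]
          rw [hemem] at hi
          rw [hi]
          norm_num
        refine ⟨p, e, hp2', hep, ?_⟩
        funext i
        unfold shape
        by_cases hi : i ∈ e
        · rw [if_pos hi]
          exact (hemem i).mp hi
        · rw [if_neg hi]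
          by_cases hi2 : i ∈ p
          · rw [if_pos hi2]
            have := hz i
            rw [if_pos hi2] at this
            have h9 : (v i - 4) * (v i + 4) = 0 := by nlinarith
            rcases mul_eq_zero.mp h9 with h | h
            · linarith
            · exact absurd (by linarith : v i = -4) (fun h' => hi ((hemem i).mpr h'))
          · rw [if_neg hi2]
            rw [hpmem, not_not] at hi2
            exact hi2
    · -- octad case
      right; left
      have hg0 : ∀ i, 0 ≤ v i ^ 2 - (if i ∈ c then 4 else 0) := by
        intro i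
        by_cases hi : i ∈ c
        · rw [if_pos hi]
          have := (hmem i).mp hi
          have h2' : v i ≤ -2 ∨ 2 ≤ v i := by omega
          rcases h2' with h | h <;> nlinarith
        · rw [if_neg hi]
          have := sq_nonneg (v i)
          linarith
      have hgsum : ∑ i, (v i ^ 2 - (if i ∈ c then (4 : ℤ) else 0)) = 0 := by
        rw [Finset.sum_sub_distrib, Finset.sum_ite_mem, Finset.univ_inter, Finset.sum_const]
        unfold sqNorm at hn
        rw [hn, hc8]
        simp
      have hz : ∀ i, v i ^ 2 - (if i ∈ c then (4 : ℤ) else 0) = 0 := fun i =>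
        (Finset.sum_eq_zero_iff_of_nonneg (fun i _ => hg0 i)).mp hgsum i (Finset.mem_univ i)
      obtain ⟨e, hedef⟩ : ∃ e : Finset GolayPt, e = Finset.univ.filter fun i => v i = -2 :=
        ⟨_, rfl⟩
      have hemem : ∀ i, i ∈ e ↔ v i = -2 := by
        intro i
        rw [hedef, Finset.mem_filter]
        simp
      have hec : e ⊆ c := by
        intro i hi
        rw [hmem]
        rw [hemem] at hi
        rw [hi]
        decide
      have hveq : v = shape 2 c e := by
        funext i
        unfold shape
        by_cases hi : i ∈ e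
        · rw [if_pos hi]
          exact (hemem i).mp hi
        · rw [if_neg hi]
          by_cases hi2 : i ∈ c
          · rw [if_pos hi2]
            have := hz i
            rw [if_pos hi2] at this
            have h9 : (v i - 2) * (v i + 2) = 0 := by nlinarith
            rcases mul_eq_zero.mp h9 with h | h
            · linarith
            · exact absurd (by linarith : v i = -2) (fun h' => hi ((hemem i).mpr h'))
          · rw [if_neg hi2]
            have := hz i
            rw [if_neg hi2] at this
            have : v i ^ 2 = 0 := by linarith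
            exact pow_eq_zero_iff (by norm_num) |>.mp this
      refine ⟨c, e, hc, hc8, hec, ?_, hveq⟩
      rw [hveq, sum_shape 2 hec, hc8] at hs
      push_cast at hs
      rw [Nat.even_iff]
      omega
  · -- odd case
    right; right
    obtain ⟨c, w, hc, hw, -, hvw, hnw⟩ := odd_decomp hv hodd
    rw [hn] at hnw
    obtain ⟨j, hj⟩ := odd32 hw hnw
    exact ⟨c, j, hc, by rw [hvw, hj]⟩

end Cfsg.Agent.Lib.Helper92.MinVec
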