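import Mathlib
import Cfsg.Prelude.Def_Sporadic_a
import Cfsg.Agent.Lib.Helper92.MinVec

/-!
A generation criterion for the lattice: an additive subgroup containing the vectors
`4 e_i - 4 e_∞`, `8 e_∞`, twice the indicators of twelve basis octads and `(-3, 1, ..., 1)`
contains the whole lattice.
-/

set_option autoImplicit false

namespace Cfsg.Agent.Lib.Helper92.LeechGen

open Cfsg Cfsg.Agent.Lib.Helper92.LeechCore Cfsg.Agent.Lib.Helper92.MinVec
open Cfsg.Agent.Lib.Helper7.GolayBase Cfsg.Agent.Lib.Helper7.GolayCode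

theorem card_symmDiff_add' (a b : Finset GolayPt) :
    (symmDiff a b).card + 2 * (a ∩ b).card = a.card + b.card := by
  have h1 : (symmDiff a b).card = (a \ b).card + (b \ a).card := by
    rw [symmDiff_def, Finset.sup_eq_union, Finset.card_union_of_disjoint]
    rw [Finset.disjoint_left]
    intro i hi hi'
    rw [Finset.mem_sdiff] at hi hi'
    exact hi.2 hi'.1
  have h2 := Finset.card_sdiff_add_card_inter a b
  have h3 := Finset.card_sdiff_add_card_inter b a
  rw [Finset.inter_comm b a] at h3
  omega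

/-- Two code words meet in an even number of points. -/
theorem even_inter {a b : Finset GolayPt} (ha : IsCW a) (hb : IsCW b) : 2 ∣ (a ∩ b).card := by
  have h1 := four_dvd_card ha
  have h2 := four_dvd_card hb
  have h3 := four_dvd_card (symmDiff_mem ha hb)
  have h4 := card_symmDiff_add' a b
  omega

/-- Twice the indicator of a set. -/
def ind2 (s : Finset GolayPt) : GolayPt → ℤ := fun i => if i ∈ s then 2 else 0

theorem ind2_apply (s : Finset GolayPt) (i : GolayPt) : ind2 s i = if i ∈ s then 2 else 0 := rfl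

theorem ind2_empty : ind2 ∅ = 0 := by
  funext i
  simp [ind2]

theorem sum_ind2 (s : Finset GolayPt) : ∑ i, ind2 s i = 2 * (s.card : ℤ) := by
  unfold ind2
  rw [Finset.sum_ite_mem, Finset.univ_inter, Finset.sum_const]
  simp
  ring

theorem ind2_eq_shape (s : Finset GolayPt) : ind2 s = shape 2 s ∅ := by
  funext i
  simp [ind2, shape]

theorem ind2_mem {s : Finset GolayPt} (hs : IsCW s) : ind2 s ∈ leechLattice := by
  rw [ind2_eq_shape]
  exact shape2_mem hs (Finset.empty_subset _) (by simp)

theorem tw_empty (w : GolayPt → ℤ) : tw ∅ w = w := by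
  funext i
  simp [tw]

theorem w3_mem (j : GolayPt) : w3 j ∈ leechLattice := by
  have := vec3_mem empty_mem j
  rwa [tw_empty] at this

/-- Vectors with all coordinates divisible by 4 and coordinate sum divisible by 8. -/
theorem div4_mem (M : AddSubgroup (GolayPt → ℤ))
    (h4 : ∀ i : GolayPt, (Pi.single i 4 - Pi.single none 4 : GolayPt → ℤ) ∈ M)
    (h8 : (Pi.single none 8 : GolayPt → ℤ) ∈ M)
    {v : GolayPt → ℤ} (hv4 : ∀ i, v i % 4 = 0) (hs : (∑ i, v i) % 8 = 0) : v ∈ M := by
  obtain ⟨q, hq⟩ : ∃ q : GolayPt → ℤ, ∀ i, v i = 4 * q i :=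
    ⟨fun i => v i / 4, fun i => by
      show v i = 4 * (v i / 4)
      have := hv4 i
      omega⟩
  have hsum : ∑ i, v i = 4 * ∑ i, q i := by
    rw [Finset.mul_sum]
    exact Finset.sum_congr rfl (fun i _ => hq i)
  obtain ⟨t, ht⟩ : ∃ t : ℤ, ∑ i, q i = 2 * t := ⟨(∑ i, q i) / 2, by omega⟩
  have key : v = ∑ i, q i • (Pi.single i 4 - Pi.single none 4 : GolayPt → ℤ)
      + t • (Pi.single none 8 : GolayPt → ℤ) := by
    funext k
    simp only [Pi.add_apply, Finset.sum_apply, Pi.smul_apply, Pi.sub_apply, smul_eq_mul,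
      Pi.single_apply, mul_sub, Finset.sum_sub_distrib]
    rw [Finset.sum_eq_single k (fun i _ hi => by rw [if_neg (Ne.symm hi), mul_zero])
      (fun h => absurd (Finset.mem_univ k) h), if_pos rfl, ← Finset.sum_mul, ht, hq k]
    by_cases hk : k = none
    · simp only [hk, if_true]
      ring
    · simp only [hk, if_false]
      ring
  rw [key]
  exact M.add_mem (AddSubgroup.sum_mem _ (fun i _ => AddSubgroup.zsmul_mem _ (h4 i) _))
    (AddSubgroup.zsmul_mem _ h8 _)

theorem ind2_symmDiff (s t : Finset GolayPt) :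
    ind2 (symmDiff s t) = ind2 s + ind2 t - (fun i => if i ∈ s ∩ t then (4 : ℤ) else 0) := by
  funext i
  simp only [ind2, Pi.add_apply, Pi.sub_apply, Finset.mem_symmDiff, Finset.mem_inter]
  by_cases h1 : i ∈ s <;> by_cases h2 : i ∈ t <;> simp [h1, h2]

/-- The generation criterion. -/
theorem gen_le (M : AddSubgroup (GolayPt → ℤ))
    (h4 : ∀ i : GolayPt, (Pi.single i 4 - Pi.single none 4 : GolayPt → ℤ) ∈ M)
    (h8 : (Pi.single none 8 : GolayPt → ℤ) ∈ M)
    (ho : ∀ o ∈ echelon, ind2 (mk o) ∈ M) (h3 : w3 none ∈ M) : leechLattice ≤ M := by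
  have hspan : ∀ c ∈ spanList echelon, c ∈ codeList ∧ ind2 (mk c) ∈ M := by
    apply spanList_induction (P := fun c => c ∈ codeList ∧ ind2 (mk c) ∈ M)
    · refine ⟨zero_mem_codeList, ?_⟩
      rw [mk_zero, ind2_empty]
      exact M.zero_mem
    · rintro a b ⟨ha, ha'⟩ ⟨hb, hb'⟩
      refine ⟨xor_mem_codeList ha hb, ?_⟩
      rw [mk_xor, ind2_symmDiff]
      refine M.sub_mem (M.add_mem ha' hb') (div4_mem M h4 h8 (fun i => ?_) ?_)
      · split_ifs <;> decide
      · rw [Finset.sum_ite_mem, Finset.univ_inter, Finset.sum_const]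
        obtain ⟨r, hr⟩ := even_inter (mk_mem_supports ha) (mk_mem_supports hb)
        rw [hr]
        simp
        omega
    · intro o ho'
      exact ⟨echelon_mem_codeList o ho', ho o ho'⟩
  have hcode : ∀ c ∈ codeList, ind2 (mk c) ∈ M := by
    intro c hc
    have h1 : reduce echelon c = 0 := by simpa [inCode] using inCode_complete c hc
    have h2 := reduce_xor_mem echelon c
    rw [h1, Nat.xor_zero] at h2
    exact (hspan c h2).2
  have hcw : ∀ c, IsCW c → ind2 c ∈ M := by
    intro c hc
    obtain ⟨m, hm, rfl⟩ := (mem_supports_iff c).mp hc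
    exact hcode m hm
  have heven : ∀ v ∈ leechLattice, (∀ i, v i % 2 = 0) → v ∈ M := by
    intro v hv hev
    obtain ⟨hc, hs⟩ := (mem_iff_even hev).mp hv
    obtain ⟨c, hcdef⟩ : ∃ c : Finset GolayPt, c = Finset.univ.filter fun i => v i % 4 = 2 :=
      ⟨_, rfl⟩
    rw [← hcdef] at hc
    have hmem : ∀ i, i ∈ c ↔ v i % 4 = 2 := by
      intro i
      rw [hcdef, Finset.mem_filter]
      simp
    have e : v = (v - ind2 c) + ind2 c := by abel
    rw [e]
    refine M.add_mem (div4_mem M h4 h8 (fun i => ?_) ?_) (hcw c hc)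
    · have := hev i
      simp only [Pi.sub_apply, ind2]
      by_cases hi : i ∈ c
      · have := (hmem i).mp hi
        rw [if_pos hi]
        omega
      · have : ¬ (v i % 4 = 2) := fun h => hi ((hmem i).mpr h)
        rw [if_neg hi]
        omega
    · simp only [Pi.sub_apply]
      rw [Finset.sum_sub_distrib, sum_ind2]
      obtain ⟨r, hr⟩ := four_dvd_card hc
      rw [hr]
      push_cast
      omega
  intro v hv
  rcases parity hv with hev | hodd
  · exact heven v hv hev
  · have e : v = (v - w3 none) + w3 none := by abel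
    rw [e]
    refine M.add_mem (heven _ (sub_mem hv (w3_mem none)) (fun i => ?_)) h3
    have := hodd i
    have := w3_mod none i
    simp only [Pi.sub_apply]
    omega

end Cfsg.Agent.Lib.Helper92.LeechGen
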