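import Mathlib
import Cfsg.Prelude.Def_Sporadic_a
import Cfsg.Agent.Lib.Helper92.LeechGen
import Cfsg.Agent.S1567
import Cfsg.Agent.S0394

/-!
A non-monomial automorphism `xi` of the lattice, attached to the sextet
`{0,1,2,∞}, {3,5,14,17}, {4,13,16,22}, {6,7,19,21}, {8,11,12,18}, {9,10,15,20}`:
`xi x p = ± (x p - (sum of x over the tetrad of p) / 2)`, with the minus sign on the first tetrad.
-/

set_option autoImplicit false

namespace Cfsg.Agent.Lib.Helper92.Xi

open Cfsg Cfsg.Agent.Lib.Helper92.LeechCore Cfsg.Agent.Lib.Helper92.MinVec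
open Cfsg.Agent.Lib.Helper92.LeechGen
open Cfsg.Agent.Lib.Helper7.GolayBase Cfsg.Agent.Lib.Helper7.GolayCode

/-- Tetrad index of a point index. -/
def tetN (i : Nat) : Nat :=
  [0, 0, 0, 1, 2, 1, 3, 3, 4, 5, 5, 4, 4, 2, 1, 5, 2, 1, 4, 3, 5, 3, 2, 0].getD i 0

theorem tetN_lt : ∀ i, tetN i < 6 := by
  intro i
  by_cases h : i < 24
  · revert i
    decide
  · unfold tetN
    rw [List.getD_eq_default _ _ (by simpa using h)]
    norm_num

/-- The vector with given coordinates by index. -/
def ofN (L : Nat → ℤ) : GolayPt → ℤ := fun p => L (idx p)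

theorem sum_idx (F : Nat → ℤ) : ∑ p : GolayPt, F (idx p) = ∑ i ∈ Finset.range 24, F i := by
  apply Finset.sum_nbij' (fun p => idx p) (fun i => pt i)
  · intro p _
    simp [idx_lt]
  · intro i _
    simp
  · intro p _
    exact pt_idx p
  · intro i hi
    exact idx_pt (by simpa using hi)
  · intro p _
    rfl

/-- Tetrad sums (index version). -/
def tsN (L : Nat → ℤ) (k : Nat) : ℤ := ∑ i ∈ Finset.range 24, if tetN i = k then L i else 0

/-- Tetrad sums. -/
def ts (x : GolayPt → ℤ) (k : Nat) : ℤ := ∑ p : GolayPt, if tetN (idx p) = k then x p else 0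

theorem ts_ofN (L : Nat → ℤ) (k : Nat) : ts (ofN L) k = tsN L k :=
  sum_idx (fun i => if tetN i = k then L i else 0)

/-- The map `xi`. -/
def xi (x : GolayPt → ℤ) : GolayPt → ℤ :=
  fun p => (if tetN (idx p) = 0 then -1 else 1) * (x p - ts x (tetN (idx p)) / 2)

/-- The map `xi` (index version). -/
def xiN (L : Nat → ℤ) : Nat → ℤ :=
  fun i => (if tetN i = 0 then -1 else 1) * (L i - tsN L (tetN i) / 2)

theorem xi_ofN (L : Nat → ℤ) : xi (ofN L) = ofN (xiN L) := by
  funext p
  simp only [xi, ofN, xiN, ts_ofN]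

theorem xi_apply (x : GolayPt → ℤ) (p : GolayPt) :
    xi x p = (if tetN (idx p) = 0 then -1 else 1) * (x p - ts x (tetN (idx p)) / 2) := rfl

theorem ts_add (x y : GolayPt → ℤ) (k : Nat) : ts (x + y) k = ts x k + ts y k := by
  unfold ts
  rw [← Finset.sum_add_distrib]
  apply Finset.sum_congr rfl
  intro p _
  simp only [Pi.add_apply]
  split_ifs <;> ring

theorem ts_neg (x : GolayPt → ℤ) (k : Nat) : ts (-x) k = -ts x k := by
  unfold ts
  rw [← Finset.sum_neg_distrib]
  apply Finset.sum_congr rfl
  intro p _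
  simp only [Pi.neg_apply]
  split_ifs <;> ring

theorem ts_zero (k : Nat) : ts 0 k = 0 := by
  unfold ts
  apply Finset.sum_eq_zero
  intro p _
  simp

theorem xi_zero : xi 0 = 0 := by
  funext p
  rw [xi_apply, ts_zero]
  simp

theorem xi_add {x y : GolayPt → ℤ} (hx : ∀ k, ts x k % 2 = 0) (hy : ∀ k, ts y k % 2 = 0) :
    xi (x + y) = xi x + xi y := by
  funext p
  rw [Pi.add_apply, xi_apply, xi_apply, xi_apply, ts_add, Pi.add_apply]
  have h1 := hx (tetN (idx p))
  have h2 := hy (tetN (idx p))
  have h : (ts x (tetN (idx p)) + ts y (tetN (idx p))) / 2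
      = ts x (tetN (idx p)) / 2 + ts y (tetN (idx p)) / 2 := by omega
  rw [h]
  ring

theorem xi_neg {x : GolayPt → ℤ} (hx : ∀ k, ts x k % 2 = 0) : xi (-x) = -xi x := by
  funext p
  rw [Pi.neg_apply, xi_apply, xi_apply, ts_neg, Pi.neg_apply]
  have h1 := hx (tetN (idx p))
  have h : (-ts x (tetN (idx p))) / 2 = -(ts x (tetN (idx p)) / 2) := by omega
  rw [h]
  ring

/-- Number of points of a tetrad. -/
theorem cnt_tet : ∀ k < 6, (∑ i ∈ Finset.range 24, if tetN i = k then (1 : ℤ) else 0) = 4 := by
  decide +kernel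

theorem cnt_tet' (k : Nat) (hk : k < 6) :
    (∑ p : GolayPt, if tetN (idx p) = k then (1 : ℤ) else 0) = 4 := by
  rw [sum_idx (fun i => if tetN i = k then (1 : ℤ) else 0)]
  exact cnt_tet k hk

theorem ts_even {x : GolayPt → ℤ} (hx : x ∈ leechLattice) (k : Nat) : ts x k % 2 = 0 := by
  rcases parity hx with hev | hodd
  · have : (2 : ℤ) ∣ ts x k := by
      unfold ts
      apply Finset.dvd_sum
      intro p _
      have := hev p
      split_ifs <;> omega
    omega
  · by_cases hk : k < 6
    · have h1 : (2 : ℤ) ∣ ∑ p : GolayPt, if tetN (idx p) = k then (x p - 1) else 0 := by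
        apply Finset.dvd_sum
        intro p _
        have := hodd p
        split_ifs <;> omega
      have h2 : ts x k = (∑ p : GolayPt, if tetN (idx p) = k then (x p - 1) else 0)
          + ∑ p : GolayPt, if tetN (idx p) = k then (1 : ℤ) else 0 := by
        unfold ts
        rw [← Finset.sum_add_distrib]
        apply Finset.sum_congr rfl
        intro p _
        split_ifs <;> ring
      rw [h2, cnt_tet' k hk]
      omega
    · have : ts x k = 0 := by
        unfold ts
        apply Finset.sum_eq_zero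
        intro p _
        rw [if_neg]
        intro h
        have := tetN_lt (idx p)
        omega
      rw [this]
      rfl

theorem fiber_sum (F : Nat → ℤ) (G : GolayPt → ℤ) :
    ∑ p, F (tetN (idx p)) * G p
      = ∑ k ∈ Finset.range 6, F k * ∑ p, (if tetN (idx p) = k then G p else 0) := by
  have h1 : ∀ p : GolayPt, F (tetN (idx p)) * G p
      = ∑ k ∈ Finset.range 6, if tetN (idx p) = k then F k * G p else 0 := by
    intro p
    rw [Finset.sum_ite_eq (Finset.range 6) (tetN (idx p)) (fun k => F k * G p),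
      if_pos (Finset.mem_range.mpr (tetN_lt _))]
  simp_rw [h1]
  rw [Finset.sum_comm]
  apply Finset.sum_congr rfl
  intro k _
  rw [Finset.mul_sum]
  apply Finset.sum_congr rfl
  intro p _
  split_ifs <;> simp

theorem sqNorm_xi {x : GolayPt → ℤ} (hx : ∀ k, ts x k % 2 = 0) : sqNorm (xi x) = sqNorm x := by
  obtain ⟨H, hH⟩ : ∃ H : Nat → ℤ, ∀ k, ts x k = 2 * H k :=
    ⟨fun k => ts x k / 2, fun k => by
      show ts x k = 2 * (ts x k / 2)
      have := hx k
      omega⟩
  have hdiv : ∀ k, ts x k / 2 = H k := fun k => by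
    rw [hH k]
    omega
  unfold sqNorm
  have e1 : ∀ p, xi x p ^ 2 = x p ^ 2 - 2 * (H (tetN (idx p)) * x p)
      + H (tetN (idx p)) ^ 2 * 1 := by
    intro p
    rw [xi_apply, hdiv]
    split_ifs <;> ring
  simp_rw [e1]
  rw [Finset.sum_add_distrib, Finset.sum_sub_distrib, ← Finset.mul_sum,
    fiber_sum H x, fiber_sum (fun k => H k ^ 2) (fun _ => 1)]
  have e2 : ∑ k ∈ Finset.range 6, H k * ∑ p, (if tetN (idx p) = k then x p else 0)
      = ∑ k ∈ Finset.range 6, 2 * H k ^ 2 := by
    apply Finset.sum_congr rfl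
    intro k _
    have := hH k
    unfold ts at this
    rw [this]
    ring
  have e3 : ∑ k ∈ Finset.range 6, H k ^ 2 * ∑ p : GolayPt, (if tetN (idx p) = k then (1 : ℤ) else 0)
      = ∑ k ∈ Finset.range 6, 4 * H k ^ 2 := by
    apply Finset.sum_congr rfl
    intro k hk
    rw [cnt_tet' k (Finset.mem_range.mp hk)]
    ring
  rw [e2, e3, ← Finset.mul_sum, ← Finset.mul_sum]
  ring

/-! ### Explicit vectors and the kernel checks -/

/-- Mask of a predicate on indices. -/
def maskN (P : Nat → Bool) : Nat := Nat.ofBits (fun i : Fin 24 => P i)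

theorem testBit_maskN (P : Nat → Bool) (i : Nat) :
    (maskN P).testBit i = (decide (i < 24) && P i) := by
  unfold maskN
  rw [Nat.testBit_ofBits]
  by_cases h : i < 24 <;> simp [h]

/-- Coordinate sum by index. -/
def sumN (L : Nat → ℤ) : ℤ := ∑ i ∈ Finset.range 24, L i

/-- Membership test for an explicit vector. -/
def inL (L : Nat → ℤ) : Bool :=
  ((List.range 24).all (fun i => L i % 2 == 0) && inCode (maskN (fun i => L i % 4 == 2))
      && sumN L % 8 == 0)
  || ((List.range 24).all (fun i => L i % 2 == 1) && inCode (maskN (fun i => L i % 4 == 3))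
      && sumN L % 8 == 4)

theorem inL_sound {L : Nat → ℤ} (h : inL L = true) : ofN L ∈ leechLattice := by
  unfold inL at h
  rw [Bool.or_eq_true] at h
  rcases h with h | h
  · simp only [Bool.and_eq_true] at h
    obtain ⟨⟨h1, h2⟩, h3⟩ := h
    have hev : ∀ p, ofN L p % 2 = 0 := fun p => by
      have := List.all_eq_true.mp h1 (idx p) (List.mem_range.mpr (idx_lt p))
      show L (idx p) % 2 = 0
      simpa using this
    rw [mem_iff_even hev]
    constructor
    · have e : (Finset.univ.filter fun p => ofN L p % 4 = 2)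
          = mk (maskN (fun i => L i % 4 == 2)) := by
        ext p
        rw [Finset.mem_filter, mem_mk, testBit_maskN]
        simp [ofN, idx_lt]
      rw [e]
      exact mk_mem_supports (inCode_sound h2)
    · have e : ∑ p, ofN L p = sumN L := sum_idx L
      rw [e]
      simpa using h3
  · simp only [Bool.and_eq_true] at h
    obtain ⟨⟨h1, h2⟩, h3⟩ := h
    have hodd : ∀ p, ofN L p % 2 = 1 := fun p => by
      have := List.all_eq_true.mp h1 (idx p) (List.mem_range.mpr (idx_lt p))
      show L (idx p) % 2 = 1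
      simpa using this
    rw [mem_iff_odd hodd]
    constructor
    · have e : (Finset.univ.filter fun p => ofN L p % 4 = 3)
          = mk (maskN (fun i => L i % 4 == 3)) := by
        ext p
        rw [Finset.mem_filter, mem_mk, testBit_maskN]
        simp [ofN, idx_lt]
      rw [e]
      exact mk_mem_supports (inCode_sound h2)
    · have e : ∑ p, ofN L p = sumN L := sum_idx L
      rw [e]
      simpa using h3

/-- The generator `4 e_n - 4 e_∞`. -/
def g4 (n : Nat) : Nat → ℤ := fun k => (if k = n then 4 else 0) - (if k = 23 then 4 else 0)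

/-- The generator `8 e_∞`. -/
def g8 : Nat → ℤ := fun k => if k = 23 then 8 else 0

/-- The generator: twice the indicator of a mask. -/
def go (o : Nat) : Nat → ℤ := fun k => if o.testBit k then 2 else 0

/-- The generator `(-3, 1, ..., 1)`. -/
def g3 : Nat → ℤ := fun k => if k = 23 then -3 else 1

theorem chk4 : ∀ n < 24, inL (xiN (g4 n)) = true := by decide +kernel

theorem chk8 : inL (xiN g8) = true := by decide +kernel

theorem chko : ∀ o ∈ echelon, inL (xiN (go o)) = true := by decide +kernel

theorem chk3 : inL (xiN g3) = true := by decide +kernel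

theorem idx_eq_23 (p : GolayPt) : idx p = 23 ↔ p = none := by
  constructor
  · intro h
    apply idx_injective
    rw [h]
    rfl
  · rintro rfl
    rfl

theorem g4_eq (i : GolayPt) :
    (Pi.single i 4 - Pi.single none 4 : GolayPt → ℤ) = ofN (g4 (idx i)) := by
  funext p
  simp only [Pi.sub_apply, Pi.single_apply, ofN, g4, idx_eq_23, idx_injective.eq_iff]

theorem g8_eq : (Pi.single none 8 : GolayPt → ℤ) = ofN g8 := by
  funext p
  simp only [Pi.single_apply, ofN, g8, idx_eq_23]

theorem go_eq (o : Nat) : ind2 (mk o) = ofN (go o) := by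
  funext p
  simp only [ind2, ofN, go, mem_mk]

theorem g3_eq : w3 none = ofN g3 := by
  funext p
  simp only [w3, ofN, g3, idx_eq_23]

/-- The subgroup of lattice vectors mapped into the lattice by `xi`. -/
def xiSub : AddSubgroup (GolayPt → ℤ) where
  carrier := {x | x ∈ leechLattice ∧ xi x ∈ leechLattice}
  add_mem' := by
    rintro x y ⟨hx, hx'⟩ ⟨hy, hy'⟩
    refine ⟨add_mem hx hy, ?_⟩
    rw [xi_add (ts_even hx) (ts_even hy)]
    exact add_mem hx' hy'
  zero_mem' := ⟨zero_mem _, by rw [xi_zero]; exact zero_mem _⟩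
  neg_mem' := by
    rintro x ⟨hx, hx'⟩
    refine ⟨neg_mem hx, ?_⟩
    rw [xi_neg (ts_even hx)]
    exact neg_mem hx'

/-- `xi` preserves the lattice. -/
theorem xi_mem {x : GolayPt → ℤ} (hx : x ∈ leechLattice) : xi x ∈ leechLattice := by
  have hle : leechLattice ≤ xiSub := by
    apply gen_le
    · intro i
      have h1 : (Pi.single i 4 - Pi.single none 4 : GolayPt → ℤ) ∈ leechLattice := by
        by_cases hi : i = none
        · rw [hi, sub_self]
          exact zero_mem _
        · rw [S1567.single_sub_eq i hi]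
          exact shape4_mem (Finset.card_pair hi) (by
            intro k hk
            rw [Finset.mem_singleton] at hk
            rw [hk]
            simp)
      refine ⟨h1, ?_⟩
      rw [g4_eq, xi_ofN]
      exact inL_sound (chk4 _ (idx_lt i))
    · have h1 : (Pi.single none 8 : GolayPt → ℤ) ∈ leechLattice := by
        rw [S1567.single8_eq]
        have hp : ({none, some 0} : Finset GolayPt).card = 2 := Finset.card_pair (by simp)
        exact add_mem (shape4_mem hp (Finset.empty_subset _)) (shape4_mem hp (by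
          intro k hk
          rw [Finset.mem_singleton] at hk
          rw [hk]
          simp))
      refine ⟨h1, ?_⟩
      rw [g8_eq, xi_ofN]
      exact inL_sound chk8
    · intro o ho
      refine ⟨ind2_mem (mk_mem_supports (echelon_mem_codeList o ho)), ?_⟩
      rw [go_eq, xi_ofN]
      exact inL_sound (chko o ho)
    · refine ⟨w3_mem none, ?_⟩
      rw [g3_eq, xi_ofN]
      exact inL_sound chk3
  exact (hle hx).2

/-- `xi` as an additive endomorphism of the lattice. -/
def xiHom : leechLattice →+ leechLattice where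
  toFun v := ⟨xi v, xi_mem v.2⟩
  map_zero' := Subtype.ext xi_zero
  map_add' v w := Subtype.ext (xi_add (ts_even v.2) (ts_even w.2))

theorem xiHom_apply (v : leechLattice) : ((xiHom v : leechLattice) : GolayPt → ℤ) = xi v := rfl

theorem sqNorm_xiHom (v : leechLattice) :
    sqNorm ((xiHom v : leechLattice) : GolayPt → ℤ) = sqNorm (v : GolayPt → ℤ) := by
  rw [xiHom_apply, sqNorm_xi (ts_even v.2)]

theorem sqNorm_eq_zero {x : GolayPt → ℤ} (h : sqNorm x = 0) : x = 0 := by
  funext p
  unfold sqNorm at h
  have := (Finset.sum_eq_zero_iff_of_nonneg (fun i _ => sq_nonneg (x i))).mp h p (Finset.mem_univ p)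
  exact pow_eq_zero_iff (by norm_num) |>.mp this

theorem xiHom_injective : Function.Injective xiHom := by
  rw [injective_iff_map_eq_zero]
  intro v hv
  have h := sqNorm_xiHom v
  rw [hv] at h
  apply Subtype.ext
  apply sqNorm_eq_zero
  rw [← h]
  show sqNorm (0 : GolayPt → ℤ) = 0
  unfold sqNorm
  simp

theorem xiHom_surjective : Function.Surjective xiHom := by
  -- the minimal vectors
  have hfin : {x : GolayPt → ℤ | x ∈ leechLattice ∧ sqNorm x = 32}.Finite :=
    Set.finite_of_ncard_ne_zero (by rw [S0394.result]; norm_num)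
  have hfin' : {v : leechLattice | sqNorm (v : GolayPt → ℤ) = 32}.Finite := by
    apply Set.Finite.of_finite_image (f := Subtype.val)
    · apply hfin.subset
      rintro x ⟨v, hv, rfl⟩
      exact ⟨v.2, hv⟩
    · exact Subtype.val_injective.injOn
  have hmaps : Set.MapsTo xiHom {v : leechLattice | sqNorm (v : GolayPt → ℤ) = 32}
      {v : leechLattice | sqNorm (v : GolayPt → ℤ) = 32} := by
    intro v hv
    show sqNorm ((xiHom v : leechLattice) : GolayPt → ℤ) = 32
    rw [sqNorm_xiHom]
    exact hv
  have hbij := (hfin'.injOn_iff_bijOn_of_mapsTo hmaps).mp xiHom_injective.injOn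
  have hle : leechLattice ≤ AddSubgroup.map leechLattice.subtype xiHom.range := by
    refine le_trans (le_of_eq S1567.result.symm) ((AddSubgroup.closure_le _).mpr ?_)
    rintro x ⟨hx, hn⟩
    obtain ⟨u, -, hu⟩ := hbij.surjOn (show (⟨x, hx⟩ : leechLattice) ∈
      {v : leechLattice | sqNorm (v : GolayPt → ℤ) = 32} from hn)
    exact ⟨⟨x, hx⟩, ⟨u, hu⟩, rfl⟩
  intro v
  obtain ⟨w, ⟨u, hu⟩, hw⟩ := hle v.2
  refine ⟨u, ?_⟩
  rw [hu]
  exact Subtype.ext hw

/-- `xi` as a permutation of the lattice. -/
noncomputable def xiEquiv : Equiv.Perm leechLattice :=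
  Equiv.ofBijective xiHom ⟨xiHom_injective, xiHom_surjective⟩

theorem xiEquiv_apply (v : leechLattice) :
    ((xiEquiv v : leechLattice) : GolayPt → ℤ) = xi v := rfl

theorem xiEquiv_mem_Co0 : xiEquiv ∈ Co0 :=
  ⟨fun v w => map_add xiHom v w, fun v => sqNorm_xiHom v⟩

end Cfsg.Agent.Lib.Helper92.Xi
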