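import Mathlib
import Cfsg.Prelude.Def_Sporadic_a
import Cfsg.Agent.Lib.Helper92.Xi
import Cfsg.Agent.Lib.Helper93.Monomial
import Cfsg.Agent.Lib.Helper7.M24Octad
import Cfsg.Agent.S0398

/-!
Orbits of the automorphism group of the lattice on lattice vectors: the orbit relation `Rv`,
moves by sign changes, coordinate permutations and `xi`, and the transitivity on the vectors of
sum of squares 32.
-/

set_option autoImplicit false

namespace Cfsg.Agent.Lib.Helper92.Co0Orbit

open Cfsg Cfsg.Agent.Lib.Helper92.LeechCore Cfsg.Agent.Lib.Helper92.MinVec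
open Cfsg.Agent.Lib.Helper92.LeechGen Cfsg.Agent.Lib.Helper92.Xi
open Cfsg.Agent.Lib.Helper93.Monomial
open Cfsg.Agent.Lib.Helper7.GolayBase Cfsg.Agent.Lib.Helper7.GolayCode
open Cfsg.Agent.Lib.Helper7.M24Mem Cfsg.Agent.Lib.Helper7.M24Main
open Cfsg.Agent.Lib.Helper7.M24Core Cfsg.Agent.Lib.Helper7.M24Octad
open scoped Pointwise

/-- The orbit relation of the automorphism group on lattice vectors. -/
def Rv (x y : GolayPt → ℤ) : Prop :=
  ∃ f ∈ Co0, ∃ (hx : x ∈ leechLattice) (hy : y ∈ leechLattice),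
    f ⟨x, hx⟩ = (⟨y, hy⟩ : leechLattice)

theorem Rv.symm {x y : GolayPt → ℤ} (h : Rv x y) : Rv y x := by
  obtain ⟨f, hf, hx, hy, e⟩ := h
  refine ⟨f⁻¹, Co0.inv_mem hf, hy, hx, ?_⟩
  rw [← e]
  simp

theorem Rv.trans {x y z : GolayPt → ℤ} (h1 : Rv x y) (h2 : Rv y z) : Rv x z := by
  obtain ⟨f, hf, hx, hy, e⟩ := h1
  obtain ⟨g, hg, hy', hz, e'⟩ := h2
  exact ⟨g * f, Co0.mul_mem hg hf, hx, hz, by rw [Equiv.Perm.mul_apply, e, e']⟩

theorem Rv.refl {x : GolayPt → ℤ} (hx : x ∈ leechLattice) : Rv x x :=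
  ⟨1, Co0.one_mem, hx, hx, rfl⟩

theorem signedPerm_one (c : Finset GolayPt) (x : GolayPt → ℤ) : signedPerm 1 c x = tw c x := by
  funext i
  rfl

theorem signedPerm_empty (σ : Equiv.Perm GolayPt) (x : GolayPt → ℤ) :
    signedPerm σ ∅ x = fun i => x (σ.symm i) := by
  funext i
  unfold signedPerm
  simp

/-- Sign change on a code word. -/
theorem Rv_tw {x : GolayPt → ℤ} (hx : x ∈ leechLattice) {c : Finset GolayPt} (hc : IsCW c) :
    Rv x (tw c x) := by
  have hmem : tw c x ∈ leechLattice := by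
    have := (monoEquiv 1 (one_mem _) c hc ⟨x, hx⟩).2
    rwa [monoEquiv_apply, signedPerm_one] at this
  refine ⟨monoEquiv 1 (one_mem _) c hc, monoEquiv_mem_Co0 _ _ _ _, hx, hmem, ?_⟩
  apply Subtype.ext
  rw [monoEquiv_apply]
  exact signedPerm_one c x

/-- Coordinate permutation from `M24`. -/
theorem Rv_perm {x : GolayPt → ℤ} (hx : x ∈ leechLattice) {σ : Equiv.Perm GolayPt}
    (hσ : σ ∈ M24) : Rv x (fun i => x (σ.symm i)) := by
  have hmem : (fun i => x (σ.symm i)) ∈ leechLattice := by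
    have := (monoEquiv σ hσ ∅ empty_mem ⟨x, hx⟩).2
    rwa [monoEquiv_apply, signedPerm_empty] at this
  refine ⟨monoEquiv σ hσ ∅ empty_mem, monoEquiv_mem_Co0 _ _ _ _, hx, hmem, ?_⟩
  apply Subtype.ext
  rw [monoEquiv_apply]
  exact signedPerm_empty σ x

/-- The non-monomial automorphism. -/
theorem Rv_xi {x : GolayPt → ℤ} (hx : x ∈ leechLattice) : Rv x (xi x) :=
  ⟨xiEquiv, xiEquiv_mem_Co0, hx, xi_mem hx, Subtype.ext (xiEquiv_apply ⟨x, hx⟩)⟩

theorem mem_smul_iff' (σ : Equiv.Perm GolayPt) (c : Finset GolayPt) (i : GolayPt) :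
    i ∈ σ • c ↔ σ.symm i ∈ c := by
  rw [← Finset.inv_smul_mem_iff]
  rfl

theorem tw_shape (a : ℤ) {p e c : Finset GolayPt} (hc : c ∩ p = e) :
    tw c (shape a p e) = shape a p ∅ := by
  funext i
  unfold tw shape
  have hi : i ∈ e ↔ i ∈ c ∧ i ∈ p := by rw [← hc, Finset.mem_inter]
  by_cases h1 : i ∈ c <;> by_cases h2 : i ∈ p <;> simp [h1, h2, hi]

theorem perm_shape (a : ℤ) (p : Finset GolayPt) (σ : Equiv.Perm GolayPt) :
    (fun i => shape a p ∅ (σ.symm i)) = shape a (σ • p) ∅ := by
  funext i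
  unfold shape
  simp [mem_smul_iff']

theorem inter_pair_eq {c e : Finset GolayPt} {x y : GolayPt} (he : e ⊆ {x, y})
    (hx : x ∈ c ↔ x ∈ e) (hy : y ∈ c ↔ y ∈ e) : c ∩ {x, y} = e := by
  ext i
  constructor
  · intro h
    rw [Finset.mem_inter, Finset.mem_insert, Finset.mem_singleton] at h
    rcases h.2 with rfl | rfl
    · exact hx.mp h.1
    · exact hy.mp h.1
  · intro hi
    have h := he hi
    rw [Finset.mem_inter]
    refine ⟨?_, h⟩
    rw [Finset.mem_insert, Finset.mem_singleton] at h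
    rcases h with rfl | rfl
    · exact hx.mpr hi
    · exact hy.mpr hi

/-! ### The three classes of minimal vectors -/

/-- Standard vector `(4, 4, 0, ...)`. -/
def std4 : GolayPt → ℤ := shape 4 {pt 23, pt 0} ∅

/-- Standard vector `(2^8, 0^16)`. -/
def std2 : GolayPt → ℤ := shape 2 (mk O) ∅

theorem class4 {p e : Finset GolayPt} (hp : p.card = 2) (he : e ⊆ p) :
    Rv (shape 4 p e) std4 := by
  obtain ⟨x, y, hxy, rfl⟩ := Finset.card_eq_two.mp hp
  have hc : ∃ c, IsCW c ∧ c ∩ {x, y} = e := by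
    by_cases hx : x ∈ e <;> by_cases hy : y ∈ e
    · exact ⟨Finset.univ, univ_mem, inter_pair_eq he (by simp [hx]) (by simp [hy])⟩
    · obtain ⟨c, hc, h1, h2⟩ := S0398.sep y x (Ne.symm hxy)
      exact ⟨c, hc, inter_pair_eq he (by simp [hx, h1]) (by simp [hy, h2])⟩
    · obtain ⟨c, hc, h1, h2⟩ := S0398.sep x y hxy
      exact ⟨c, hc, inter_pair_eq he (by simp [hx, h2]) (by simp [hy, h1])⟩
    · exact ⟨∅, empty_mem, inter_pair_eq he (by simp [hx]) (by simp [hy])⟩
  obtain ⟨c, hc, hce⟩ := hc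
  have h1 : Rv (shape 4 {x, y} e) (shape 4 {x, y} ∅) := by
    have := Rv_tw (shape4_mem hp he) hc
    rwa [tw_shape 4 hce] at this
  obtain ⟨g, hg, hmap⟩ := exists_map_base5 [x, y] (by simp [hxy]) (by simp)
  have hgx : g x = pt 23 ∧ g y = pt 0 := by
    simpa [base5] using hmap
  have h2 : Rv (shape 4 {x, y} ∅) std4 := by
    have := Rv_perm (shape4_mem hp (Finset.empty_subset _)) hg
    rw [perm_shape] at this
    have e' : g • ({x, y} : Finset GolayPt) = {pt 23, pt 0} := by
      rw [smul_finset_def, Finset.image_insert, Finset.image_singleton, hgx.1, hgx.2]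
    rwa [e'] at this
  exact h1.trans h2

theorem pairs_base : [0, 1, 2, 3, 5, 14, 17, 23].all (fun a => [0, 1, 2, 3, 5, 14, 17, 23].all
    (fun b => a == b || codeList.any (fun c => c &&& O == 2 ^ a ||| 2 ^ b))) = true := by
  decide +kernel

theorem mem_O_list : ∀ n < 24, O.testBit n = true → n ∈ [0, 1, 2, 3, 5, 14, 17, 23] := by
  decide +kernel

theorem pair_base {x y : GolayPt} (hx : x ∈ mk O) (hy : y ∈ mk O) (hxy : x ≠ y) :
    ∃ c, IsCW c ∧ c ∩ mk O = {x, y} := by
  have ha := mem_O_list (idx x) (idx_lt x) (mem_mk.mp hx)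
  have hb := mem_O_list (idx y) (idx_lt y) (mem_mk.mp hy)
  have h := List.all_eq_true.mp (List.all_eq_true.mp pairs_base _ ha) _ hb
  rw [Bool.or_eq_true] at h
  rcases h with h | h
  · exfalso
    apply hxy
    apply idx_injective
    simpa using h
  · obtain ⟨c, hc, hcO⟩ := List.any_eq_true.mp h
    refine ⟨mk c, mk_mem_supports hc, ?_⟩
    have hcO' : c &&& O = 2 ^ idx x ||| 2 ^ idx y := by simpa using hcO
    rw [← mk_and, hcO']
    ext p
    rw [mem_mk, Nat.testBit_or, Nat.testBit_two_pow, Nat.testBit_two_pow, Finset.mem_insert,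
      Finset.mem_singleton]
    simp only [Bool.or_eq_true, decide_eq_true_eq]
    constructor
    · rintro (h | h)
      · left; exact (idx_injective h).symm
      · right; exact (idx_injective h).symm
    · rintro (rfl | rfl)
      · left; rfl
      · right; rfl

theorem pair_octad {O' : Finset GolayPt} (hO : O' ∈ octads) {x y : GolayPt} (hx : x ∈ O')
    (hy : y ∈ O') (hxy : x ≠ y) : ∃ c, IsCW c ∧ c ∩ O' = {x, y} := by
  obtain ⟨g, hg, hgO⟩ := octad_to_base hO
  have hmemO : ∀ i, g i ∈ mk O ↔ i ∈ O' := by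
    intro i
    rw [← hgO, mem_smul_iff']
    simp
  obtain ⟨c₀, hc₀, h⟩ := pair_base ((hmemO x).mpr hx) ((hmemO y).mpr hy) (g.injective.ne hxy)
  refine ⟨g⁻¹ • c₀, smul_mem_supports (M24.inv_mem hg) hc₀, ?_⟩
  ext i
  have h1 : i ∈ g⁻¹ • c₀ ↔ g i ∈ c₀ := by
    rw [mem_smul_iff']
    rfl
  have h2 : g i ∈ c₀ ∩ mk O ↔ g i ∈ ({g x, g y} : Finset GolayPt) := by rw [h]
  rw [Finset.mem_inter, hmemO] at h2
  rw [Finset.mem_inter, h1, h2, Finset.mem_insert, Finset.mem_singleton, Finset.mem_insert,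
    Finset.mem_singleton, g.injective.eq_iff, g.injective.eq_iff]

/-- Every even subset of an octad is cut out by a code word. -/
theorem even_sub_octad {O' : Finset GolayPt} (hO : O' ∈ octads) :
    ∀ n : ℕ, ∀ e : Finset GolayPt, e ⊆ O' → e.card = 2 * n → ∃ c, IsCW c ∧ c ∩ O' = e := by
  intro n
  induction n with
  | zero =>
    intro e _ hcard
    have : e = ∅ := Finset.card_eq_zero.mp (by omega)
    exact ⟨∅, empty_mem, by rw [this]; simp⟩
  | succ n ih =>
    intro e he hcard
    obtain ⟨x, hx⟩ : e.Nonempty := by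
      rw [← Finset.card_pos]
      omega
    obtain ⟨y, hy⟩ : (e.erase x).Nonempty := by
      rw [← Finset.card_pos, Finset.card_erase_of_mem hx]
      omega
    have hyx : y ≠ x := Finset.ne_of_mem_erase hy
    have hye : y ∈ e := Finset.mem_of_mem_erase hy
    obtain ⟨c', hc', h'⟩ := ih ((e.erase x).erase y)
      (fun i hi => he (Finset.mem_of_mem_erase (Finset.mem_of_mem_erase hi)))
      (by rw [Finset.card_erase_of_mem hy, Finset.card_erase_of_mem hx]; omega)
    obtain ⟨c'', hc'', h''⟩ := pair_octad hO (he hx) (he hye) hyx.symm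
    refine ⟨symmDiff c' c'', symmDiff_mem hc' hc'', ?_⟩
    ext i
    have h1 : i ∈ c' ∩ O' ↔ i ∈ (e.erase x).erase y := by rw [h']
    have h2 : i ∈ c'' ∩ O' ↔ i ∈ ({x, y} : Finset GolayPt) := by rw [h'']
    simp only [Finset.mem_inter, Finset.mem_erase, Finset.mem_insert, Finset.mem_singleton]
      at h1 h2
    simp only [Finset.mem_inter, Finset.mem_symmDiff]
    by_cases hiO : i ∈ O'
    · simp only [hiO, and_true] at h1 h2 ⊢
      by_cases hix : i = x
      · subst hix
        simp only [true_or, iff_true] at h2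
        simp only [ne_eq, not_true_eq_false, false_and, and_false, iff_false] at h1
        simp [h1, h2, hx]
      · by_cases hiy : i = y
        · subst hiy
          simp only [or_true, iff_true] at h2
          simp only [ne_eq, not_true_eq_false, false_and, iff_false] at h1
          simp [h1, h2, hye]
        · simp only [hix, hiy, or_self, iff_false] at h2
          simp only [ne_eq, hiy, not_false_eq_true, hix, true_and] at h1
          simp [h1, h2]
    · have : i ∉ e := fun h => hiO (he h)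
      simp [hiO, this]

theorem class2 {O' e : Finset GolayPt} (hO : IsCW O') (hO8 : O'.card = 8) (he : e ⊆ O')
    (hev : Even e.card) : Rv (shape 2 O' e) std2 := by
  have hoct : O' ∈ octads := ⟨hO, hO8⟩
  obtain ⟨n, hn⟩ := hev
  obtain ⟨c, hc, hce⟩ := even_sub_octad hoct n e he (by omega)
  have h1 : Rv (shape 2 O' e) (shape 2 O' ∅) := by
    have := Rv_tw (shape2_mem hO he ⟨n, hn⟩) hc
    rwa [tw_shape 2 hce] at this
  obtain ⟨g, hg, hgO⟩ := octad_to_base hoct
  have h2 : Rv (shape 2 O' ∅) std2 := by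
    have := Rv_perm (shape2_mem hO (Finset.empty_subset _) (by simp)) hg
    rwa [perm_shape, hgO] at this
  exact h1.trans h2

theorem class3 {c : Finset GolayPt} (hc : IsCW c) (j : GolayPt) :
    Rv (tw c (w3 j)) (w3 none) := by
  have h1 : Rv (tw c (w3 j)) (w3 j) := by
    have := Rv_tw (vec3_mem hc j) hc
    rwa [tw_tw] at this
  obtain ⟨σ, hσ, hσj⟩ := S0398.trans j none
  have h2 : Rv (w3 j) (w3 none) := by
    have := Rv_perm (w3_mem j) hσ
    have e : (fun i => w3 j (σ.symm i)) = w3 none := by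
      funext i
      unfold w3
      rw [← hσj]
      by_cases hi : i = σ j
      · rw [if_pos hi, if_pos (by rw [hi]; simp)]
      · rw [if_neg hi, if_neg (fun h => hi (by rw [← h]; simp))]
    rwa [e] at this
  exact h1.trans h2

/-! ### Fusion by `xi` -/

/-- The vector `4 e_3 + 4 e_4`. -/
def L4 : Nat → ℤ := fun k => if k = 3 then 4 else if k = 4 then 4 else 0

theorem v4_eq : shape 4 {pt 3, pt 4} ∅ = ofN L4 := by
  funext p
  have h3 : p = pt 3 ↔ idx p = 3 := by
    constructor
    · rintro rfl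
      exact idx_pt (by norm_num)
    · intro h
      rw [← pt_idx p, h]
  have h4 : p = pt 4 ↔ idx p = 4 := by
    constructor
    · rintro rfl
      exact idx_pt (by norm_num)
    · intro h
      rw [← pt_idx p, h]
  simp only [shape, ofN, L4, Finset.notMem_empty, if_false, Finset.mem_insert,
    Finset.mem_singleton, h3, h4]
  by_cases h : idx p = 3
  · simp [h]
  · simp [h]

theorem xi4_val : xiN L4 3 = 2 := by decide +kernel

theorem xi2_val : xiN (go 5279) 23 = 3 := by decide +kernel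

theorem shape_mod4 (p e : Finset GolayPt) (i : GolayPt) : shape 4 p e i % 4 = 0 := by
  unfold shape
  split_ifs <;> decide

theorem shape_even (a : ℤ) (ha : a % 2 = 0) (p e : Finset GolayPt) (i : GolayPt) :
    shape a p e i % 2 = 0 := by
  unfold shape
  split_ifs <;> omega

theorem vec3_odd (c : Finset GolayPt) (j i : GolayPt) : tw c (w3 j) i % 2 = 1 := by
  have := w3_mod j i
  unfold tw
  split_ifs <;> omega

theorem fuse42 : Rv std4 std2 := by
  have hp : ({pt 3, pt 4} : Finset GolayPt).card = 2 := Finset.card_pair (by decide)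
  have hm := shape4_mem hp (Finset.empty_subset _)
  have h1 : Rv (shape 4 {pt 3, pt 4} ∅) std4 := class4 hp (Finset.empty_subset _)
  have h2 := Rv_xi hm
  have hx := xi_mem hm
  have hn : sqNorm (xi (shape 4 {pt 3, pt 4} ∅)) = 32 := by
    rw [sqNorm_xi (ts_even hm), sqNorm_shape 4 (Finset.empty_subset _), hp]
    norm_num
  have hval : xi (shape 4 {pt 3, pt 4} ∅) (pt 3) = 2 := by
    rw [v4_eq, xi_ofN]
    show xiN L4 (idx (pt 3)) = 2
    rw [idx_pt (by norm_num)]
    exact xi4_val
  rcases classify32 hx hn with ⟨p, e, hp', he, h⟩ | ⟨O', e, hO, hO8, he, hev, h⟩ | ⟨c, j, hc, h⟩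
  · exfalso
    have h3 := congrFun h (pt 3)
    rw [hval] at h3
    have := shape_mod4 p e (pt 3)
    omega
  · rw [h] at h2
    exact h1.symm.trans (h2.trans (class2 hO hO8 he hev))
  · exfalso
    have h3 := congrFun h (pt 3)
    rw [hval] at h3
    have := vec3_odd c j (pt 3)
    omega

theorem fuse23 : Rv std2 (w3 none) := by
  have hcw : IsCW (mk 5279) := mk_mem_supports (echelon_mem_codeList 5279 (by decide))
  have h8 : (mk 5279).card = 8 := by
    rw [card_mk]
    exact S1567.echelon_popc 5279 (by decide)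
  have hm : shape 2 (mk 5279) ∅ ∈ leechLattice :=
    shape2_mem hcw (Finset.empty_subset _) (by simp)
  have h1 : Rv (shape 2 (mk 5279) ∅) std2 := class2 hcw h8 (Finset.empty_subset _) (by simp)
  have h2 := Rv_xi hm
  have hx := xi_mem hm
  have hn : sqNorm (xi (shape 2 (mk 5279) ∅)) = 32 := by
    rw [sqNorm_xi (ts_even hm), sqNorm_shape 2 (Finset.empty_subset _), h8]
    norm_num
  have hval : xi (shape 2 (mk 5279) ∅) none = 3 := by
    rw [← ind2_eq_shape, go_eq, xi_ofN]
    exact xi2_val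
  rcases classify32 hx hn with ⟨p, e, hp', he, h⟩ | ⟨O', e, hO, hO8, he, hev, h⟩ | ⟨c, j, hc, h⟩
  · exfalso
    have h3 := congrFun h none
    rw [hval] at h3
    have := shape_even 4 (by decide) p e none
    omega
  · exfalso
    have h3 := congrFun h none
    rw [hval] at h3
    have := shape_even 2 (by decide) O' e none
    omega
  · rw [h] at h2
    exact h1.symm.trans (h2.trans (class3 hc j))

/-- Every vector of sum of squares 32 is in the orbit of `(-3, 1, ..., 1)`. -/
theorem all32 {x : GolayPt → ℤ} (hx : x ∈ leechLattice) (hn : sqNorm x = 32) :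
    Rv x (w3 none) := by
  rcases classify32 hx hn with ⟨p, e, hp, he, rfl⟩ | ⟨O', e, hO, hO8, he, hev, rfl⟩ |
    ⟨c, j, hc, rfl⟩
  · exact (class4 hp he).trans (fuse42.trans fuse23)
  · exact (class2 hO hO8 he hev).trans fuse23
  · exact class3 hc j

end Cfsg.Agent.Lib.Helper92.Co0Orbit
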