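import Mathlib
import Cfsg.Prelude.Def_Sporadic_a
import Cfsg.Agent.Lib.Helper92.Co0Orbit

/-!
Vectors of sum of squares 48: odd shapes, and transitivity of the automorphism group.
-/

set_option autoImplicit false

namespace Cfsg.Agent.Lib.Helper92.Orbit48

open Cfsg Cfsg.Agent.Lib.Helper92.LeechCore Cfsg.Agent.Lib.Helper92.MinVec
open Cfsg.Agent.Lib.Helper92.LeechGen Cfsg.Agent.Lib.Helper92.Xi
open Cfsg.Agent.Lib.Helper92.Co0Orbit
open Cfsg.Agent.Lib.Helper7.GolayBase Cfsg.Agent.Lib.Helper7.GolayCode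
open Cfsg.Agent.Lib.Helper7.M24Mem Cfsg.Agent.Lib.Helper7.M24Main
open scoped Pointwise

/-- `-3` on `J`, `1` elsewhere. -/
def w33 (J : Finset GolayPt) : GolayPt → ℤ := fun i => if i ∈ J then -3 else 1

/-- `5` at `j`, `1` elsewhere. -/
def w5 (j : GolayPt) : GolayPt → ℤ := fun i => if i = j then 5 else 1

theorem w33_mod (J : Finset GolayPt) (i : GolayPt) : w33 J i % 4 = 1 := by
  unfold w33
  split_ifs <;> decide

theorem w5_mod (j i : GolayPt) : w5 j i % 4 = 1 := by
  unfold w5
  split_ifs <;> decide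

theorem sum_w33 (J : Finset GolayPt) : ∑ i, w33 J i = 24 - 4 * (J.card : ℤ) := by
  have : ∀ i, w33 J i = 1 - 4 * (if i ∈ J then 1 else 0) := fun i => by
    unfold w33
    split_ifs <;> norm_num
  simp_rw [this]
  rw [Finset.sum_sub_distrib, ← Finset.mul_sum, sum_indicator, Finset.sum_const, Finset.card_univ,
    card_golayPt]
  simp

theorem sqNorm_w33 (J : Finset GolayPt) : sqNorm (w33 J) = 24 + 8 * (J.card : ℤ) := by
  unfold sqNorm
  have : ∀ i, w33 J i ^ 2 = 1 + 8 * (if i ∈ J then 1 else 0) := fun i => by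
    unfold w33
    split_ifs <;> norm_num
  simp_rw [this]
  rw [Finset.sum_add_distrib, ← Finset.mul_sum, sum_indicator, Finset.sum_const, Finset.card_univ,
    card_golayPt]
  simp

theorem sum_w5 (j : GolayPt) : ∑ i, w5 j i = 28 := by
  have : ∀ i, w5 j i = 1 + (if i = j then 4 else 0) := fun i => by
    unfold w5
    split_ifs <;> norm_num
  simp_rw [this]
  rw [Finset.sum_add_distrib, Finset.sum_ite_eq' Finset.univ j, Finset.sum_const,
    Finset.card_univ, card_golayPt]
  simp

theorem sqNorm_w5 (j : GolayPt) : sqNorm (w5 j) = 48 := by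
  unfold sqNorm
  have : ∀ i, w5 j i ^ 2 = 1 + (if i = j then 24 else 0) := fun i => by
    unfold w5
    split_ifs <;> norm_num
  simp_rw [this]
  rw [Finset.sum_add_distrib, Finset.sum_ite_eq' Finset.univ j, Finset.sum_const,
    Finset.card_univ, card_golayPt]
  simp

theorem w33_mem {c J : Finset GolayPt} (hc : IsCW c) (hJ : J.card % 2 = 1) :
    tw c (w33 J) ∈ leechLattice := by
  rw [tw_mem_iff (w33_mod J)]
  refine ⟨hc, ?_⟩
  rw [sum_w33]
  omega

theorem w5_mem {c : Finset GolayPt} (hc : IsCW c) (j : GolayPt) :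
    tw c (w5 j) ∈ leechLattice := by
  rw [tw_mem_iff (w5_mod j)]
  refine ⟨hc, ?_⟩
  rw [sum_w5]
  decide

/-- Odd vectors of sum of squares 48 (normalised to be `1` mod 4). -/
theorem odd48 {w : GolayPt → ℤ} (hw : ∀ i, w i % 4 = 1) (hn : sqNorm w = 48) :
    (∃ J : Finset GolayPt, J.card = 3 ∧ w = w33 J) ∨ (∃ j, w = w5 j) := by
  have hf0 : ∀ i, 0 ≤ w i ^ 2 - 1 := by
    intro i
    have := hw i
    have h1 : w i ≤ -1 ∨ 1 ≤ w i := by omega
    rcases h1 with h | h <;> nlinarith
  have hsum : ∑ i, (w i ^ 2 - 1) = 24 := by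
    rw [Finset.sum_sub_distrib, Finset.sum_const, Finset.card_univ, card_golayPt]
    unfold sqNorm at hn
    rw [hn]
    norm_num
  by_cases hex : ∃ j, w j ≠ 1 ∧ w j ≠ -3
  · right
    obtain ⟨j, hj1, hj3⟩ := hex
    have hj24 : 24 ≤ w j ^ 2 - 1 := by
      have := hw j
      have h1 : w j ≤ -7 ∨ 5 ≤ w j := by omega
      rcases h1 with h | h <;> nlinarith
    have hother : ∀ i, i ≠ j → w i = 1 := by
      intro i hij
      have h2 := two_le_sum hf0 hij
      rw [hsum] at h2
      have h3 : w i ^ 2 ≤ 1 := by linarith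
      have := hw i
      have h4 : -1 ≤ w i ∧ w i ≤ 1 := by
        constructor <;> nlinarith
      omega
    have hj5 : w j = 5 := by
      have hs : ∑ i, (w i ^ 2 - 1) = w j ^ 2 - 1 := by
        apply Finset.sum_eq_single j
        · intro i _ hi
          rw [hother i hi]
          norm_num
        · intro h
          exact absurd (Finset.mem_univ j) h
      rw [hs] at hsum
      have h9 : (w j - 5) * (w j + 5) = 0 := by nlinarith
      rcases mul_eq_zero.mp h9 with h | h
      · linarith
      · have := hw j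
        omega
    refine ⟨j, ?_⟩
    funext i
    unfold w5
    by_cases hi : i = j
    · rw [if_pos hi, hi, hj5]
    · rw [if_neg hi, hother i hi]
  · left
    have hall : ∀ i, w i = 1 ∨ w i = -3 := by
      intro i
      by_contra h
      rw [not_or] at h
      exact hex ⟨i, h.1, h.2⟩
    obtain ⟨J, hJ⟩ : ∃ J : Finset GolayPt, J = Finset.univ.filter fun i => w i = -3 := ⟨_, rfl⟩
    have hmem : ∀ i, i ∈ J ↔ w i = -3 := by
      intro i
      rw [hJ, Finset.mem_filter]
      simp
    have hweq : w = w33 J := by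
      funext i
      unfold w33
      by_cases hi : i ∈ J
      · rw [if_pos hi]
        exact (hmem i).mp hi
      · rw [if_neg hi]
        rcases hall i with h | h
        · exact h
        · exact absurd ((hmem i).mpr h) hi
    refine ⟨J, ?_, hweq⟩
    rw [hweq, sqNorm_w33] at hn
    have : (J.card : ℤ) = 3 := by linarith
    exact_mod_cast this

/-- An even lattice vector of sum of squares 48 has between 8 and 12 coordinates that are
`2` mod 4. -/
theorem even48 {v : GolayPt → ℤ} (hv : v ∈ leechLattice) (hev : ∀ i, v i % 2 = 0)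
    (hn : sqNorm v = 48) :
    8 ≤ (Finset.univ.filter fun i => v i % 4 = 2).card ∧
      (Finset.univ.filter fun i => v i % 4 = 2).card ≤ 12 := by
  obtain ⟨hc, hs⟩ := (mem_iff_even hev).mp hv
  obtain ⟨c, hcdef⟩ : ∃ c : Finset GolayPt, c = Finset.univ.filter fun i => v i % 4 = 2 :=
    ⟨_, rfl⟩
  rw [← hcdef] at hc ⊢
  have hmem : ∀ i, i ∈ c ↔ v i % 4 = 2 := by
    intro i
    rw [hcdef, Finset.mem_filter]
    simp
  have hbound : (4 : ℤ) * c.card ≤ 48 := by
    rw [← hn]
    unfold sqNorm
    calc (4 : ℤ) * c.card = ∑ _i ∈ c, (4 : ℤ) := by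
          rw [Finset.sum_const]; simp; ring
      _ ≤ ∑ i ∈ c, v i ^ 2 := Finset.sum_le_sum (fun i hi => by
            have := (hmem i).mp hi
            have h2' : v i ≤ -2 ∨ 2 ≤ v i := by omega
            rcases h2' with h | h <;> nlinarith)
      _ ≤ ∑ i, v i ^ 2 := Finset.sum_le_sum_of_subset_of_nonneg (Finset.subset_univ _)
            (fun k _ _ => sq_nonneg _)
  have hne : c.card ≠ 0 := by
    intro h0
    have hcempty : c = ∅ := Finset.card_eq_zero.mp h0
    have h4 : ∀ i, v i % 4 = 0 := by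
      intro i
      have hi : i ∉ c := by rw [hcempty]; simp
      rw [hmem] at hi
      have := hev i
      omega
    obtain ⟨u, hu⟩ : ∃ u : GolayPt → ℤ, ∀ i, v i = 4 * u i :=
      ⟨fun i => v i / 4, fun i => by
        show v i = 4 * (v i / 4)
        have := h4 i
        omega⟩
    have h1 : ∑ i, u i ^ 2 = 3 := by
      unfold sqNorm at hn
      have : ∑ i, v i ^ 2 = 16 * ∑ i, u i ^ 2 := by
        rw [Finset.mul_sum]
        apply Finset.sum_congr rfl
        intro i _
        rw [hu i]
        ring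
      rw [this] at hn
      linarith
    have h2 : (∑ i, u i) % 2 = 0 := by
      have : ∑ i, v i = 4 * ∑ i, u i := by
        rw [Finset.mul_sum]
        exact Finset.sum_congr rfl (fun i _ => hu i)
      rw [this] at hs
      omega
    have h3 : (2 : ℤ) ∣ ∑ i, (u i ^ 2 - u i) := by
      apply Finset.dvd_sum
      intro i _
      have : u i ^ 2 - u i = u i * (u i - 1) := by ring
      rw [this]
      exact (Int.even_mul_pred_self (u i)).two_dvd
    rw [Finset.sum_sub_distrib, h1] at h3
    omega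
  constructor
  · rcases card_mem hc with h | h | h | h | h <;> omega
  · have : (c.card : ℤ) ≤ 12 := by linarith
    exact_mod_cast this

/-! ### Moving even vectors to odd vectors -/

theorem Rv_norm {x y : GolayPt → ℤ} (h : Rv x y) : sqNorm y = sqNorm x := by
  obtain ⟨f, hf, hx, hy, e⟩ := h
  have := hf.2 ⟨x, hx⟩
  rw [e] at this
  exact this

theorem Rv_mem_right {x y : GolayPt → ℤ} (h : Rv x y) : y ∈ leechLattice := by
  obtain ⟨f, hf, hx, hy, e⟩ := h
  exact hy

theorem ts_zero_eq (w : GolayPt → ℤ) : ts w 0 = w (pt 0) + w (pt 1) + w (pt 2) + w (pt 23) := by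
  unfold ts
  have h : ∀ p : GolayPt, (if tetN (idx p) = 0 then w p else 0)
      = (if tetN (idx p) = 0 then w (pt (idx p)) else 0) := by
    intro p
    simp only [pt_idx]
  rw [Finset.sum_congr rfl (fun p _ => h p)]
  refine (sum_idx (fun i => if tetN i = 0 then w (pt i) else 0)).trans ?_
  simp [Finset.sum_range_succ, tetN]

theorem even_to_odd {v : GolayPt → ℤ} (hv : v ∈ leechLattice) {q x y z : GolayPt}
    (hnd : [q, x, y, z].Nodup) (hq : v q % 2 = 0) (h : (v q + v x + v y + v z) % 4 = 2) :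
    ∃ u, Rv v u ∧ u none % 2 = 1 := by
  obtain ⟨g, hg, hmap⟩ := exists_map_base5 [q, x, y, z] hnd (by simp)
  have hgm : g q = pt 23 ∧ g x = pt 0 ∧ g y = pt 1 ∧ g z = pt 2 := by
    simpa [base5] using hmap
  have h1 := Rv_perm hv hg
  have h2 := Rv_xi (Rv_mem_right h1)
  refine ⟨_, h1.trans h2, ?_⟩
  have e23 : g.symm (pt 23) = q := by rw [← hgm.1]; simp
  have e0 : g.symm (pt 0) = x := by rw [← hgm.2.1]; simp
  have e1 : g.symm (pt 1) = y := by rw [← hgm.2.2.1]; simp
  have e2 : g.symm (pt 2) = z := by rw [← hgm.2.2.2]; simp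
  have hnone : (none : GolayPt) = pt 23 := rfl
  have ht : tetN (idx (none : GolayPt)) = 0 := by decide
  rw [xi_apply, ht, ts_zero_eq]
  simp only [if_true]
  have e23' : g.symm none = q := e23
  rw [e23', e23, e0, e1, e2]
  omega

/-! ### The classes of odd vectors -/

/-- Standard vector `(-3, -3, -3, 1, ..., 1)`. -/
def std33 : GolayPt → ℤ := w33 {pt 23, pt 0, pt 1}

theorem class33 {c J : Finset GolayPt} (hc : IsCW c) (hJ : J.card = 3) :
    Rv (tw c (w33 J)) std33 := by
  have hJodd : J.card % 2 = 1 := by rw [hJ]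
  have h1 : Rv (tw c (w33 J)) (w33 J) := by
    have := Rv_tw (w33_mem hc hJodd) hc
    rwa [tw_tw] at this
  obtain ⟨x, y, z, hxy, hxz, hyz, rfl⟩ := Finset.card_eq_three.mp hJ
  obtain ⟨g, hg, hmap⟩ := exists_map_base5 [x, y, z] (by simp [hxy, hxz, hyz]) (by simp)
  have hgm : g x = pt 23 ∧ g y = pt 0 ∧ g z = pt 1 := by
    simpa [base5] using hmap
  have hmem0 : w33 {x, y, z} ∈ leechLattice := by
    have := w33_mem empty_mem hJodd
    rwa [tw_empty] at this
  have h2 : Rv (w33 {x, y, z}) std33 := by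
    have := Rv_perm hmem0 hg
    have e : (fun i => w33 {x, y, z} (g.symm i)) = std33 := by
      funext i
      unfold std33 w33
      have : g.symm i ∈ ({x, y, z} : Finset GolayPt) ↔ i ∈ ({pt 23, pt 0, pt 1} : Finset GolayPt) := by
        rw [← hgm.1, ← hgm.2.1, ← hgm.2.2]
        simp only [Finset.mem_insert, Finset.mem_singleton, Equiv.symm_apply_eq]
      simp only [this]
    rwa [e] at this
  exact h1.trans h2

theorem class5 {c : Finset GolayPt} (hc : IsCW c) (j : GolayPt) :
    Rv (tw c (w5 j)) (w5 none) := by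
  have h1 : Rv (tw c (w5 j)) (w5 j) := by
    have := Rv_tw (w5_mem hc j) hc
    rwa [tw_tw] at this
  obtain ⟨σ, hσ, hσj⟩ := S0398.trans j none
  have hmem0 : w5 j ∈ leechLattice := by
    have := w5_mem empty_mem j
    rwa [tw_empty] at this
  have h2 : Rv (w5 j) (w5 none) := by
    have := Rv_perm hmem0 hσ
    have e : (fun i => w5 j (σ.symm i)) = w5 none := by
      funext i
      unfold w5
      rw [← hσj]
      by_cases hi : i = σ j
      · rw [if_pos hi, if_pos (by rw [hi]; simp)]
      · rw [if_neg hi, if_neg (fun h => hi (by rw [← h]; simp))]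
    rwa [e] at this
  exact h1.trans h2

/-- The vector `(1, ..., 1, 5)` by index. -/
def L5 : Nat → ℤ := fun k => if k = 23 then 5 else 1

theorem w5_eq : w5 none = ofN L5 := by
  funext p
  simp only [w5, ofN, L5, idx_eq_23]

theorem xi5_val : xiN L5 0 = 3 := by decide +kernel

theorem odd_class {u : GolayPt → ℤ} (hu : u ∈ leechLattice) (hodd : ∀ i, u i % 2 = 1)
    (hn : sqNorm u = 48) :
    (∃ c J, IsCW c ∧ J.card = 3 ∧ u = tw c (w33 J)) ∨ (∃ c j, IsCW c ∧ u = tw c (w5 j)) := by
  obtain ⟨c, w, hc, hw, -, huw, hnw⟩ := odd_decomp hu hodd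
  rw [hn] at hnw
  rcases odd48 hw hnw with ⟨J, hJ, rfl⟩ | ⟨j, rfl⟩
  · exact Or.inl ⟨c, J, hc, hJ, huw⟩
  · exact Or.inr ⟨c, j, hc, huw⟩

theorem fuse5 : Rv (w5 none) std33 := by
  have hm : w5 none ∈ leechLattice := by
    have := w5_mem empty_mem none
    rwa [tw_empty] at this
  have h2 := Rv_xi hm
  have hx := xi_mem hm
  have hn : sqNorm (xi (w5 none)) = 48 := by
    rw [sqNorm_xi (ts_even hm), sqNorm_w5]
  have hval : xi (w5 none) (pt 0) = 3 := by
    rw [w5_eq, xi_ofN]
    show xiN L5 (idx (pt 0)) = 3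
    rw [idx_pt (by norm_num)]
    exact xi5_val
  have hodd : ∀ i, xi (w5 none) i % 2 = 1 := by
    rcases parity hx with h | h
    · have := h (pt 0)
      rw [hval] at this
      norm_num at this
    · exact h
  rcases odd_class hx hodd hn with ⟨c, J, hc, hJ, h⟩ | ⟨c, j, hc, h⟩
  · rw [h] at h2
    exact h2.trans (class33 hc hJ)
  · exfalso
    have h3 := congrFun h (pt 0)
    rw [hval] at h3
    unfold tw w5 at h3
    split_ifs at h3 <;> norm_num at h3

/-- Every lattice vector of sum of squares 48 is in the orbit of `(-3, -3, -3, 1, ..., 1)`. -/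
theorem all48 {v : GolayPt → ℤ} (hv : v ∈ leechLattice) (hn : sqNorm v = 48) : Rv v std33 := by
  have hoddcase : ∀ u : GolayPt → ℤ, u ∈ leechLattice → (∀ i, u i % 2 = 1) → sqNorm u = 48 →
      Rv u std33 := by
    intro u hu hodd hnu
    rcases odd_class hu hodd hnu with ⟨c, J, hc, hJ, rfl⟩ | ⟨c, j, hc, rfl⟩
    · exact class33 hc hJ
    · exact (class5 hc j).trans fuse5
  rcases parity hv with hev | hodd
  · obtain ⟨h8, h12⟩ := even48 hv hev hn
    obtain ⟨c, hcdef⟩ : ∃ c : Finset GolayPt, c = Finset.univ.filter fun i => v i % 4 = 2 :=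
      ⟨_, rfl⟩
    rw [← hcdef] at h8 h12
    have hmem : ∀ i, i ∈ c ↔ v i % 4 = 2 := by
      intro i
      rw [hcdef, Finset.mem_filter]
      simp
    obtain ⟨s, hsc, hs3⟩ := Finset.exists_subset_card_eq (s := c) (n := 3) (by omega)
    obtain ⟨x, y, z, hxy, hxz, hyz, rfl⟩ := Finset.card_eq_three.mp hs3
    have hx : x ∈ c := hsc (by simp)
    have hy : y ∈ c := hsc (by simp)
    have hz : z ∈ c := hsc (by simp)
    obtain ⟨q, hq⟩ : ∃ q, q ∉ c := by
      by_contra h
      rw [not_exists] at h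
      have : c = Finset.univ := Finset.eq_univ_iff_forall.mpr (fun i => not_not.mp (h i))
      rw [this, Finset.card_univ, card_golayPt] at h12
      omega
    have hqx : q ≠ x := fun h => hq (h ▸ hx)
    have hqy : q ≠ y := fun h => hq (h ▸ hy)
    have hqz : q ≠ z := fun h => hq (h ▸ hz)
    have hvq : v q % 4 = 0 := by
      have := hev q
      have : ¬ (v q % 4 = 2) := fun h => hq ((hmem q).mpr h)
      omega
    have hvx := (hmem x).mp hx
    have hvy := (hmem y).mp hy
    have hvz := (hmem z).mp hz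
    obtain ⟨u, hvu, hu⟩ := even_to_odd hv (q := q) (x := x) (y := y) (z := z)
      (by simp [hqx, hqy, hqz, hxy, hxz, hyz]) (by omega) (by omega)
    have huL := Rv_mem_right hvu
    have hun : sqNorm u = 48 := by rw [Rv_norm hvu, hn]
    have huodd : ∀ i, u i % 2 = 1 := by
      rcases parity huL with h | h
      · have := h none
        omega
      · exact h
    exact hvu.trans (hoddcase u huL huodd hun)
  · exact hoddcase v hv hodd hn

end Cfsg.Agent.Lib.Helper92.Orbit48
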