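import Mathlib
import Cfsg.Prelude.Def_Sporadic_a
import Cfsg.Agent.S0393
import Cfsg.Agent.Lib.Helper92.LeechCore

/-!
Conway's counting argument for the classes of the rank-24 lattice `Λ` modulo `2Λ`:
`[Λ : 2Λ] = 2^24`, and every class contributes at most `48` to the weighted count of short
vectors (weights `48` for `0`, `24` for sums of squares 32 and 48, `1` for 64).
-/

set_option autoImplicit false

namespace Cfsg.Agent.Lib.Helper92.Conway

open Cfsg Cfsg.Agent.Lib.Helper92.LeechCore

/-! ### The index of `2Λ` in `Λ` -/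

/-- Doubling. -/
def dbl : (GolayPt → ℤ) →+ (GolayPt → ℤ) := nsmulAddMonoidHom 2

theorem dbl_apply (x : GolayPt → ℤ) : dbl x = 2 • x := rfl

theorem dbl_inj : Function.Injective dbl := by
  intro x y h
  funext i
  have := congrFun h i
  simp only [dbl_apply, Pi.smul_apply, nsmul_eq_mul] at this
  push_cast at this
  omega

/-- Reduction modulo 2. -/
def red2 : (GolayPt → ℤ) →+ (GolayPt → ZMod 2) := (Int.castAddHom (ZMod 2)).compLeft GolayPt

theorem red2_apply (x : GolayPt → ℤ) (i : GolayPt) : red2 x i = (x i : ZMod 2) := rfl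

theorem red2_surj : Function.Surjective red2 := by
  intro y
  refine ⟨fun i => ((y i).val : ℤ), ?_⟩
  funext i
  rw [red2_apply]
  simp

theorem red2_ker : red2.ker = dbl.range := by
  ext x
  rw [AddMonoidHom.mem_ker, AddMonoidHom.mem_range]
  constructor
  · intro h
    have h2 : ∀ i, (2 : ℤ) ∣ x i := by
      intro i
      have := congrFun h i
      rw [red2_apply] at this
      exact (ZMod.intCast_zmod_eq_zero_iff_dvd (x i) 2).mp this
    choose z hz using h2
    refine ⟨z, ?_⟩
    funext i
    rw [dbl_apply, hz i]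
    simp
  · rintro ⟨z, rfl⟩
    funext i
    rw [red2_apply, dbl_apply]
    exact (ZMod.intCast_zmod_eq_zero_iff_dvd _ 2).mpr ⟨z i, by simp⟩

theorem index_dbl_range : dbl.range.index = 2 ^ 24 := by
  rw [← red2_ker, AddSubgroup.index_ker, AddMonoidHom.range_eq_top.mpr red2_surj,
    AddSubgroup.card_top, Nat.card_fun, Nat.card_zmod, Nat.card_eq_fintype_card,
    card_golayPt]

/-- `2Λ`. -/
def twoL : AddSubgroup (GolayPt → ℤ) := leechLattice.map dbl

theorem mem_twoL {x : GolayPt → ℤ} : x ∈ twoL ↔ ∃ z ∈ leechLattice, x = 2 • z := by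
  unfold twoL
  rw [AddSubgroup.mem_map]
  constructor
  · rintro ⟨z, hz, rfl⟩
    exact ⟨z, hz, rfl⟩
  · rintro ⟨z, hz, rfl⟩
    exact ⟨z, hz, rfl⟩

theorem twoL_le : twoL ≤ leechLattice := by
  intro x hx
  obtain ⟨z, hz, rfl⟩ := mem_twoL.mp hx
  exact nsmul_mem hz 2

theorem index_twoL : twoL.index = 2 ^ 60 := by
  unfold twoL
  rw [AddSubgroup.index_map_of_injective _ dbl_inj, Cfsg.Agent.S0393.result, index_dbl_range]
  norm_num

theorem relIndex_twoL : twoL.relIndex leechLattice = 2 ^ 24 := by
  have h := AddSubgroup.relIndex_mul_index twoL_le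
  rw [index_twoL, Cfsg.Agent.S0393.result] at h
  have : twoL.relIndex leechLattice * 2 ^ 36 = 2 ^ 24 * 2 ^ 36 := by
    rw [h]
    norm_num
  exact Nat.eq_of_mul_eq_mul_right (by norm_num) this

/-- The classes of `Λ` modulo `2Λ`. -/
abbrev Q : Type := ↥leechLattice ⧸ twoL.addSubgroupOf leechLattice

theorem card_Q : Nat.card Q = 2 ^ 24 := relIndex_twoL

instance finiteQ : Finite Q := Nat.finite_of_card_ne_zero (by rw [card_Q]; norm_num)

noncomputable instance fintypeQ : Fintype Q := Fintype.ofFinite Q

theorem fcard_Q : (Finset.univ : Finset Q).card = 16777216 := by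
  rw [Finset.card_univ, ← Nat.card_eq_fintype_card, card_Q]
  norm_num

open Classical in
/-- The class of a vector (zero outside the lattice). -/
noncomputable def cls (x : GolayPt → ℤ) : Q :=
  if h : x ∈ leechLattice then QuotientAddGroup.mk ⟨x, h⟩ else 0

theorem cls_eq_iff {x y : GolayPt → ℤ} (hx : x ∈ leechLattice) (hy : y ∈ leechLattice) :
    cls x = cls y ↔ ∃ z ∈ leechLattice, x - y = 2 • z := by
  unfold cls
  rw [dif_pos hx, dif_pos hy, QuotientAddGroup.eq, AddSubgroup.mem_addSubgroupOf]
  show -x + y ∈ twoL ↔ _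
  rw [mem_twoL]
  constructor
  · rintro ⟨z, hz, h⟩
    refine ⟨-z, neg_mem hz, ?_⟩
    rw [smul_neg, ← h]
    abel
  · rintro ⟨z, hz, h⟩
    refine ⟨-z, neg_mem hz, ?_⟩
    rw [smul_neg, ← h]
    abel

theorem cls_zero : cls 0 = 0 := by
  unfold cls
  rw [dif_pos (zero_mem _)]
  rfl

/-! ### Frames -/

open Matrix in
/-- An orthogonal family of nonzero vectors has at most 24 members. -/
theorem card_le_of_orth (E : Finset (GolayPt → ℤ)) (hQ : ∀ x ∈ E, x ⬝ᵥ x ≠ 0)
    (horth : ∀ x ∈ E, ∀ y ∈ E, x ≠ y → x ⬝ᵥ y = 0) : E.card ≤ 24 := by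
  have hli : LinearIndependent ℤ (fun e : E => (e : GolayPt → ℤ)) := by
    rw [linearIndependent_iff']
    intro s g hg i hi
    have h1 := congrArg (fun v => v ⬝ᵥ (i : GolayPt → ℤ)) hg
    simp only [sum_dotProduct, smul_dotProduct, zero_dotProduct] at h1
    rw [Finset.sum_eq_single i] at h1
    · have h2 := hQ i i.2
      simpa [h2] using h1
    · intro j _ hji
      rw [horth j j.2 i i.2 (fun h => hji (Subtype.ext h)), smul_zero]
    · intro h
      exact absurd hi h
  have h3 := hli.fintype_card_le_finrank
  rw [Module.finrank_fintype_fun_eq_card, Fintype.card_coe, card_golayPt] at h3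
  exact h3

open Matrix in
/-- A family of vectors which are pairwise equal, opposite or orthogonal contains an orthogonal
subfamily covering it up to sign. -/
theorem exists_frame (T : Finset (GolayPt → ℤ)) :
    (∀ x ∈ T, ∀ y ∈ T, y = x ∨ y = -x ∨ x ⬝ᵥ y = 0) →
    ∃ E : Finset (GolayPt → ℤ), E ⊆ T ∧ (∀ x ∈ E, ∀ y ∈ E, x ≠ y → x ⬝ᵥ y = 0)
      ∧ T ⊆ E ∪ E.image (fun x => -x) := by
  classical
  induction T using Finset.induction_on with
  | empty =>
    intro _
    exact ⟨∅, by simp, by simp, by simp⟩
  | insert a T' ha ih =>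
    intro hT
    obtain ⟨E, hE1, hE2, hE3⟩ := ih (fun x hx y hy =>
      hT x (Finset.mem_insert_of_mem hx) y (Finset.mem_insert_of_mem hy))
    by_cases hmem : a ∈ E ∪ E.image (fun x => -x)
    · refine ⟨E, hE1.trans (Finset.subset_insert _ _), hE2, ?_⟩
      intro x hx
      rw [Finset.mem_insert] at hx
      rcases hx with rfl | hx
      · exact hmem
      · exact hE3 hx
    · have haE : a ∉ E := fun h => hmem (Finset.mem_union_left _ h)
      have haE' : ∀ y ∈ E, a ≠ -y := by
        intro y hy h
        exact hmem (Finset.mem_union_right _ (Finset.mem_image.2 ⟨y, hy, h.symm⟩))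
      refine ⟨insert a E, Finset.insert_subset_insert a hE1, ?_, ?_⟩
      · intro x hx y hy hxy
        rw [Finset.mem_insert] at hx hy
        rcases hx with rfl | hx
        · rcases hy with rfl | hy
          · exact absurd rfl hxy
          · rcases hT x (Finset.mem_insert_self _ _) y (Finset.mem_insert_of_mem (hE1 hy))
              with h | h | h
            · exact absurd (h ▸ hy) haE
            · exact absurd (by rw [h, neg_neg]) (haE' y hy)
            · exact h
        · rcases hy with rfl | hy
          · rcases hT x (Finset.mem_insert_of_mem (hE1 hx)) y (Finset.mem_insert_self _ _)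
              with h | h | h
            · exact absurd (h ▸ hx) haE
            · exact absurd h (haE' x hx)
            · exact h
          · exact hE2 x hx y hy hxy
      · intro x hx
        rw [Finset.mem_insert] at hx
        rcases hx with rfl | hx
        · exact Finset.mem_union_left _ (Finset.mem_insert_self _ _)
        · have := hE3 hx
          rw [Finset.mem_union] at this ⊢
          rcases this with h | h
          · exact Or.inl (Finset.mem_insert_of_mem h)
          · right
            rw [Finset.mem_image] at h ⊢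
            obtain ⟨e, he, hxe⟩ := h
            exact ⟨e, Finset.mem_insert_of_mem he, hxe⟩

/-- A set of vectors of sum of squares 64 that are pairwise equal, opposite or orthogonal has at
most 48 members. -/
theorem frame_bound (T : Finset (GolayPt → ℤ)) (hQ : ∀ x ∈ T, sqNorm x = 64)
    (hT : ∀ x ∈ T, ∀ y ∈ T, y = x ∨ y = -x ∨ dotInt x y = 0) : T.card ≤ 48 := by
  classical
  obtain ⟨E, hE1, hE2, hE3⟩ := exists_frame T hT
  have h24 := card_le_of_orth E (fun x hx => by
    have h := hQ x (hE1 hx)
    have e : x ⬝ᵥ x = sqNorm x := by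
      unfold sqNorm dotProduct
      exact Finset.sum_congr rfl (fun i _ => (sq (x i)).symm)
    rw [e, h]
    norm_num) hE2
  have h1 := Finset.card_le_card hE3
  have h2 := Finset.card_union_le E (E.image (fun x => -x))
  have h3 := Finset.card_image_le (s := E) (f := fun x : GolayPt → ℤ => -x)
  omega

/-! ### Counting -/

theorem total {ι : Type*} [DecidableEq ι] (s : Finset ι) (c0 : ι) (hc0 : c0 ∈ s)
    (a b d : ι → ℕ) (A B' D : ℕ) (ha : ∑ c ∈ s, a c = A) (hb : ∑ c ∈ s, b c = B')
    (hd : ∑ c ∈ s, d c = D) :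
    ∑ c ∈ s, (48 * (if c = c0 then 1 else 0) + 24 * a c + 24 * b c + d c)
      = 48 + 24 * A + 24 * B' + D := by
  rw [Finset.sum_add_distrib, Finset.sum_add_distrib, Finset.sum_add_distrib, ← Finset.mul_sum,
    ← Finset.mul_sum, ← Finset.mul_sum, ha, hb, hd, Finset.sum_ite_eq' s c0 (fun _ => 1),
    if_pos hc0, mul_one]

section
open Classical

theorem sum_fib (F : Finset (GolayPt → ℤ)) :
    ∑ c : Q, (F.filter (fun x => cls x = c)).card = F.card :=
  (Finset.card_eq_sum_card_fiberwise (f := cls) (s := F) (t := Finset.univ)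
    (fun _ _ => Finset.mem_univ _)).symm

theorem pair_cases {u v : GolayPt → ℤ} (hu : u ∈ leechLattice) (hv : v ∈ leechLattice)
    (hun : sqNorm u ≤ 64) (hvn : sqNorm v ≤ 64) (huv : cls u = cls v) :
    v = u ∨ v = -u ∨ (sqNorm u = 64 ∧ sqNorm v = 64 ∧ dotInt u v = 0) :=
  short_congr hu hv hun hvn ((cls_eq_iff hu hv).mp huv)

theorem sqNorm_zero' : sqNorm (0 : GolayPt → ℤ) = 0 := by
  unfold sqNorm
  simp

theorem cls_ne_zero {u : GolayPt → ℤ} (hu : u ∈ leechLattice) (hun : sqNorm u ≤ 64)
    (hu0 : sqNorm u ≠ 0) : cls u ≠ 0 := by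
  intro hc
  rcases pair_cases hu (zero_mem _) hun (by rw [sqNorm_zero']; norm_num) (by rw [hc, cls_zero])
    with h | h | h
  · rw [← h, sqNorm_zero'] at hu0
    exact hu0 rfl
  · have : u = 0 := by
      have := congrArg Neg.neg h
      simpa using this.symm
    rw [this, sqNorm_zero'] at hu0
    exact hu0 rfl
  · rw [sqNorm_zero'] at h
    omega

/-- Every class contributes at most 48. -/
theorem class_bound (F32 F48 F64 : Finset (GolayPt → ℤ))
    (m32 : ∀ y ∈ F32, y ∈ leechLattice ∧ sqNorm y = 32)
    (m48 : ∀ y ∈ F48, y ∈ leechLattice ∧ sqNorm y = 48)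
    (m64 : ∀ y ∈ F64, y ∈ leechLattice ∧ sqNorm y = 64) (c : Q) :
    48 * (if c = 0 then 1 else 0) + 24 * (F32.filter (fun x => cls x = c)).card
      + 24 * (F48.filter (fun x => cls x = c)).card + (F64.filter (fun x => cls x = c)).card
      ≤ 48 := by
  by_cases hc0 : c = 0
  · have e4 : F32.filter (fun x => cls x = c) = ∅ := by
      rw [Finset.eq_empty_iff_forall_notMem]
      intro u hu
      rw [Finset.mem_filter] at hu
      obtain ⟨h1, h2⟩ := m32 u hu.1
      exact cls_ne_zero h1 (by rw [h2]; norm_num) (by rw [h2]; norm_num) (by rw [hu.2, hc0])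
    have e6 : F48.filter (fun x => cls x = c) = ∅ := by
      rw [Finset.eq_empty_iff_forall_notMem]
      intro u hu
      rw [Finset.mem_filter] at hu
      obtain ⟨h1, h2⟩ := m48 u hu.1
      exact cls_ne_zero h1 (by rw [h2]; norm_num) (by rw [h2]; norm_num) (by rw [hu.2, hc0])
    have e8 : F64.filter (fun x => cls x = c) = ∅ := by
      rw [Finset.eq_empty_iff_forall_notMem]
      intro u hu
      rw [Finset.mem_filter] at hu
      obtain ⟨h1, h2⟩ := m64 u hu.1
      exact cls_ne_zero h1 (by rw [h2]) (by rw [h2]; norm_num) (by rw [hu.2, hc0])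
    rw [e4, e6, e8, if_pos hc0]
    simp
  · rw [if_neg hc0]
    by_cases hex : ∃ u : GolayPt → ℤ, u ∈ leechLattice ∧ cls u = c ∧
        (sqNorm u = 32 ∨ sqNorm u = 48)
    · obtain ⟨u, huL, huc, hu⟩ := hex
      have hu8 : sqNorm u ≤ 64 := by omega
      have hu8' : sqNorm u ≠ 64 := by omega
      have hall : ∀ v : GolayPt → ℤ, v ∈ leechLattice → sqNorm v ≤ 64 → cls v = c →
          v = u ∨ v = -u := by
        intro v hvL hv hvc
        rcases pair_cases huL hvL hu8 hv (by rw [huc, hvc]) with h | h | h
        · exact Or.inl h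
        · exact Or.inr h
        · exact absurd h.1 hu8'
      have e8 : F64.filter (fun x => cls x = c) = ∅ := by
        rw [Finset.eq_empty_iff_forall_notMem]
        intro v hv
        rw [Finset.mem_filter] at hv
        obtain ⟨h1, h2⟩ := m64 v hv.1
        rcases hall v h1 (by rw [h2]) hv.2 with h | h
        · rw [h] at h2
          exact hu8' h2
        · rw [h, sqNorm_neg] at h2
          exact hu8' h2
      have hsub : F32.filter (fun x => cls x = c) ∪ F48.filter (fun x => cls x = c)
          ⊆ {u, -u} := by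
        intro v hv
        rw [Finset.mem_union, Finset.mem_filter, Finset.mem_filter] at hv
        rw [Finset.mem_insert, Finset.mem_singleton]
        rcases hv with hv | hv
        · obtain ⟨h1, h2⟩ := m32 v hv.1
          exact hall v h1 (by rw [h2]; norm_num) hv.2
        · obtain ⟨h1, h2⟩ := m48 v hv.1
          exact hall v h1 (by rw [h2]; norm_num) hv.2
      have hdisj : Disjoint (F32.filter (fun x => cls x = c))
          (F48.filter (fun x => cls x = c)) := by
        rw [Finset.disjoint_left]
        intro v hv hv'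
        rw [Finset.mem_filter] at hv hv'
        have h1 := (m32 v hv.1).2
        have h2 := (m48 v hv'.1).2
        omega
      have h1 := Finset.card_le_card hsub
      rw [Finset.card_union_of_disjoint hdisj] at h1
      have h2 : ({u, -u} : Finset (GolayPt → ℤ)).card ≤ 2 := Finset.card_le_two
      rw [e8, Finset.card_empty]
      omega
    · have e4 : F32.filter (fun x => cls x = c) = ∅ := by
        rw [Finset.eq_empty_iff_forall_notMem]
        intro u hu
        rw [Finset.mem_filter] at hu
        obtain ⟨h1, h2⟩ := m32 u hu.1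
        exact hex ⟨u, h1, hu.2, Or.inl h2⟩
      have e6 : F48.filter (fun x => cls x = c) = ∅ := by
        rw [Finset.eq_empty_iff_forall_notMem]
        intro u hu
        rw [Finset.mem_filter] at hu
        obtain ⟨h1, h2⟩ := m48 u hu.1
        exact hex ⟨u, h1, hu.2, Or.inr h2⟩
      rw [e4, e6, Finset.card_empty]
      have h48 : (F64.filter (fun x => cls x = c)).card ≤ 48 := by
        apply frame_bound
        · intro u hu
          rw [Finset.mem_filter] at hu
          exact (m64 u hu.1).2
        · intro u hu v hv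
          rw [Finset.mem_filter] at hu hv
          obtain ⟨h1, h2⟩ := m64 u hu.1
          obtain ⟨h3, h4⟩ := m64 v hv.1
          rcases pair_cases h1 h3 (by rw [h2]) (by rw [h4]) (by rw [hu.2, hv.2]) with h | h | h
          · exact Or.inl h
          · exact Or.inr (Or.inl h)
          · exact Or.inr (Or.inr h.2.2)
      omega

theorem sum_classes (F32 F48 F64 : Finset (GolayPt → ℤ)) :
    ∑ c : Q, (48 * (if c = 0 then 1 else 0) + 24 * (F32.filter (fun x => cls x = c)).card
      + 24 * (F48.filter (fun x => cls x = c)).card + (F64.filter (fun x => cls x = c)).card)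
      = 48 + 24 * F32.card + 24 * F48.card + F64.card :=
  total Finset.univ 0 (Finset.mem_univ _) _ _ _ _ _ _ (sum_fib F32) (sum_fib F48) (sum_fib F64)

/-- The weighted count of short vectors is at most `48 * 2^24`. -/
theorem total_le (F32 F48 F64 : Finset (GolayPt → ℤ))
    (m32 : ∀ y ∈ F32, y ∈ leechLattice ∧ sqNorm y = 32)
    (m48 : ∀ y ∈ F48, y ∈ leechLattice ∧ sqNorm y = 48)
    (m64 : ∀ y ∈ F64, y ∈ leechLattice ∧ sqNorm y = 64) :
    48 + 24 * F32.card + 24 * F48.card + F64.card ≤ 48 * 16777216 := by
  rw [← sum_classes F32 F48 F64]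
  have h := Finset.sum_le_sum (s := (Finset.univ : Finset Q))
    (fun c _ => class_bound F32 F48 F64 m32 m48 m64 c)
  rw [Finset.sum_const, fcard_Q, smul_eq_mul] at h
  omega

/-- In the case of equality every class contributes exactly 48. -/
theorem class_eq (F32 F48 F64 : Finset (GolayPt → ℤ))
    (m32 : ∀ y ∈ F32, y ∈ leechLattice ∧ sqNorm y = 32)
    (m48 : ∀ y ∈ F48, y ∈ leechLattice ∧ sqNorm y = 48)
    (m64 : ∀ y ∈ F64, y ∈ leechLattice ∧ sqNorm y = 64)
    (hsum : 48 + 24 * F32.card + 24 * F48.card + F64.card = 48 * 16777216) (c : Q) :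
    48 * (if c = 0 then 1 else 0) + 24 * (F32.filter (fun x => cls x = c)).card
      + 24 * (F48.filter (fun x => cls x = c)).card + (F64.filter (fun x => cls x = c)).card
      = 48 := by
  have h2 : ∑ c : Q, (48 * (if c = 0 then 1 else 0) + 24 * (F32.filter (fun x => cls x = c)).card
      + 24 * (F48.filter (fun x => cls x = c)).card + (F64.filter (fun x => cls x = c)).card)
      = ∑ _c : Q, 48 := by
    rw [sum_classes, hsum, Finset.sum_const, fcard_Q, smul_eq_mul, mul_comm]
  exact (Finset.sum_eq_sum_iff_of_le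
    (fun c _ => class_bound F32 F48 F64 m32 m48 m64 c)).1 h2 c (Finset.mem_univ _)

end

end Cfsg.Agent.Lib.Helper92.Conway
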