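import Mathlib
import Cfsg.Prelude.Def_Sporadic_a
import Cfsg.Agent.Lib.Helper92.Orbit48
import Cfsg.Agent.S0394

/-!
Explicit families of lattice vectors of sum of squares 48 and 64, with their cardinalities
(lower bounds `16773120` and `398034000` for the numbers of such vectors).
-/

set_option autoImplicit false

namespace Cfsg.Agent.Lib.Helper92.Families

open Cfsg Cfsg.Agent.Lib.Helper92.LeechCore Cfsg.Agent.Lib.Helper92.MinVec
open Cfsg.Agent.Lib.Helper92.LeechGen Cfsg.Agent.Lib.Helper92.Orbit48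
open Cfsg.Agent.S0394
open Cfsg.Agent.Lib.Helper7.GolayCount

/-! ### Code words of given weight -/

/-- Supports of code words with `k` elements. -/
@[irreducible] noncomputable def cwFk (k : ℕ) : Finset (Finset GolayPt) :=
  cwF.filter (fun c => c.card = k)

theorem mem_cwFk {k : ℕ} {c : Finset GolayPt} : c ∈ cwFk k ↔ IsCW c ∧ c.card = k := by
  unfold cwFk
  rw [Finset.mem_filter, mem_cwF]

theorem card_cwF8 : (cwFk 8).card = 759 := by
  have : cwFk 8 = octF := by
    ext c
    rw [mem_cwFk, mem_octF]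
  rw [this, card_octF]

theorem card_cwF12 : (cwFk 12).card = 2576 := by
  rw [← Set.ncard_coe_finset, ← ncard_dodecads]
  congr 1
  ext c
  rw [Finset.mem_coe, mem_cwFk]
  rfl

theorem card_cwF16 : (cwFk 16).card = 759 := by
  classical
  have : cwFk 16 = (cwFk 8).image (fun c => cᶜ) := by
    ext c
    rw [Finset.mem_image, mem_cwFk]
    constructor
    · rintro ⟨hc, h16⟩
      refine ⟨cᶜ, mem_cwFk.mpr ⟨compl_mem hc, ?_⟩, compl_compl c⟩
      rw [Finset.card_compl, card_golayPt, h16]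
    · rintro ⟨o, ho, rfl⟩
      obtain ⟨ho1, ho2⟩ := mem_cwFk.mp ho
      refine ⟨compl_mem ho1, ?_⟩
      rw [Finset.card_compl, card_golayPt, ho2]
  rw [this, Finset.card_image_of_injective _ compl_injective, card_cwF8]

theorem card_cwF0 : (cwFk 0).card = 1 := by
  have : cwFk 0 = {∅} := by
    ext c
    rw [mem_cwFk, Finset.mem_singleton, Finset.card_eq_zero]
    constructor
    · exact fun h => h.2
    · rintro rfl
      exact ⟨empty_mem, rfl⟩
  rw [this, Finset.card_singleton]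

/-! ### Subsets of given parity -/

theorem card_par_subsets (s : Finset GolayPt) (hs : s.Nonempty) :
    2 * (s.powerset.filter (fun e => e.card % 2 = 0)).card = 2 ^ s.card ∧
    2 * (s.powerset.filter (fun e => e.card % 2 = 1)).card = 2 ^ s.card := by
  have h1 : ∑ e ∈ s.powerset, (-1 : ℤ) ^ e.card = 0 :=
    Finset.sum_powerset_neg_one_pow_card_of_nonempty hs
  rw [← Finset.sum_filter_add_sum_filter_not s.powerset (fun e => e.card % 2 = 0)] at h1
  have h2 : ∑ e ∈ s.powerset.filter (fun e => e.card % 2 = 0), (-1 : ℤ) ^ e.card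
      = ((s.powerset.filter (fun e => e.card % 2 = 0)).card : ℤ) := by
    rw [Finset.sum_congr rfl (g := fun _ => (1 : ℤ))]
    · simp
    · intro e he
      exact Even.neg_one_pow (Nat.even_iff.mpr (Finset.mem_filter.mp he).2)
  have h3 : ∑ e ∈ s.powerset.filter (fun e => ¬ e.card % 2 = 0), (-1 : ℤ) ^ e.card
      = -((s.powerset.filter (fun e => ¬ e.card % 2 = 0)).card : ℤ) := by
    rw [Finset.sum_congr rfl (g := fun _ => (-1 : ℤ))]
    · simp
    · intro e he
      exact Odd.neg_one_pow (Nat.odd_iff.mpr (by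
        have := (Finset.mem_filter.mp he).2
        omega))
  rw [h2, h3] at h1
  have h4 := Finset.card_filter_add_card_filter_not (s := s.powerset) (fun e => e.card % 2 = 0)
  rw [Finset.card_powerset] at h4
  have h5 : (s.powerset.filter (fun e => ¬ e.card % 2 = 0))
      = (s.powerset.filter (fun e => e.card % 2 = 1)) := by
    apply Finset.filter_congr
    intro e _
    omega
  rw [h5] at h1 h4
  constructor <;> omega

/-! ### Decoding invariants of even vectors -/

/-- Coordinates that are `2` mod 4. -/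
def dec2 (v : GolayPt → ℤ) : Finset GolayPt := Finset.univ.filter fun i => v i % 4 = 2

/-- Nonzero coordinates divisible by 4. -/
def dec0 (v : GolayPt → ℤ) : Finset GolayPt := Finset.univ.filter fun i => v i % 4 = 0 ∧ v i ≠ 0

theorem mem_dec2 (v : GolayPt → ℤ) (i : GolayPt) : i ∈ dec2 v ↔ v i % 4 = 2 := by
  unfold dec2
  rw [Finset.mem_filter]
  simp

theorem mem_dec0 (v : GolayPt → ℤ) (i : GolayPt) : i ∈ dec0 v ↔ v i % 4 = 0 ∧ v i ≠ 0 := by
  unfold dec0
  rw [Finset.mem_filter]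
  simp

/-! ### The general even family -/

/-- `±2` on `c` (minus on `e`), `±4` on `p` (minus on `e'`). -/
def gv (c e p e' : Finset GolayPt) : GolayPt → ℤ := shape 2 c e + shape 4 p e'

theorem gv_apply_c {c e p e' : Finset GolayPt} (he' : e' ⊆ p) (hd : Disjoint c p)
    {i : GolayPt} (hi : i ∈ c) : gv c e p e' i = shape 2 c e i := by
  have h1 : i ∉ p := Finset.disjoint_left.mp hd hi
  have h2 : i ∉ e' := fun h => h1 (he' h)
  simp [gv, shape, h1, h2]

theorem gv_apply_p {c e p e' : Finset GolayPt} (he : e ⊆ c) (hd : Disjoint c p)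
    {i : GolayPt} (hi : i ∈ p) : gv c e p e' i = shape 4 p e' i := by
  have h1 : i ∉ c := Finset.disjoint_right.mp hd hi
  have h2 : i ∉ e := fun h => h1 (he h)
  simp [gv, shape, h1, h2]

theorem gv_apply_out {c e p e' : Finset GolayPt} (he : e ⊆ c) (he' : e' ⊆ p)
    {i : GolayPt} (h1 : i ∉ c) (h2 : i ∉ p) : gv c e p e' i = 0 := by
  have h3 : i ∉ e := fun h => h1 (he h)
  have h4 : i ∉ e' := fun h => h2 (he' h)
  simp [gv, shape, h1, h2, h3, h4]

theorem shape2_val {c e : Finset GolayPt} {i : GolayPt} (hi : i ∈ c) :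
    shape 2 c e i = if i ∈ e then -2 else 2 := by
  simp [shape, hi]

theorem shape4_val {p e : Finset GolayPt} {i : GolayPt} (hi : i ∈ p) :
    shape 4 p e i = if i ∈ e then -4 else 4 := by
  simp [shape, hi]

theorem dec2_gv {c e p e' : Finset GolayPt} (he : e ⊆ c) (he' : e' ⊆ p) (hd : Disjoint c p) :
    dec2 (gv c e p e') = c := by
  ext i
  rw [mem_dec2]
  by_cases h1 : i ∈ c
  · rw [gv_apply_c he' hd h1, shape2_val h1]
    simp only [h1, iff_true]
    split_ifs <;> decide
  · by_cases h2 : i ∈ p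
    · rw [gv_apply_p he hd h2, shape4_val h2]
      simp only [h1, iff_false]
      split_ifs <;> decide
    · rw [gv_apply_out he he' h1 h2]
      simp only [h1, iff_false]
      decide

theorem dec0_gv {c e p e' : Finset GolayPt} (he : e ⊆ c) (he' : e' ⊆ p) (hd : Disjoint c p) :
    dec0 (gv c e p e') = p := by
  ext i
  rw [mem_dec0]
  by_cases h1 : i ∈ c
  · have h2 : i ∉ p := Finset.disjoint_left.mp hd h1
    rw [gv_apply_c he' hd h1, shape2_val h1]
    simp only [h2, iff_false]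
    split_ifs <;> decide
  · by_cases h2 : i ∈ p
    · rw [gv_apply_p he hd h2, shape4_val h2]
      simp only [h2, iff_true]
      split_ifs <;> decide
    · rw [gv_apply_out he he' h1 h2]
      simp [h2]

theorem neg2_gv {c e p e' : Finset GolayPt} (he : e ⊆ c) (he' : e' ⊆ p) (hd : Disjoint c p) :
    (Finset.univ.filter fun i => gv c e p e' i = -2) = e := by
  ext i
  rw [Finset.mem_filter]
  simp only [Finset.mem_univ, true_and]
  by_cases h1 : i ∈ c
  · rw [gv_apply_c he' hd h1, shape2_val h1]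
    by_cases h3 : i ∈ e
    · simp [h3]
    · simp [h3]
  · have h3 : i ∉ e := fun h => h1 (he h)
    by_cases h2 : i ∈ p
    · rw [gv_apply_p he hd h2, shape4_val h2]
      simp only [h3, iff_false]
      split_ifs <;> decide
    · rw [gv_apply_out he he' h1 h2]
      simp [h3]

theorem neg4_gv {c e p e' : Finset GolayPt} (he : e ⊆ c) (he' : e' ⊆ p) (hd : Disjoint c p) :
    (Finset.univ.filter fun i => gv c e p e' i = -4) = e' := by
  ext i
  rw [Finset.mem_filter]
  simp only [Finset.mem_univ, true_and]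
  by_cases h2 : i ∈ p
  · rw [gv_apply_p he hd h2, shape4_val h2]
    by_cases h3 : i ∈ e'
    · simp [h3]
    · simp [h3]
  · have h3 : i ∉ e' := fun h => h2 (he' h)
    by_cases h1 : i ∈ c
    · rw [gv_apply_c he' hd h1, shape2_val h1]
      simp only [h3, iff_false]
      split_ifs <;> decide
    · rw [gv_apply_out he he' h1 h2]
      simp [h3]

theorem gv_inj {c e p e' c₁ e₁ p₁ e₁' : Finset GolayPt} (he : e ⊆ c) (he' : e' ⊆ p)
    (hd : Disjoint c p) (he₁ : e₁ ⊆ c₁) (he₁' : e₁' ⊆ p₁) (hd₁ : Disjoint c₁ p₁)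
    (h : gv c e p e' = gv c₁ e₁ p₁ e₁') : c = c₁ ∧ e = e₁ ∧ p = p₁ ∧ e' = e₁' := by
  refine ⟨?_, ?_, ?_, ?_⟩
  · rw [← dec2_gv he he' hd, h, dec2_gv he₁ he₁' hd₁]
  · rw [← neg2_gv he he' hd, h, neg2_gv he₁ he₁' hd₁]
  · rw [← dec0_gv he he' hd, h, dec0_gv he₁ he₁' hd₁]
  · rw [← neg4_gv he he' hd, h, neg4_gv he₁ he₁' hd₁]

theorem sum_gv {c e p e' : Finset GolayPt} (he : e ⊆ c) (he' : e' ⊆ p) :
    ∑ i, gv c e p e' i = 2 * ((c.card : ℤ) - 2 * e.card) + 4 * ((p.card : ℤ) - 2 * e'.card) := by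
  unfold gv
  simp only [Pi.add_apply]
  rw [Finset.sum_add_distrib, sum_shape 2 he, sum_shape 4 he']

theorem sqNorm_gv {c e p e' : Finset GolayPt} (he : e ⊆ c) (he' : e' ⊆ p) (hd : Disjoint c p) :
    sqNorm (gv c e p e') = 4 * (c.card : ℤ) + 16 * p.card := by
  unfold sqNorm
  have h : ∀ i, gv c e p e' i ^ 2
      = 4 * (if i ∈ c then 1 else 0) + 16 * (if i ∈ p then 1 else 0) := by
    intro i
    by_cases h1 : i ∈ c
    · have h2 : i ∉ p := Finset.disjoint_left.mp hd h1
      rw [gv_apply_c he' hd h1, shape2_val h1]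
      simp only [h1, h2, if_true, if_false]
      split_ifs <;> norm_num
    · by_cases h2 : i ∈ p
      · rw [gv_apply_p he hd h2, shape4_val h2]
        simp only [h1, h2, if_true, if_false]
        split_ifs <;> norm_num
      · rw [gv_apply_out he he' h1 h2]
        simp [h1, h2]
  simp_rw [h]
  rw [Finset.sum_add_distrib, ← Finset.mul_sum, ← Finset.mul_sum, sum_indicator, sum_indicator]

theorem gv_mem {c e p e' : Finset GolayPt} (hc : IsCW c) (he : e ⊆ c) (he' : e' ⊆ p)
    (hd : Disjoint c p) (hpar : (e.card + p.card) % 2 = 0) : gv c e p e' ∈ leechLattice := by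
  have hev : ∀ i, gv c e p e' i % 2 = 0 := by
    intro i
    by_cases h1 : i ∈ c
    · rw [gv_apply_c he' hd h1, shape2_val h1]
      split_ifs <;> decide
    · by_cases h2 : i ∈ p
      · rw [gv_apply_p he hd h2, shape4_val h2]
        split_ifs <;> decide
      · rw [gv_apply_out he he' h1 h2]
        decide
  rw [mem_iff_even hev]
  constructor
  · have := dec2_gv he he' hd
    unfold dec2 at this
    rw [this]
    exact hc
  · rw [sum_gv he he']
    obtain ⟨q, hq⟩ := four_dvd_card hc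
    rw [hq]
    push_cast
    omega

/-- Parameters of the general even family. -/
@[irreducible] noncomputable def PG (k m : ℕ) :
    Finset (Σ _ : Finset GolayPt, (Finset GolayPt × (Σ _ : Finset GolayPt, Finset GolayPt))) :=
  (cwFk k).sigma (fun c => (c.powerset.filter (fun e => e.card % 2 = m % 2)) ×ˢ
    ((cᶜ.powersetCard m).sigma (fun p => p.powerset)))

theorem mem_PG {k m : ℕ}
    {x : Σ _ : Finset GolayPt, (Finset GolayPt × (Σ _ : Finset GolayPt, Finset GolayPt))} :
    x ∈ PG k m ↔ (IsCW x.1 ∧ x.1.card = k) ∧ (x.2.1 ⊆ x.1 ∧ x.2.1.card % 2 = m % 2) ∧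
      (x.2.2.1 ⊆ x.1ᶜ ∧ x.2.2.1.card = m) ∧ x.2.2.2 ⊆ x.2.2.1 := by
  unfold PG
  rw [Finset.mem_sigma, Finset.mem_product, Finset.mem_filter, Finset.mem_powerset,
    Finset.mem_sigma, Finset.mem_powersetCard, Finset.mem_powerset, mem_cwFk]

theorem card_inner (c : Finset GolayPt) (m : ℕ) :
    ((cᶜ.powersetCard m).sigma (fun p => p.powerset)).card = Nat.choose cᶜ.card m * 2 ^ m := by
  rw [Finset.card_sigma]
  have : ∀ p ∈ cᶜ.powersetCard m, p.powerset.card = 2 ^ m := by
    intro p hp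
    rw [Finset.card_powerset, (Finset.mem_powersetCard.mp hp).2]
  rw [Finset.sum_congr rfl this, Finset.sum_const, Finset.card_powersetCard, smul_eq_mul]

theorem card_PG_pos (k m : ℕ) (hk : 0 < k) (hk24 : k ≤ 24) :
    2 * (PG k m).card = (cwFk k).card * (2 ^ k * (Nat.choose (24 - k) m * 2 ^ m)) := by
  unfold PG
  rw [Finset.card_sigma, Finset.mul_sum]
  have : ∀ c ∈ cwFk k, 2 * ((c.powerset.filter (fun e => e.card % 2 = m % 2)) ×ˢ
      ((cᶜ.powersetCard m).sigma (fun p => p.powerset))).card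
      = 2 ^ k * (Nat.choose (24 - k) m * 2 ^ m) := by
    intro c hc
    obtain ⟨-, hck⟩ := mem_cwFk.mp hc
    have hne : c.Nonempty := by
      rw [← Finset.card_pos, hck]
      exact hk
    obtain ⟨h0, h1⟩ := card_par_subsets c hne
    rw [hck] at h0 h1
    have hcc : cᶜ.card = 24 - k := by rw [Finset.card_compl, card_golayPt, hck]
    rw [Finset.card_product, card_inner, hcc, ← mul_assoc]
    rcases Nat.mod_two_eq_zero_or_one m with hm | hm
    · rw [hm, h0]
    · rw [hm, h1]
  rw [Finset.sum_congr rfl this, Finset.sum_const, smul_eq_mul]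

theorem card_PG_zero (m : ℕ) (hm : m % 2 = 0) : (PG 0 m).card = Nat.choose 24 m * 2 ^ m := by
  unfold PG
  rw [Finset.card_sigma]
  have : ∀ c ∈ cwFk 0, ((c.powerset.filter (fun e => e.card % 2 = m % 2)) ×ˢ
      ((cᶜ.powersetCard m).sigma (fun p => p.powerset))).card = Nat.choose 24 m * 2 ^ m := by
    intro c hc
    obtain ⟨-, hck⟩ := mem_cwFk.mp hc
    have hc0 : c = ∅ := Finset.card_eq_zero.mp hck
    subst hc0
    have hcc : (∅ : Finset GolayPt)ᶜ.card = 24 := by
      rw [Finset.card_compl, card_golayPt, Finset.card_empty]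
    have h1 : ((∅ : Finset GolayPt).powerset.filter (fun e => e.card % 2 = m % 2)).card = 1 := by
      rw [Finset.powerset_empty, Finset.filter_singleton, if_pos (by rw [Finset.card_empty, hm])]
      rfl
    rw [Finset.card_product, card_inner, hcc, h1, one_mul]
  rw [Finset.sum_congr rfl this, Finset.sum_const, card_cwF0, one_smul]

/-- The vector of a parameter. -/
def gvP (x : Σ _ : Finset GolayPt, (Finset GolayPt × (Σ _ : Finset GolayPt, Finset GolayPt))) :
    GolayPt → ℤ := gv x.1 x.2.1 x.2.2.1 x.2.2.2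

open Classical in
/-- The general even family. -/
@[irreducible] noncomputable def FG (k m : ℕ) : Finset (GolayPt → ℤ) := (PG k m).image gvP

theorem disj_of_compl {c p : Finset GolayPt} (h : p ⊆ cᶜ) : Disjoint c p := by
  rw [Finset.disjoint_left]
  intro i hi hp
  have := h hp
  rw [Finset.mem_compl] at this
  exact this hi

theorem card_FG (k m : ℕ) : (FG k m).card = (PG k m).card := by
  classical
  unfold FG
  apply Finset.card_image_of_injOn
  rintro ⟨c, e, p, e'⟩ hx ⟨c₁, e₁, p₁, e₁'⟩ hx₁ h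
  obtain ⟨-, ⟨he, -⟩, ⟨hp, -⟩, he'⟩ := mem_PG.mp hx
  obtain ⟨-, ⟨he₁, -⟩, ⟨hp₁, -⟩, he₁'⟩ := mem_PG.mp hx₁
  obtain ⟨rfl, rfl, rfl, rfl⟩ := gv_inj he he' (disj_of_compl hp) he₁ he₁' (disj_of_compl hp₁) h
  rfl

theorem FG_spec {k m : ℕ} {v : GolayPt → ℤ} (hv : v ∈ FG k m) :
    v ∈ leechLattice ∧ sqNorm v = 4 * (k : ℤ) + 16 * m ∧ v none % 2 = 0 ∧
      (dec2 v).card = k ∧ (dec0 v).card = m := by
  classical
  unfold FG at hv
  obtain ⟨⟨c, e, p, e'⟩, hx, rfl⟩ := Finset.mem_image.mp hv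
  obtain ⟨⟨hc, hck⟩, ⟨he, hpar⟩, ⟨hp, hpm⟩, he'⟩ := mem_PG.mp hx
  have hck : c.card = k := hck
  have hpar : e.card % 2 = m % 2 := hpar
  have hpm : p.card = m := hpm
  have he : e ⊆ c := he
  have he' : e' ⊆ p := he'
  have hp : p ⊆ cᶜ := hp
  have hc : IsCW c := hc
  have hd := disj_of_compl hp
  have hmem : gv c e p e' ∈ leechLattice := gv_mem hc he he' hd (by
    rw [hpm]
    omega)
  refine ⟨hmem, ?_, ?_, ?_, ?_⟩
  · show sqNorm (gv c e p e') = _
    rw [sqNorm_gv he he' hd, hck, hpm]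
  · show gv c e p e' none % 2 = 0
    rcases parity hmem with h | h
    · exact h none
    · exfalso
      have h2 := (mem_dec2 (gv c e p e') none)
      have h0 := (mem_dec0 (gv c e p e') none)
      have := h none
      by_cases h1 : (none : GolayPt) ∈ c
      · rw [dec2_gv he he' hd] at h2
        have := h2.mp h1
        omega
      · by_cases h3 : (none : GolayPt) ∈ p
        · rw [dec0_gv he he' hd] at h0
          have := (h0.mp h3).1
          omega
        · have := gv_apply_out he he' h1 h3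
          omega
  · show (dec2 (gv c e p e')).card = k
    rw [dec2_gv he he' hd]
    exact hck
  · show (dec0 (gv c e p e')).card = m
    rw [dec0_gv he he' hd]
    exact hpm

/-! ### Odd families -/

theorem tw_inj {c c' : Finset GolayPt} {w w' : GolayPt → ℤ} (hw : ∀ i, w i % 4 = 1)
    (hw' : ∀ i, w' i % 4 = 1) (h : tw c w = tw c' w') : c = c' ∧ w = w' := by
  have hc : ∀ (c : Finset GolayPt) (w : GolayPt → ℤ), (∀ i, w i % 4 = 1) →
      ∀ i, i ∈ c ↔ tw c w i % 4 = 3 := by
    intro c w hw i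
    have := hw i
    unfold tw
    by_cases hi : i ∈ c
    · simp only [hi, if_true, true_iff]
      omega
    · simp only [hi, if_false, false_iff]
      omega
  have hcc : c = c' := by
    ext i
    rw [hc c w hw i, hc c' w' hw' i, h]
  subst hcc
  refine ⟨rfl, ?_⟩
  rw [← tw_tw c w, h, tw_tw]

open Classical in
/-- Twists by code words of a set of vectors that are `1` mod 4. -/
@[irreducible] noncomputable def FOdd (W : Finset (GolayPt → ℤ)) : Finset (GolayPt → ℤ) :=
  (cwF ×ˢ W).image (fun x => tw x.1 x.2)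

theorem mem_FOdd {W : Finset (GolayPt → ℤ)} {v : GolayPt → ℤ} :
    v ∈ FOdd W ↔ ∃ c w, IsCW c ∧ w ∈ W ∧ v = tw c w := by
  classical
  unfold FOdd
  rw [Finset.mem_image]
  constructor
  · rintro ⟨⟨c, w⟩, hx, rfl⟩
    obtain ⟨h1, h2⟩ := Finset.mem_product.mp hx
    exact ⟨c, w, mem_cwF.mp h1, h2, rfl⟩
  · rintro ⟨c, w, hc, hw, rfl⟩
    exact ⟨⟨c, w⟩, Finset.mem_product.mpr ⟨mem_cwF.mpr hc, hw⟩, rfl⟩

theorem card_FOdd (W : Finset (GolayPt → ℤ)) (hW : ∀ w ∈ W, ∀ i, w i % 4 = 1) :
    (FOdd W).card = 4096 * W.card := by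
  classical
  unfold FOdd
  rw [Finset.card_image_of_injOn, Finset.card_product, card_cwF]
  rintro ⟨c, w⟩ hx ⟨c', w'⟩ hx' h
  have h1 := (Finset.mem_product.mp (Finset.mem_coe.mp hx)).2
  have h2 := (Finset.mem_product.mp (Finset.mem_coe.mp hx')).2
  obtain ⟨rfl, rfl⟩ := tw_inj (hW w h1) (hW w' h2) h
  rfl

theorem FOdd_spec {W : Finset (GolayPt → ℤ)} {n : ℤ}
    (hW : ∀ w ∈ W, (∀ i, w i % 4 = 1) ∧ (∑ i, w i) % 8 = 4 ∧ sqNorm w = n)
    {v : GolayPt → ℤ} (hv : v ∈ FOdd W) :
    v ∈ leechLattice ∧ sqNorm v = n ∧ v none % 2 = 1 := by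
  obtain ⟨c, w, hc, hw, rfl⟩ := mem_FOdd.mp hv
  obtain ⟨h1, h2, h3⟩ := hW w hw
  refine ⟨(tw_mem_iff h1).mpr ⟨hc, h2⟩, by rw [sqNorm_tw, h3], ?_⟩
  have := h1 none
  unfold tw
  split_ifs <;> omega

theorem FOdd_disjoint {W W' : Finset (GolayPt → ℤ)} (hW : ∀ w ∈ W, ∀ i, w i % 4 = 1)
    (hW' : ∀ w ∈ W', ∀ i, w i % 4 = 1) (h : Disjoint W W') : Disjoint (FOdd W) (FOdd W') := by
  rw [Finset.disjoint_left]
  intro v hv hv'
  obtain ⟨c, w, hc, hw, rfl⟩ := mem_FOdd.mp hv
  obtain ⟨c', w', hc', hw', h'⟩ := mem_FOdd.mp hv'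
  obtain ⟨-, rfl⟩ := tw_inj (hW w hw) (hW' w' hw') h'
  exact Finset.disjoint_left.mp h hw hw'

theorem w33_inj {J J' : Finset GolayPt} (h : w33 J = w33 J') : J = J' := by
  ext i
  have := congrFun h i
  unfold w33 at this
  by_cases h1 : i ∈ J <;> by_cases h2 : i ∈ J' <;> simp [h1, h2] at this ⊢

open Classical in
/-- The vectors `(-3^k, 1^(24-k))`. -/
@[irreducible] noncomputable def W33 (k : ℕ) : Finset (GolayPt → ℤ) :=
  ((Finset.univ : Finset GolayPt).powersetCard k).image w33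

theorem mem_W33 {k : ℕ} {w : GolayPt → ℤ} : w ∈ W33 k ↔ ∃ J : Finset GolayPt, J.card = k ∧ w = w33 J := by
  classical
  unfold W33
  rw [Finset.mem_image]
  constructor
  · rintro ⟨J, hJ, rfl⟩
    exact ⟨J, (Finset.mem_powersetCard.mp hJ).2, rfl⟩
  · rintro ⟨J, hJ, rfl⟩
    exact ⟨J, Finset.mem_powersetCard.mpr ⟨Finset.subset_univ _, hJ⟩, rfl⟩

theorem card_W33 (k : ℕ) : (W33 k).card = Nat.choose 24 k := by
  classical
  unfold W33
  rw [Finset.card_image_of_injective _ (fun J J' h => w33_inj h), Finset.card_powersetCard,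
    Finset.card_univ, card_golayPt]

open Classical in
/-- The vectors `(5, 1^23)`. -/
@[irreducible] noncomputable def W5 : Finset (GolayPt → ℤ) := Finset.univ.image w5

theorem mem_W5 {w : GolayPt → ℤ} : w ∈ W5 ↔ ∃ j, w = w5 j := by
  classical
  unfold W5
  rw [Finset.mem_image]
  constructor
  · rintro ⟨j, -, rfl⟩
    exact ⟨j, rfl⟩
  · rintro ⟨j, rfl⟩
    exact ⟨j, Finset.mem_univ _, rfl⟩

theorem w5_inj {j j' : GolayPt} (h : w5 j = w5 j') : j = j' := by
  by_contra hne
  have := congrFun h j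
  unfold w5 at this
  rw [if_pos rfl, if_neg hne] at this
  norm_num at this

theorem card_W5 : W5.card = 24 := by
  classical
  unfold W5
  rw [Finset.card_image_of_injective _ (fun j j' h => w5_inj h), Finset.card_univ, card_golayPt]

/-- `5` at `j`, `-3` on `K`, `1` elsewhere. -/
def w53 (j : GolayPt) (K : Finset GolayPt) : GolayPt → ℤ :=
  fun i => if i = j then 5 else if i ∈ K then -3 else 1

theorem w53_mod (j : GolayPt) (K : Finset GolayPt) (i : GolayPt) : w53 j K i % 4 = 1 := by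
  unfold w53
  split_ifs <;> decide

theorem w53_eq {j : GolayPt} {K : Finset GolayPt} (hj : j ∉ K) (i : GolayPt) :
    w53 j K i = 1 + 4 * (if i = j then 1 else 0) - 4 * (if i ∈ K then 1 else 0) := by
  unfold w53
  by_cases h1 : i = j
  · subst h1
    simp [hj]
  · by_cases h2 : i ∈ K <;> simp [h1, h2]

theorem sum_w53 {j : GolayPt} {K : Finset GolayPt} (hj : j ∉ K) :
    ∑ i, w53 j K i = 28 - 4 * (K.card : ℤ) := by
  simp_rw [w53_eq hj]
  rw [Finset.sum_sub_distrib, Finset.sum_add_distrib, ← Finset.mul_sum, ← Finset.mul_sum,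
    sum_indicator, Finset.sum_ite_eq' Finset.univ j, Finset.sum_const, Finset.card_univ,
    card_golayPt]
  simp

theorem sqNorm_w53 {j : GolayPt} {K : Finset GolayPt} (hj : j ∉ K) :
    sqNorm (w53 j K) = 48 + 8 * (K.card : ℤ) := by
  unfold sqNorm
  have : ∀ i, w53 j K i ^ 2 = 1 + 24 * (if i = j then 1 else 0) + 8 * (if i ∈ K then 1 else 0) := by
    intro i
    unfold w53
    by_cases h1 : i = j
    · subst h1
      simp [hj]
    · by_cases h2 : i ∈ K <;> simp [h1, h2]
  simp_rw [this]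
  rw [Finset.sum_add_distrib, Finset.sum_add_distrib, ← Finset.mul_sum, ← Finset.mul_sum,
    sum_indicator, Finset.sum_ite_eq' Finset.univ j, Finset.sum_const, Finset.card_univ,
    card_golayPt]
  simp

/-- Parameters of the family `(5, -3, -3, 1^21)`. -/
@[irreducible] noncomputable def P53 : Finset (Σ _ : GolayPt, Finset GolayPt) :=
  Finset.univ.sigma (fun j => (Finset.univ.erase j).powersetCard 2)

theorem mem_P53 {x : Σ _ : GolayPt, Finset GolayPt} : x ∈ P53 ↔ x.1 ∉ x.2 ∧ x.2.card = 2 := by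
  unfold P53
  rw [Finset.mem_sigma, Finset.mem_powersetCard]
  constructor
  · rintro ⟨-, h1, h2⟩
    exact ⟨fun h => (Finset.mem_erase.mp (h1 h)).1 rfl, h2⟩
  · rintro ⟨h1, h2⟩
    refine ⟨Finset.mem_univ _, fun i hi => ?_, h2⟩
    rw [Finset.mem_erase]
    exact ⟨fun h => h1 (h ▸ hi), Finset.mem_univ _⟩

theorem card_P53 : P53.card = 6072 := by
  unfold P53
  rw [Finset.card_sigma]
  have : ∀ j ∈ (Finset.univ : Finset GolayPt), ((Finset.univ.erase j).powersetCard 2).card = 253 := by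
    intro j _
    rw [Finset.card_powersetCard, Finset.card_erase_of_mem (Finset.mem_univ j), Finset.card_univ,
      card_golayPt]
    decide
  rw [Finset.sum_congr rfl this, Finset.sum_const, Finset.card_univ, card_golayPt]
  rfl

open Classical in
/-- The vectors `(5, -3, -3, 1^21)`. -/
@[irreducible] noncomputable def W53 : Finset (GolayPt → ℤ) := P53.image (fun x => w53 x.1 x.2)

theorem mem_W53 {w : GolayPt → ℤ} :
    w ∈ W53 ↔ ∃ j K, j ∉ K ∧ K.card = 2 ∧ w = w53 j K := by
  classical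
  unfold W53
  rw [Finset.mem_image]
  constructor
  · rintro ⟨⟨j, K⟩, hx, rfl⟩
    obtain ⟨h1, h2⟩ := mem_P53.mp hx
    exact ⟨j, K, h1, h2, rfl⟩
  · rintro ⟨j, K, h1, h2, rfl⟩
    exact ⟨⟨j, K⟩, mem_P53.mpr ⟨h1, h2⟩, rfl⟩

theorem w53_inj {j j' : GolayPt} {K K' : Finset GolayPt} (hj : j ∉ K) (hj' : j' ∉ K')
    (h : w53 j K = w53 j' K') : j = j' ∧ K = K' := by
  have hjj : j = j' := by
    by_contra hne
    have := congrFun h j
    unfold w53 at this
    rw [if_pos rfl, if_neg hne] at this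
    split_ifs at this <;> norm_num at this
  subst hjj
  refine ⟨rfl, ?_⟩
  ext i
  have := congrFun h i
  unfold w53 at this
  by_cases h0 : i = j
  · subst h0
    simp [hj, hj']
  · by_cases h1 : i ∈ K <;> by_cases h2 : i ∈ K' <;> simp [h0, h1, h2] at this ⊢

theorem card_W53 : W53.card = 6072 := by
  classical
  unfold W53
  rw [Finset.card_image_of_injOn, card_P53]
  rintro ⟨j, K⟩ hx ⟨j', K'⟩ hx' h
  obtain ⟨rfl, rfl⟩ := w53_inj (mem_P53.mp hx).1 (mem_P53.mp hx').1 h
  rfl

end Cfsg.Agent.Lib.Helper92.Families
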