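import Mathlib
import Cfsg.Prelude.Def_Sporadic_a
import Cfsg.Agent.Lib.Helper92.Families

/-!
More explicit families of lattice vectors of sum of squares 64 and the assembled lower bounds:
`16773120` vectors of sum of squares 48 and `398034000` of sum of squares 64.
-/

set_option autoImplicit false

namespace Cfsg.Agent.Lib.Helper92.Families2

open Cfsg Cfsg.Agent.Lib.Helper92.LeechCore Cfsg.Agent.Lib.Helper92.MinVec
open Cfsg.Agent.Lib.Helper92.LeechGen Cfsg.Agent.Lib.Helper92.Orbit48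
open Cfsg.Agent.S0394
open Cfsg.Agent.Lib.Helper92.Families

theorem mem_FG {k m : ℕ} {v : GolayPt → ℤ} :
    v ∈ FG k m ↔ ∃ c e p e', (IsCW c ∧ c.card = k) ∧ (e ⊆ c ∧ e.card % 2 = m % 2) ∧
      (p ⊆ cᶜ ∧ p.card = m) ∧ e' ⊆ p ∧ v = gv c e p e' := by
  classical
  unfold FG
  rw [Finset.mem_image]
  constructor
  · rintro ⟨⟨c, e, p, e'⟩, hx, rfl⟩
    obtain ⟨h1, h2, h3, h4⟩ := mem_PG.mp hx
    exact ⟨c, e, p, e', h1, h2, h3, h4, rfl⟩
  · rintro ⟨c, e, p, e', h1, h2, h3, h4, rfl⟩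
    exact ⟨⟨c, e, p, e'⟩, mem_PG.mpr ⟨h1, h2, h3, h4⟩, rfl⟩

/-! ### The family `(6, 2^7)` -/

/-- `±2` on `c` (minus on `e`), with the entry at `q` replaced by `±6`. -/
def v6 (c e : Finset GolayPt) (q : GolayPt) : GolayPt → ℤ :=
  fun i => if i = q then (if q ∈ e then -6 else 6) else shape 2 c e i

theorem v6_eq {c e : Finset GolayPt} {q : GolayPt} (hq : q ∈ c) (i : GolayPt) :
    v6 c e q i = shape 2 c e i + (if i = q then (if q ∈ e then -4 else 4) else 0) := by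
  unfold v6
  by_cases h : i = q
  · subst h
    rw [if_pos rfl, if_pos rfl, shape2_val hq]
    split_ifs <;> norm_num
  · rw [if_neg h, if_neg h, add_zero]

theorem v6_q (c e : Finset GolayPt) (q : GolayPt) :
    v6 c e q q = if q ∈ e then -6 else 6 := by
  unfold v6
  rw [if_pos rfl]

theorem v6_ne (c e : Finset GolayPt) {q i : GolayPt} (h : i ≠ q) :
    v6 c e q i = if i ∈ e then -2 else if i ∈ c then 2 else 0 := by
  unfold v6 shape
  rw [if_neg h]

theorem dec2_v6 {c e : Finset GolayPt} {q : GolayPt} (he : e ⊆ c) (hq : q ∈ c) :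
    dec2 (v6 c e q) = c := by
  ext i
  rw [mem_dec2]
  by_cases h : i = q
  · subst h
    rw [v6_q]
    simp only [hq, iff_true]
    split_ifs <;> decide
  · rw [v6_ne c e h]
    by_cases h1 : i ∈ e
    · have := he h1
      simp only [h1, this, if_true, iff_true]
      decide
    · by_cases h2 : i ∈ c
      · simp only [h1, h2, if_true, if_false, iff_true]
        decide
      · simp only [h1, h2, if_false, iff_false]
        decide

theorem dec0_v6 {c e : Finset GolayPt} {q : GolayPt} (he : e ⊆ c) (hq : q ∈ c) :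
    dec0 (v6 c e q) = ∅ := by
  ext i
  rw [mem_dec0]
  simp only [Finset.notMem_empty, iff_false]
  by_cases h : i = q
  · subst h
    rw [v6_q]
    split_ifs <;> decide
  · rw [v6_ne c e h]
    split_ifs <;> decide

theorem neg_v6 {c e : Finset GolayPt} {q : GolayPt} (he : e ⊆ c) (hq : q ∈ c) :
    (Finset.univ.filter fun i => v6 c e q i < 0) = e := by
  ext i
  rw [Finset.mem_filter]
  simp only [Finset.mem_univ, true_and]
  by_cases h : i = q
  · subst h
    rw [v6_q]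
    by_cases h1 : i ∈ e <;> simp [h1]
  · rw [v6_ne c e h]
    by_cases h1 : i ∈ e
    · simp [h1]
    · by_cases h2 : i ∈ c <;> simp [h1, h2]

theorem six_v6 {c e : Finset GolayPt} {q : GolayPt} (he : e ⊆ c) (hq : q ∈ c) :
    (Finset.univ.filter fun i => v6 c e q i = 6 ∨ v6 c e q i = -6) = {q} := by
  ext i
  rw [Finset.mem_filter, Finset.mem_singleton]
  simp only [Finset.mem_univ, true_and]
  by_cases h : i = q
  · subst h
    rw [v6_q]
    by_cases h1 : i ∈ e <;> simp [h1]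
  · rw [v6_ne c e h]
    simp only [h, iff_false]
    split_ifs <;> decide

theorem v6_inj {c e c₁ e₁ : Finset GolayPt} {q q₁ : GolayPt} (he : e ⊆ c) (hq : q ∈ c)
    (he₁ : e₁ ⊆ c₁) (hq₁ : q₁ ∈ c₁) (h : v6 c e q = v6 c₁ e₁ q₁) :
    c = c₁ ∧ e = e₁ ∧ q = q₁ := by
  refine ⟨?_, ?_, ?_⟩
  · rw [← dec2_v6 he hq, h, dec2_v6 he₁ hq₁]
  · rw [← neg_v6 he hq, h, neg_v6 he₁ hq₁]
  · have := six_v6 he hq
    rw [h, six_v6 he₁ hq₁] at this
    exact (Finset.singleton_injective this).symm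

theorem sum_v6 {c e : Finset GolayPt} {q : GolayPt} (he : e ⊆ c) (hq : q ∈ c) :
    ∑ i, v6 c e q i = 2 * ((c.card : ℤ) - 2 * e.card) + (if q ∈ e then -4 else 4) := by
  simp_rw [v6_eq hq]
  rw [Finset.sum_add_distrib, sum_shape 2 he, Finset.sum_ite_eq' Finset.univ q, if_pos (Finset.mem_univ _)]

theorem sqNorm_v6 {c e : Finset GolayPt} {q : GolayPt} (he : e ⊆ c) (hq : q ∈ c) :
    sqNorm (v6 c e q) = 4 * (c.card : ℤ) + 32 := by
  unfold sqNorm
  have h : ∀ i, v6 c e q i ^ 2 = 4 * (if i ∈ c then 1 else 0) + (if i = q then 32 else 0) := by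
    intro i
    by_cases h : i = q
    · subst h
      rw [v6_q]
      simp only [hq, if_true]
      split_ifs <;> norm_num
    · rw [v6_ne c e h]
      by_cases h1 : i ∈ e
      · have := he h1
        simp [h, h1, this]
      · by_cases h2 : i ∈ c <;> simp [h, h1, h2]
  simp_rw [h]
  rw [Finset.sum_add_distrib, ← Finset.mul_sum, sum_indicator, Finset.sum_ite_eq' Finset.univ q,
    if_pos (Finset.mem_univ _)]

theorem v6_even {c e : Finset GolayPt} {q : GolayPt} (i : GolayPt) : v6 c e q i % 2 = 0 := by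
  by_cases h : i = q
  · subst h
    rw [v6_q]
    split_ifs <;> decide
  · rw [v6_ne c e h]
    split_ifs <;> decide

theorem v6_mem {c e : Finset GolayPt} {q : GolayPt} (hc : IsCW c) (h8 : c.card = 8) (he : e ⊆ c)
    (hq : q ∈ c) (hpar : e.card % 2 = 1) : v6 c e q ∈ leechLattice := by
  rw [mem_iff_even v6_even]
  constructor
  · have := dec2_v6 he hq
    unfold dec2 at this
    rw [this]
    exact hc
  · rw [sum_v6 he hq, h8]
    push_cast
    split_ifs <;> omega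

/-- Parameters of the family `(6, 2^7)`. -/
@[irreducible] noncomputable def P6 : Finset (Σ _ : Finset GolayPt, (Finset GolayPt × GolayPt)) :=
  (cwFk 8).sigma (fun c => (c.powerset.filter (fun e => e.card % 2 = 1)) ×ˢ c)

theorem mem_P6 {x : Σ _ : Finset GolayPt, (Finset GolayPt × GolayPt)} :
    x ∈ P6 ↔ (IsCW x.1 ∧ x.1.card = 8) ∧ (x.2.1 ⊆ x.1 ∧ x.2.1.card % 2 = 1) ∧ x.2.2 ∈ x.1 := by
  unfold P6
  rw [Finset.mem_sigma, Finset.mem_product, Finset.mem_filter, Finset.mem_powerset, mem_cwFk]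

theorem card_P6 : P6.card = 777216 := by
  unfold P6
  rw [Finset.card_sigma]
  have : ∀ c ∈ cwFk 8, ((c.powerset.filter (fun e => e.card % 2 = 1)) ×ˢ c).card = 1024 := by
    intro c hc
    obtain ⟨-, hck⟩ := mem_cwFk.mp hc
    have hne : c.Nonempty := by
      rw [← Finset.card_pos, hck]
      norm_num
    obtain ⟨-, h1⟩ := card_par_subsets c hne
    rw [hck] at h1
    rw [Finset.card_product, hck]
    omega
  rw [Finset.sum_congr rfl this, Finset.sum_const, card_cwF8]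
  rfl

open Classical in
/-- The family `(6, 2^7)`. -/
@[irreducible] noncomputable def F6 : Finset (GolayPt → ℤ) :=
  P6.image (fun x => v6 x.1 x.2.1 x.2.2)

theorem mem_F6 {v : GolayPt → ℤ} :
    v ∈ F6 ↔ ∃ c e q, (IsCW c ∧ c.card = 8) ∧ (e ⊆ c ∧ e.card % 2 = 1) ∧ q ∈ c ∧ v = v6 c e q := by
  classical
  unfold F6
  rw [Finset.mem_image]
  constructor
  · rintro ⟨⟨c, e, q⟩, hx, rfl⟩
    obtain ⟨h1, h2, h3⟩ := mem_P6.mp hx
    exact ⟨c, e, q, h1, h2, h3, rfl⟩
  · rintro ⟨c, e, q, h1, h2, h3, rfl⟩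
    exact ⟨⟨c, e, q⟩, mem_P6.mpr ⟨h1, h2, h3⟩, rfl⟩

theorem card_F6 : F6.card = 777216 := by
  classical
  unfold F6
  rw [Finset.card_image_of_injOn, card_P6]
  rintro ⟨c, e, q⟩ hx ⟨c₁, e₁, q₁⟩ hx₁ h
  obtain ⟨-, ⟨he, -⟩, hq⟩ := mem_P6.mp hx
  obtain ⟨-, ⟨he₁, -⟩, hq₁⟩ := mem_P6.mp hx₁
  obtain ⟨rfl, rfl, rfl⟩ := v6_inj he hq he₁ hq₁ h
  rfl

theorem F6_spec {v : GolayPt → ℤ} (hv : v ∈ F6) :
    v ∈ leechLattice ∧ sqNorm v = 64 ∧ v none % 2 = 0 ∧
      (dec2 v).card = 8 ∧ (dec0 v).card = 0 := by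
  obtain ⟨c, e, q, ⟨hc, h8⟩, ⟨he, hpar⟩, hq, rfl⟩ := mem_F6.mp hv
  refine ⟨v6_mem hc h8 he hq hpar, ?_, v6_even none, ?_, ?_⟩
  · rw [sqNorm_v6 he hq, h8]
    norm_num
  · rw [dec2_v6 he hq, h8]
  · rw [dec0_v6 he hq, Finset.card_empty]

/-! ### The family `(8, 0^23)` -/

/-- `±8` at `q`. -/
def v8 (x : GolayPt × Bool) : GolayPt → ℤ := Pi.single x.1 (if x.2 then 8 else -8)

theorem v8_q (x : GolayPt × Bool) : v8 x x.1 = if x.2 then 8 else -8 := by
  unfold v8
  rw [Pi.single_eq_same]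

theorem v8_ne (x : GolayPt × Bool) {i : GolayPt} (h : i ≠ x.1) : v8 x i = 0 := by
  unfold v8
  rw [Pi.single_eq_of_ne h]

theorem v8_inj : Function.Injective v8 := by
  rintro ⟨q, b⟩ ⟨q', b'⟩ h
  have hq : q = q' := by
    by_contra hne
    have := congrFun h q
    rw [v8_q, v8_ne _ hne] at this
    simp only at this
    split_ifs at this <;> norm_num at this
  subst hq
  have := congrFun h q
  rw [v8_q, v8_q] at this
  simp only at this
  cases b <;> cases b' <;> simp at this ⊢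

open Classical in
/-- The family `(8, 0^23)`. -/
@[irreducible] noncomputable def F8 : Finset (GolayPt → ℤ) := Finset.univ.image v8

theorem mem_F8 {v : GolayPt → ℤ} : v ∈ F8 ↔ ∃ x, v = v8 x := by
  classical
  unfold F8
  rw [Finset.mem_image]
  constructor
  · rintro ⟨x, -, rfl⟩
    exact ⟨x, rfl⟩
  · rintro ⟨x, rfl⟩
    exact ⟨x, Finset.mem_univ _, rfl⟩

theorem card_F8 : F8.card = 48 := by
  classical
  unfold F8
  rw [Finset.card_image_of_injective _ v8_inj, Finset.card_univ, Fintype.card_prod,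
    Fintype.card_bool]
  rw [card_golayPt]

theorem F8_spec {v : GolayPt → ℤ} (hv : v ∈ F8) :
    v ∈ leechLattice ∧ sqNorm v = 64 ∧ v none % 2 = 0 ∧
      (dec2 v).card = 0 ∧ (dec0 v).card = 1 := by
  obtain ⟨⟨q, b⟩, rfl⟩ := mem_F8.mp hv
  have hev : ∀ i, v8 (q, b) i % 2 = 0 := by
    intro i
    by_cases h : i = q
    · subst h
      rw [v8_q]
      simp only
      split_ifs <;> decide
    · rw [v8_ne _ h]
      decide
  have hd2 : dec2 (v8 (q, b)) = ∅ := by
    ext i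
    rw [mem_dec2]
    simp only [Finset.notMem_empty, iff_false]
    by_cases h : i = q
    · subst h
      rw [v8_q]
      simp only
      split_ifs <;> decide
    · rw [v8_ne _ h]
      decide
  have hd0 : dec0 (v8 (q, b)) = {q} := by
    ext i
    rw [mem_dec0, Finset.mem_singleton]
    by_cases h : i = q
    · subst h
      rw [v8_q]
      simp only [iff_true]
      split_ifs <;> decide
    · rw [v8_ne _ h]
      simp [h]
  have hsum : ∑ i, v8 (q, b) i = if b then 8 else -8 := by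
    unfold v8
    rw [Finset.sum_pi_single']
    simp
  refine ⟨?_, ?_, hev none, ?_, ?_⟩
  · rw [mem_iff_even hev]
    constructor
    · have := hd2
      unfold dec2 at this
      rw [this]
      exact empty_mem
    · rw [hsum]
      split_ifs <;> decide
  · unfold sqNorm
    have : ∀ i, v8 (q, b) i ^ 2 = if i = q then 64 else 0 := by
      intro i
      by_cases h : i = q
      · subst h
        rw [v8_q, if_pos rfl]
        simp only
        split_ifs <;> norm_num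
      · rw [v8_ne _ h, if_neg h]
        norm_num
    simp_rw [this]
    rw [Finset.sum_ite_eq' Finset.univ q, if_pos (Finset.mem_univ _)]
  · rw [hd2, Finset.card_empty]
  · rw [hd0, Finset.card_singleton]

/-! ### Odd families -/

theorem W33_spec {k : ℕ} (hk : k % 2 = 1) {w : GolayPt → ℤ} (hw : w ∈ W33 k) :
    (∀ i, w i % 4 = 1) ∧ (∑ i, w i) % 8 = 4 ∧ sqNorm w = 24 + 8 * (k : ℤ) := by
  obtain ⟨J, hJ, rfl⟩ := mem_W33.mp hw
  refine ⟨w33_mod J, ?_, ?_⟩
  · rw [sum_w33, hJ]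
    omega
  · rw [sqNorm_w33, hJ]

theorem W5_spec {w : GolayPt → ℤ} (hw : w ∈ W5) :
    (∀ i, w i % 4 = 1) ∧ (∑ i, w i) % 8 = 4 ∧ sqNorm w = 48 := by
  obtain ⟨j, rfl⟩ := mem_W5.mp hw
  refine ⟨w5_mod j, ?_, sqNorm_w5 j⟩
  rw [sum_w5]
  decide

theorem W53_spec {w : GolayPt → ℤ} (hw : w ∈ W53) :
    (∀ i, w i % 4 = 1) ∧ (∑ i, w i) % 8 = 4 ∧ sqNorm w = 64 := by
  obtain ⟨j, K, hj, hK, rfl⟩ := mem_W53.mp hw
  refine ⟨w53_mod j K, ?_, ?_⟩
  · rw [sum_w53 hj, hK]
    decide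
  · rw [sqNorm_w53 hj, hK]
    norm_num

theorem disj_W33_W5 : Disjoint (W33 3) W5 := by
  rw [Finset.disjoint_left]
  intro w hw hw'
  obtain ⟨J, hJ, rfl⟩ := mem_W33.mp hw
  obtain ⟨j, h⟩ := mem_W5.mp hw'
  have h1 := sum_w33 J
  rw [h, sum_w5, hJ] at h1
  norm_num at h1

theorem disj_W33_W53 : Disjoint (W33 5) W53 := by
  rw [Finset.disjoint_left]
  intro w hw hw'
  obtain ⟨J, hJ, rfl⟩ := mem_W33.mp hw
  obtain ⟨j, K, hj, hK, h⟩ := mem_W53.mp hw'
  have h1 := sum_w33 J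
  rw [h, sum_w53 hj, hJ, hK] at h1
  norm_num at h1

theorem card_FOdd_W33_3 : (FOdd (W33 3)).card = 8290304 := by
  rw [card_FOdd _ (fun w hw => (W33_spec (by norm_num) hw).1), card_W33]
  decide

theorem card_FOdd_W5 : (FOdd W5).card = 98304 := by
  rw [card_FOdd _ (fun w hw => (W5_spec hw).1), card_W5]

theorem card_FOdd_W33_5 : (FOdd (W33 5)).card = 174096384 := by
  rw [card_FOdd _ (fun w hw => (W33_spec (by norm_num) hw).1), card_W33]
  decide

theorem card_FOdd_W53 : (FOdd W53).card = 24870912 := by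
  rw [card_FOdd _ (fun w hw => (W53_spec hw).1), card_W53]

/-! ### Even families -/

theorem card_FG_12_0 : (FG 12 0).card = 5275648 := by
  have h := card_PG_pos 12 0 (by norm_num) (by norm_num)
  rw [card_cwF12] at h
  have h2 : 2576 * (2 ^ 12 * (Nat.choose (24 - 12) 0 * 2 ^ 0)) = 10551296 := by decide
  rw [card_FG]
  omega

theorem card_FG_8_1 : (FG 8 1).card = 3108864 := by
  have h := card_PG_pos 8 1 (by norm_num) (by norm_num)
  rw [card_cwF8] at h
  have h2 : 759 * (2 ^ 8 * (Nat.choose (24 - 8) 1 * 2 ^ 1)) = 6217728 := by decide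
  rw [card_FG]
  omega

theorem card_FG_16_0 : (FG 16 0).card = 24870912 := by
  have h := card_PG_pos 16 0 (by norm_num) (by norm_num)
  rw [card_cwF16] at h
  have h2 : 759 * (2 ^ 16 * (Nat.choose (24 - 16) 0 * 2 ^ 0)) = 49741824 := by decide
  rw [card_FG]
  omega

theorem card_FG_12_1 : (FG 12 1).card = 126615552 := by
  have h := card_PG_pos 12 1 (by norm_num) (by norm_num)
  rw [card_cwF12] at h
  have h2 : 2576 * (2 ^ 12 * (Nat.choose (24 - 12) 1 * 2 ^ 1)) = 253231104 := by decide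
  rw [card_FG]
  omega

theorem card_FG_8_2 : (FG 8 2).card = 46632960 := by
  have h := card_PG_pos 8 2 (by norm_num) (by norm_num)
  rw [card_cwF8] at h
  have h2 : 759 * (2 ^ 8 * (Nat.choose (24 - 8) 2 * 2 ^ 2)) = 93265920 := by decide
  rw [card_FG]
  omega

theorem card_FG_0_4 : (FG 0 4).card = 170016 := by
  rw [card_FG, card_PG_zero 4 (by norm_num)]
  decide

/-- Invariant separating the even families. -/
def tagE (v : GolayPt → ℤ) : ℕ × ℕ := ((dec2 v).card, (dec0 v).card)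

/-- A family of even lattice vectors of given sum of squares and tag. -/
def IsFam (A : Finset (GolayPt → ℤ)) (n : ℤ) (t : ℕ × ℕ) : Prop :=
  ∀ v ∈ A, v ∈ leechLattice ∧ sqNorm v = n ∧ v none % 2 = 0 ∧ tagE v = t

theorem FG_fam (k m : ℕ) : IsFam (FG k m) (4 * (k : ℤ) + 16 * m) (k, m) := by
  intro v hv
  obtain ⟨h1, h2, h3, h4, h5⟩ := FG_spec hv
  refine ⟨h1, h2, h3, ?_⟩
  unfold tagE
  rw [h4, h5]

theorem F6_fam : IsFam F6 64 (8, 0) := by
  intro v hv
  obtain ⟨h1, h2, h3, h4, h5⟩ := F6_spec hv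
  refine ⟨h1, h2, h3, ?_⟩
  unfold tagE
  rw [h4, h5]

theorem F8_fam : IsFam F8 64 (0, 1) := by
  intro v hv
  obtain ⟨h1, h2, h3, h4, h5⟩ := F8_spec hv
  refine ⟨h1, h2, h3, ?_⟩
  unfold tagE
  rw [h4, h5]

theorem disj_fam {A B : Finset (GolayPt → ℤ)} {n n' : ℤ} {t t' : ℕ × ℕ} (hA : IsFam A n t)
    (hB : IsFam B n' t') (h : t ≠ t') : Disjoint A B := by
  rw [Finset.disjoint_left]
  intro v hv hv'
  exact h ((hA v hv).2.2.2.symm.trans (hB v hv').2.2.2)

theorem disj_odd_even {W A : Finset (GolayPt → ℤ)} {n n' : ℤ} {t : ℕ × ℕ}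
    (hW : ∀ w ∈ W, (∀ i, w i % 4 = 1) ∧ (∑ i, w i) % 8 = 4 ∧ sqNorm w = n)
    (hA : IsFam A n' t) : Disjoint (FOdd W) A := by
  rw [Finset.disjoint_left]
  intro v hv hv'
  have h1 := (FOdd_spec hW hv).2.2
  have h2 := (hA v hv').2.2.1
  omega

/-! ### Lower bounds -/

/-- The known vectors of sum of squares 48. -/
@[irreducible] noncomputable def L48 : Finset (GolayPt → ℤ) :=
  FOdd (W33 3) ∪ FOdd W5 ∪ FG 12 0 ∪ FG 8 1

theorem L48_spec {v : GolayPt → ℤ} (hv : v ∈ L48) : v ∈ leechLattice ∧ sqNorm v = 48 := by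
  unfold L48 at hv
  simp only [Finset.mem_union] at hv
  rcases hv with ((hv | hv) | hv) | hv
  · have := FOdd_spec (n := 48) (fun w hw => by
      have := W33_spec (k := 3) (by norm_num) hw
      norm_num at this
      exact this) hv
    exact ⟨this.1, this.2.1⟩
  · have := FOdd_spec (n := 48) (fun w hw => W5_spec hw) hv
    exact ⟨this.1, this.2.1⟩
  · have := FG_fam 12 0 v hv
    refine ⟨this.1, ?_⟩
    rw [this.2.1]
    norm_num
  · have := FG_fam 8 1 v hv
    refine ⟨this.1, ?_⟩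
    rw [this.2.1]
    norm_num

theorem card_L48 : L48.card = 16773120 := by
  unfold L48
  have hW3 : ∀ w ∈ W33 3, (∀ i, w i % 4 = 1) ∧ (∑ i, w i) % 8 = 4 ∧ sqNorm w = 48 := by
    intro w hw
    have := W33_spec (k := 3) (by norm_num) hw
    norm_num at this
    exact this
  have hW5 : ∀ w ∈ W5, (∀ i, w i % 4 = 1) ∧ (∑ i, w i) % 8 = 4 ∧ sqNorm w = 48 :=
    fun w hw => W5_spec hw
  have d1 : Disjoint (FOdd (W33 3)) (FOdd W5) :=
    FOdd_disjoint (fun w hw => (hW3 w hw).1) (fun w hw => (hW5 w hw).1) disj_W33_W5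
  have d2 : Disjoint (FOdd (W33 3) ∪ FOdd W5) (FG 12 0) :=
    Finset.disjoint_union_left.mpr ⟨disj_odd_even hW3 (FG_fam 12 0), disj_odd_even hW5 (FG_fam 12 0)⟩
  have d3 : Disjoint (FOdd (W33 3) ∪ FOdd W5 ∪ FG 12 0) (FG 8 1) :=
    Finset.disjoint_union_left.mpr ⟨Finset.disjoint_union_left.mpr
      ⟨disj_odd_even hW3 (FG_fam 8 1), disj_odd_even hW5 (FG_fam 8 1)⟩,
      disj_fam (FG_fam 12 0) (FG_fam 8 1) (by decide)⟩
  rw [Finset.card_union_of_disjoint d3, Finset.card_union_of_disjoint d2,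
    Finset.card_union_of_disjoint d1, card_FOdd_W33_3, card_FOdd_W5, card_FG_12_0, card_FG_8_1]

/-- The known vectors of sum of squares 64. -/
@[irreducible] noncomputable def L64 : Finset (GolayPt → ℤ) :=
  FOdd (W33 5) ∪ FOdd W53 ∪ FG 16 0 ∪ FG 12 1 ∪ FG 8 2 ∪ F6 ∪ FG 0 4 ∪ F8

theorem W33_5_spec : ∀ w ∈ W33 5, (∀ i, w i % 4 = 1) ∧ (∑ i, w i) % 8 = 4 ∧ sqNorm w = 64 := by
  intro w hw
  have := W33_spec (k := 5) (by norm_num) hw
  norm_num at this
  exact this

theorem L64_spec {v : GolayPt → ℤ} (hv : v ∈ L64) : v ∈ leechLattice ∧ sqNorm v = 64 := by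
  unfold L64 at hv
  simp only [Finset.mem_union] at hv
  rcases hv with ((((((hv | hv) | hv) | hv) | hv) | hv) | hv) | hv
  · have := FOdd_spec W33_5_spec hv
    exact ⟨this.1, this.2.1⟩
  · have := FOdd_spec (n := 64) (fun w hw => W53_spec hw) hv
    exact ⟨this.1, this.2.1⟩
  · have := FG_fam 16 0 v hv
    refine ⟨this.1, ?_⟩
    rw [this.2.1]
    norm_num
  · have := FG_fam 12 1 v hv
    refine ⟨this.1, ?_⟩
    rw [this.2.1]
    norm_num
  · have := FG_fam 8 2 v hv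
    refine ⟨this.1, ?_⟩
    rw [this.2.1]
    norm_num
  · have := F6_fam v hv
    exact ⟨this.1, this.2.1⟩
  · have := FG_fam 0 4 v hv
    refine ⟨this.1, ?_⟩
    rw [this.2.1]
    norm_num
  · have := F8_fam v hv
    exact ⟨this.1, this.2.1⟩

theorem card_L64 : L64.card = 398034000 := by
  unfold L64
  have hW5 := W33_5_spec
  have hW53 : ∀ w ∈ W53, (∀ i, w i % 4 = 1) ∧ (∑ i, w i) % 8 = 4 ∧ sqNorm w = 64 :=
    fun w hw => W53_spec hw
  have o : ∀ {A : Finset (GolayPt → ℤ)} {n : ℤ} {t : ℕ × ℕ}, IsFam A n t →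
      Disjoint (FOdd (W33 5) ∪ FOdd W53) A := fun hA =>
    Finset.disjoint_union_left.mpr ⟨disj_odd_even hW5 hA, disj_odd_even hW53 hA⟩
  have d1 : Disjoint (FOdd (W33 5)) (FOdd W53) :=
    FOdd_disjoint (fun w hw => (hW5 w hw).1) (fun w hw => (hW53 w hw).1) disj_W33_W53
  have f1 := FG_fam 16 0
  have f2 := FG_fam 12 1
  have f3 := FG_fam 8 2
  have f4 := F6_fam
  have f5 := FG_fam 0 4
  have f6 := F8_fam
  have d2 : Disjoint (FOdd (W33 5) ∪ FOdd W53) (FG 16 0) := o f1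
  have d3 : Disjoint (FOdd (W33 5) ∪ FOdd W53 ∪ FG 16 0) (FG 12 1) :=
    Finset.disjoint_union_left.mpr ⟨o f2, disj_fam f1 f2 (by decide)⟩
  have d4 : Disjoint (FOdd (W33 5) ∪ FOdd W53 ∪ FG 16 0 ∪ FG 12 1) (FG 8 2) :=
    Finset.disjoint_union_left.mpr ⟨Finset.disjoint_union_left.mpr
      ⟨o f3, disj_fam f1 f3 (by decide)⟩, disj_fam f2 f3 (by decide)⟩
  have d5 : Disjoint (FOdd (W33 5) ∪ FOdd W53 ∪ FG 16 0 ∪ FG 12 1 ∪ FG 8 2) F6 :=
    Finset.disjoint_union_left.mpr ⟨Finset.disjoint_union_left.mpr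
      ⟨Finset.disjoint_union_left.mpr ⟨o f4, disj_fam f1 f4 (by decide)⟩,
        disj_fam f2 f4 (by decide)⟩, disj_fam f3 f4 (by decide)⟩
  have d6 : Disjoint (FOdd (W33 5) ∪ FOdd W53 ∪ FG 16 0 ∪ FG 12 1 ∪ FG 8 2 ∪ F6) (FG 0 4) :=
    Finset.disjoint_union_left.mpr ⟨Finset.disjoint_union_left.mpr
      ⟨Finset.disjoint_union_left.mpr ⟨Finset.disjoint_union_left.mpr
        ⟨o f5, disj_fam f1 f5 (by decide)⟩,
        disj_fam f2 f5 (by decide)⟩, disj_fam f3 f5 (by decide)⟩, disj_fam f4 f5 (by decide)⟩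
  have d7 : Disjoint (FOdd (W33 5) ∪ FOdd W53 ∪ FG 16 0 ∪ FG 12 1 ∪ FG 8 2 ∪ F6 ∪ FG 0 4) F8 :=
    Finset.disjoint_union_left.mpr ⟨Finset.disjoint_union_left.mpr
      ⟨Finset.disjoint_union_left.mpr ⟨Finset.disjoint_union_left.mpr
        ⟨Finset.disjoint_union_left.mpr ⟨o f6, disj_fam f1 f6 (by decide)⟩,
        disj_fam f2 f6 (by decide)⟩, disj_fam f3 f6 (by decide)⟩, disj_fam f4 f6 (by decide)⟩,
        disj_fam f5 f6 (by decide)⟩
  rw [Finset.card_union_of_disjoint d7, Finset.card_union_of_disjoint d6,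
    Finset.card_union_of_disjoint d5, Finset.card_union_of_disjoint d4,
    Finset.card_union_of_disjoint d3, Finset.card_union_of_disjoint d2,
    Finset.card_union_of_disjoint d1, card_FOdd_W33_5, card_FOdd_W53, card_FG_16_0,
    card_FG_12_1, card_FG_8_2, card_F6, card_FG_0_4, card_F8]

end Cfsg.Agent.Lib.Helper92.Families2
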