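import Mathlib
import Cfsg.Prelude.Def_Sporadic_a
import Cfsg.Prelude.Def_SporadicCombinatorics
import Cfsg.Agent.S0394
import Cfsg.Agent.Lib.Helper92.Conway
import Cfsg.Agent.Lib.Helper92.Families2

/-!
The numbers of lattice vectors of sum of squares 48 and 64, and the consequences of the equality
case of Conway's count: every class modulo `2Λ` contains a short vector, and the classes of the
vectors of sum of squares 64 have exactly 48 such vectors.
-/

set_option autoImplicit false

namespace Cfsg.Agent.Lib.Helper92.Shells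

open Cfsg Cfsg.Agent.Lib.Helper92.LeechCore Cfsg.Agent.Lib.Helper92.Conway
open Cfsg.Agent.Lib.Helper92.Families2

theorem finite_shell (n : ℤ) : {x : GolayPt → ℤ | x ∈ leechLattice ∧ sqNorm x = n}.Finite := by
  apply Set.Finite.subset (Set.finite_Icc (fun _ => -n : GolayPt → ℤ) (fun _ => n))
  rintro x ⟨-, hx⟩
  have h : ∀ i, x i ^ 2 ≤ n := by
    intro i
    rw [← hx]
    unfold sqNorm
    exact Finset.single_le_sum (f := fun i => x i ^ 2) (fun j _ => sq_nonneg (x j))
      (Finset.mem_univ i)
  rw [Set.mem_Icc]
  constructor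
  · intro i
    have := h i
    show -n ≤ x i
    nlinarith
  · intro i
    have := h i
    show x i ≤ n
    nlinarith

/-- The lattice vectors of sum of squares `n`. -/
noncomputable def shell (n : ℤ) : Finset (GolayPt → ℤ) := (finite_shell n).toFinset

theorem mem_shell {n : ℤ} {x : GolayPt → ℤ} : x ∈ shell n ↔ x ∈ leechLattice ∧ sqNorm x = n := by
  unfold shell
  rw [Set.Finite.mem_toFinset]
  rfl

theorem ncard_eq (n : ℤ) :
    {x : GolayPt → ℤ | x ∈ leechLattice ∧ sqNorm x = n}.ncard = (shell n).card := by
  unfold shell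
  rw [Set.ncard_eq_toFinset_card _ (finite_shell n)]

theorem card_shell32 : (shell 32).card = 196560 := by
  rw [← ncard_eq]
  exact Cfsg.Agent.S0394.result

theorem shell_spec (n : ℤ) : ∀ y ∈ shell n, y ∈ leechLattice ∧ sqNorm y = n :=
  fun _ hy => mem_shell.mp hy

theorem L48_sub : L48 ⊆ shell 48 := fun _ hv => mem_shell.mpr (L48_spec hv)

theorem L64_sub : L64 ⊆ shell 64 := fun _ hv => mem_shell.mpr (L64_spec hv)

theorem card_shells : (shell 48).card = 16773120 ∧ (shell 64).card = 398034000 := by
  have h := total_le (shell 32) (shell 48) (shell 64) (shell_spec 32) (shell_spec 48)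
    (shell_spec 64)
  rw [card_shell32] at h
  have h1 := Finset.card_le_card L48_sub
  have h2 := Finset.card_le_card L64_sub
  rw [card_L48] at h1
  rw [card_L64] at h2
  constructor <;> omega

theorem card_shell48 : (shell 48).card = 16773120 := card_shells.1

theorem card_shell64 : (shell 64).card = 398034000 := card_shells.2

theorem shell48_eq : shell 48 = L48 :=
  (Finset.eq_of_subset_of_card_le L48_sub (by rw [card_shell48, card_L48])).symm

theorem shell64_eq : shell 64 = L64 :=
  (Finset.eq_of_subset_of_card_le L64_sub (by rw [card_shell64, card_L64])).symm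

section
open Classical

/-- Every class contributes exactly 48. -/
theorem class_total (c : Q) :
    48 * (if c = 0 then 1 else 0) + 24 * ((shell 32).filter (fun x => cls x = c)).card
      + 24 * ((shell 48).filter (fun x => cls x = c)).card
      + ((shell 64).filter (fun x => cls x = c)).card = 48 :=
  class_eq (shell 32) (shell 48) (shell 64) (shell_spec 32) (shell_spec 48) (shell_spec 64)
    (by rw [card_shell32, card_shell48, card_shell64]) c

/-- Every class modulo `2Λ` contains a vector of sum of squares at most 64. -/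
theorem exists_short {x : GolayPt → ℤ} (hx : x ∈ leechLattice) :
    ∃ y ∈ leechLattice, sqNorm y ≤ 64 ∧ ∃ z ∈ leechLattice, x - y = 2 • z := by
  by_cases hc : cls x = 0
  · refine ⟨0, zero_mem _, ?_, ?_⟩
    · rw [sqNorm_zero']
      norm_num
    · rw [← cls_zero] at hc
      exact (cls_eq_iff hx (zero_mem _)).mp hc
  · have h := class_total (cls x)
    rw [if_neg hc] at h
    have key : ∀ (n : ℤ), n ≤ 64 → ((shell n).filter (fun y => cls y = cls x)).Nonempty →
        ∃ y ∈ leechLattice, sqNorm y ≤ 64 ∧ ∃ z ∈ leechLattice, x - y = 2 • z := by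
      rintro n hn ⟨y, hy⟩
      rw [Finset.mem_filter, mem_shell] at hy
      obtain ⟨⟨hyL, hyn⟩, hyc⟩ := hy
      exact ⟨y, hyL, by rw [hyn]; exact hn, (cls_eq_iff hx hyL).mp hyc.symm⟩
    by_cases h32 : ((shell 32).filter (fun y => cls y = cls x)).Nonempty
    · exact key 32 (by norm_num) h32
    by_cases h48 : ((shell 48).filter (fun y => cls y = cls x)).Nonempty
    · exact key 48 (by norm_num) h48
    by_cases h64 : ((shell 64).filter (fun y => cls y = cls x)).Nonempty
    · exact key 64 (by norm_num) h64
    rw [Finset.not_nonempty_iff_eq_empty] at h32 h48 h64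
    rw [h32, h48, h64, Finset.card_empty] at h
    omega

/-- The vectors of sum of squares 64 in the class of such a vector: there are 48. -/
theorem cross_card {x : GolayPt → ℤ} (hx : x ∈ leechLattice) (hxn : sqNorm x = 64) :
    (cross x).ncard = 48 := by
  have hc : cls x ≠ 0 := cls_ne_zero hx (by rw [hxn]) (by rw [hxn]; norm_num)
  have h := class_total (cls x)
  rw [if_neg hc] at h
  have e : ∀ n : ℤ, n ≤ 64 → n ≠ 64 → (shell n).filter (fun y => cls y = cls x) = ∅ := by
    intro n hn hn'
    rw [Finset.eq_empty_iff_forall_notMem]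
    intro u hu
    rw [Finset.mem_filter, mem_shell] at hu
    obtain ⟨⟨huL, hun⟩, huc⟩ := hu
    rcases pair_cases huL hx (by rw [hun]; exact hn) (by rw [hxn]) huc with h | h | h
    · rw [h, hun] at hxn
      exact hn' hxn
    · rw [h, sqNorm_neg, hun] at hxn
      exact hn' hxn
    · rw [hun] at h
      exact hn' h.1
  rw [e 32 (by norm_num) (by norm_num), e 48 (by norm_num) (by norm_num), Finset.card_empty] at h
  have hset : cross x = ↑((shell 64).filter (fun y => cls y = cls x)) := by
    ext y
    unfold cross
    rw [Finset.mem_coe, Finset.mem_filter, mem_shell, Set.mem_setOf_eq, hxn]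
    constructor
    · rintro ⟨h1, h2, h3⟩
      exact ⟨⟨h1, h2⟩, ((cls_eq_iff hx h1).mpr h3).symm⟩
    · rintro ⟨⟨h1, h2⟩, h3⟩
      exact ⟨h1, h2, (cls_eq_iff hx h1).mp h3.symm⟩
  rw [hset, Set.ncard_coe_finset]
  omega

end

end Cfsg.Agent.Lib.Helper92.Shells
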