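import Mathlib
import Cfsg.Prelude.Def_Sporadic_a
import Cfsg.Agent.Lib.Helper92.Shells

/-!
The automorphism group of the rank-24 lattice is transitive on the classes modulo `2Λ` of the
vectors of sum of squares 64.
-/

set_option autoImplicit false

namespace Cfsg.Agent.Lib.Helper92.Cross

open Cfsg Cfsg.Agent.Lib.Helper92.LeechCore Cfsg.Agent.Lib.Helper92.MinVec
open Cfsg.Agent.Lib.Helper92.LeechGen Cfsg.Agent.Lib.Helper92.Orbit48
open Cfsg.Agent.Lib.Helper92.Co0Orbit Cfsg.Agent.Lib.Helper92.Xi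
open Cfsg.Agent.Lib.Helper92.Families Cfsg.Agent.Lib.Helper92.Families2
open Cfsg.Agent.Lib.Helper92.Shells
open Cfsg.Agent.Lib.Helper7.GolayBase Cfsg.Agent.Lib.Helper7.M24Main
open Cfsg.Agent.Lib.Helper7.M24Octad
open Cfsg.Agent.S5546

/-! ### Orbits modulo `2Λ` -/

/-- In the same orbit modulo `2Λ`. -/
def Rc (x y : GolayPt → ℤ) : Prop := ∃ y', Rv x y' ∧ ∃ z ∈ leechLattice, y' - y = 2 • z

theorem Rc.of_Rv {x y : GolayPt → ℤ} (h : Rv x y) : Rc x y :=
  ⟨y, h, 0, zero_mem _, by simp⟩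

theorem Rc.of_congr {x y z : GolayPt → ℤ} (hx : x ∈ leechLattice) (hz : z ∈ leechLattice)
    (h : x - y = 2 • z) : Rc x y :=
  ⟨x, Rv.refl hx, z, hz, h⟩

theorem Rv_congr {y y' w' : GolayPt → ℤ} (h : Rv y w') (hy' : y' ∈ leechLattice)
    (hc : ∃ z ∈ leechLattice, y' - y = 2 • z) :
    ∃ y'', Rv y' y'' ∧ ∃ z ∈ leechLattice, y'' - w' = 2 • z := by
  obtain ⟨g, hg, hy, hw', e⟩ := h
  obtain ⟨z, hz, hyz⟩ := hc
  refine ⟨((g ⟨y', hy'⟩ : leechLattice) : GolayPt → ℤ), ⟨g, hg, hy', (g ⟨y', hy'⟩).2, rfl⟩,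
    ((g ⟨z, hz⟩ : leechLattice) : GolayPt → ℤ), (g ⟨z, hz⟩).2, ?_⟩
  have h1 : (⟨y', hy'⟩ : leechLattice) = ⟨y, hy⟩ + 2 • ⟨z, hz⟩ := by
    apply Subtype.ext
    show y' = y + 2 • z
    rw [← hyz]
    abel
  have h2 := congrArg (addHom g hg) h1
  rw [map_add, map_nsmul, addHom_apply, addHom_apply, addHom_apply, e] at h2
  have h3 : ((g ⟨y', hy'⟩ : leechLattice) : GolayPt → ℤ)
      = w' + 2 • ((g ⟨z, hz⟩ : leechLattice) : GolayPt → ℤ) := by
    rw [h2]
    rfl
  rw [h3]
  abel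

theorem Rc.mem_left {x y : GolayPt → ℤ} (h : Rc x y) : x ∈ leechLattice := by
  obtain ⟨y', ⟨f, hf, hx, hy, e⟩, -⟩ := h
  exact hx

theorem Rc.mem_right {x y : GolayPt → ℤ} (h : Rc x y) : y ∈ leechLattice := by
  obtain ⟨y', hxy', z, hz, e⟩ := h
  have : y = y' - 2 • z := by
    rw [← e]
    abel
  rw [this]
  exact sub_mem (Rv_mem_right hxy') (nsmul_mem hz 2)

theorem Rc.trans {x y w : GolayPt → ℤ} (h1 : Rc x y) (h2 : Rc y w) : Rc x w := by
  obtain ⟨y', hxy', z, hz, e⟩ := h1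
  obtain ⟨w', hyw', z', hz', e'⟩ := h2
  obtain ⟨y'', h3, z'', hz'', e''⟩ := Rv_congr hyw' (Rv_mem_right hxy') ⟨z, hz, e⟩
  refine ⟨y'', hxy'.trans h3, z'' + z', add_mem hz'' hz', ?_⟩
  rw [smul_add, ← e'', ← e']
  abel

theorem Rc.symm {x y : GolayPt → ℤ} (h : Rc x y) : Rc y x := by
  have hy := h.mem_right
  obtain ⟨y', hxy', z, hz, e⟩ := h
  obtain ⟨y'', h3, z'', hz'', e''⟩ := Rv_congr hxy'.symm hy ⟨-z, neg_mem hz, by
    rw [smul_neg, ← e]
    abel⟩
  exact ⟨y'', h3, z'', hz'', e''⟩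

/-! ### Odd vectors -/

/-- Standard vector `(-3^5, 1^19)`. -/
def std35 : GolayPt → ℤ := w33 {pt 23, pt 0, pt 1, pt 2, pt 3}

theorem class35 {c J : Finset GolayPt} (hc : IsCW c) (hJ : J.card = 5) :
    Rv (tw c (w33 J)) std35 := by
  have hJodd : J.card % 2 = 1 := by rw [hJ]
  have h1 : Rv (tw c (w33 J)) (w33 J) := by
    have := Rv_tw (w33_mem hc hJodd) hc
    rwa [tw_tw] at this
  have hnd : J.toList.Nodup := Finset.nodup_toList J
  have hlen : J.toList.length = 5 := by rw [Finset.length_toList, hJ]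
  obtain ⟨g, hg, hmap⟩ := exists_map_base5 J.toList hnd (by rw [hlen])
  rw [hlen] at hmap
  have hmem0 : w33 J ∈ leechLattice := by
    have := w33_mem empty_mem hJodd
    rwa [tw_empty] at this
  have h2 : Rv (w33 J) std35 := by
    have := Rv_perm hmem0 hg
    have e : (fun i => w33 J (g.symm i)) = std35 := by
      funext i
      unfold std35 w33
      have : g.symm i ∈ J ↔ i ∈ ({pt 23, pt 0, pt 1, pt 2, pt 3} : Finset GolayPt) := by
        rw [← Finset.mem_toList]
        have h5 : i ∈ ({pt 23, pt 0, pt 1, pt 2, pt 3} : Finset GolayPt)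
            ↔ i ∈ (base5.take 5).map pt := by
          simp [base5]
        rw [h5, ← hmap, List.mem_map]
        constructor
        · intro h
          exact ⟨g.symm i, h, by simp⟩
        · rintro ⟨a, ha, rfl⟩
          simpa using ha
      simp only [this]
    rwa [e] at this
  exact h1.trans h2

theorem w53_mem {j : GolayPt} {K : Finset GolayPt} (hj : j ∉ K) (hK : K.card = 2) :
    w53 j K ∈ leechLattice := by
  have := (tw_mem_iff (c := ∅) (w53_mod j K)).mpr ⟨empty_mem, by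
    rw [sum_w53 hj, hK]
    decide⟩
  rwa [tw_empty] at this

/-- `(5, -3, -3, 1^21)` is congruent modulo `2Λ` to a vector `(-3^5, 1^19)`. -/
theorem congr53 {j : GolayPt} {K : Finset GolayPt} (hj : j ∉ K) (hK : K.card = 2) :
    ∃ J : Finset GolayPt, J.card = 5 ∧ ∃ z ∈ leechLattice, w53 j K - w33 J = 2 • z := by
  classical
  have h3 : (insert j K).card = 3 := by rw [Finset.card_insert_of_notMem hj, hK]
  obtain ⟨s, hs, hs5⟩ := Finset.exists_superset_card_eq (s := insert j K) (n := 5)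
    (by rw [h3]; norm_num) (by rw [card_golayPt]; norm_num)
  obtain ⟨o, ho, hso⟩ := exists_octad_of_five s hs5
  have hsub : insert j K ⊆ o := hs.trans hso
  have hjo : j ∈ o := hsub (Finset.mem_insert_self j K)
  have hKo : K ⊆ o := fun i hi => hsub (Finset.mem_insert_of_mem hi)
  have ho8 : o.card = 8 := ho.2
  have hoc : IsCW o := ho.1
  refine ⟨o \ insert j K, ?_, shape 2 o K, shape2_mem hoc hKo ⟨1, by rw [hK]⟩, ?_⟩
  · rw [Finset.card_sdiff_of_subset hsub, ho8, h3]
  · funext i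
    simp only [Pi.sub_apply, Pi.smul_apply, nsmul_eq_mul, Nat.cast_ofNat]
    unfold w53 w33 shape
    by_cases h1 : i = j
    · subst h1
      simp [hj, hjo]
    · by_cases h2 : i ∈ K
      · simp [h1, h2]
      · by_cases h4 : i ∈ o
        · simp [h1, h2, h4]
        · simp [h1, h2, h4]

theorem odd_case {u : GolayPt → ℤ} (hu : u ∈ leechLattice) (hn : sqNorm u = 64)
    (hodd : u none % 2 = 1) : Rc u std35 := by
  have h : u ∈ shell 64 := mem_shell.mpr ⟨hu, hn⟩
  rw [shell64_eq] at h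
  unfold L64 at h
  simp only [Finset.mem_union] at h
  have hfam : ∀ {A : Finset (GolayPt → ℤ)} {n : ℤ} {t : ℕ × ℕ}, IsFam A n t → u ∉ A := by
    intro A n t hA hmem
    have := (hA u hmem).2.2.1
    omega
  rcases h with ((((((h | h) | h) | h) | h) | h) | h) | h
  · obtain ⟨c, w, hc, hw, rfl⟩ := mem_FOdd.mp h
    obtain ⟨J, hJ, rfl⟩ := mem_W33.mp hw
    exact Rc.of_Rv (class35 hc hJ)
  · obtain ⟨c, w, hc, hw, rfl⟩ := mem_FOdd.mp h
    obtain ⟨j, K, hj, hK, rfl⟩ := mem_W53.mp hw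
    have hm := w53_mem hj hK
    have h1 : Rv (tw c (w53 j K)) (w53 j K) := by
      have := Rv_tw hu hc
      rwa [tw_tw] at this
    obtain ⟨J, hJ, z, hz, e⟩ := congr53 hj hK
    have h2 : Rc (w53 j K) (w33 J) := Rc.of_congr hm hz e
    have h3 : Rv (w33 J) std35 := by
      have := class35 empty_mem hJ
      rwa [tw_empty] at this
    exact (Rc.of_Rv h1).trans (h2.trans (Rc.of_Rv h3))
  · exact absurd h (hfam (FG_fam 16 0))
  · exact absurd h (hfam (FG_fam 12 1))
  · exact absurd h (hfam (FG_fam 8 2))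
  · exact absurd h (hfam F6_fam)
  · exact absurd h (hfam (FG_fam 0 4))
  · exact absurd h (hfam F8_fam)

/-! ### Even vectors -/

theorem xi_val {v : GolayPt → ℤ} (hv : v ∈ leechLattice) {q x y z : GolayPt}
    (hnd : [q, x, y, z].Nodup) :
    ∃ u, Rv v u ∧ u none = -(v q - (v q + v x + v y + v z) / 2) := by
  obtain ⟨g, hg, hmap⟩ := exists_map_base5 [q, x, y, z] hnd (by simp)
  have hgm : g q = pt 23 ∧ g x = pt 0 ∧ g y = pt 1 ∧ g z = pt 2 := by
    simpa [base5] using hmap
  have h1 := Rv_perm hv hg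
  have h2 := Rv_xi (Rv_mem_right h1)
  refine ⟨_, h1.trans h2, ?_⟩
  have e23 : g.symm (pt 23) = q := by rw [← hgm.1]; simp
  have e0 : g.symm (pt 0) = x := by rw [← hgm.2.1]; simp
  have e1 : g.symm (pt 1) = y := by rw [← hgm.2.2.1]; simp
  have e2 : g.symm (pt 2) = z := by rw [← hgm.2.2.2]; simp
  have ht : tetN (idx (none : GolayPt)) = 0 := by decide
  rw [xi_apply, ht, ts_zero_eq]
  simp only [if_true]
  have e23' : g.symm none = q := e23
  rw [e23', e23, e0, e1, e2]
  rw [show v x + v y + v z + v q = v q + v x + v y + v z by ring]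
  ring

theorem even_case_B {v : GolayPt → ℤ} (hv : v ∈ leechLattice) (hn : sqNorm v = 64)
    (hev : v none % 2 = 0) (h3 : 3 ≤ (dec2 v).card) (h24 : (dec2 v).card < 24) :
    Rc v std35 := by
  have hev' : ∀ i, v i % 2 = 0 := by
    rcases parity hv with h | h
    · exact h
    · have := h none
      omega
  obtain ⟨s, hsc, hs3⟩ := Finset.exists_subset_card_eq (s := dec2 v) (n := 3) h3
  obtain ⟨x, y, z, hxy, hxz, hyz, rfl⟩ := Finset.card_eq_three.mp hs3
  have hx : x ∈ dec2 v := hsc (by simp)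
  have hy : y ∈ dec2 v := hsc (by simp)
  have hz : z ∈ dec2 v := hsc (by simp)
  obtain ⟨q, hq⟩ : ∃ q, q ∉ dec2 v := by
    by_contra h
    rw [not_exists] at h
    have : dec2 v = Finset.univ := Finset.eq_univ_iff_forall.mpr (fun i => not_not.mp (h i))
    rw [this, Finset.card_univ, card_golayPt] at h24
    omega
  have hqx : q ≠ x := fun h => hq (h ▸ hx)
  have hqy : q ≠ y := fun h => hq (h ▸ hy)
  have hqz : q ≠ z := fun h => hq (h ▸ hz)
  have hvq : v q % 4 = 0 := by
    have := hev' q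
    have : ¬ (v q % 4 = 2) := fun h => hq ((mem_dec2 v q).mpr h)
    omega
  have hvx := (mem_dec2 v x).mp hx
  have hvy := (mem_dec2 v y).mp hy
  have hvz := (mem_dec2 v z).mp hz
  obtain ⟨u, hvu, hu⟩ := even_to_odd hv (q := q) (x := x) (y := y) (z := z)
    (by simp [hqx, hqy, hqz, hxy, hxz, hyz]) (by omega) (by omega)
  exact (Rc.of_Rv hvu).trans (odd_case (Rv_mem_right hvu) (by rw [Rv_norm hvu, hn]) hu)

theorem even64 {v : GolayPt → ℤ} (hv : v ∈ leechLattice) (hn : sqNorm v = 64)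
    (hev : v none % 2 = 0) :
    (3 ≤ (dec2 v).card ∧ (dec2 v).card < 24) ∨ v ∈ FG 0 4 ∨ v ∈ F8 := by
  have h : v ∈ shell 64 := mem_shell.mpr ⟨hv, hn⟩
  rw [shell64_eq] at h
  unfold L64 at h
  simp only [Finset.mem_union] at h
  rcases h with ((((((h | h) | h) | h) | h) | h) | h) | h
  · exfalso
    have := (FOdd_spec W33_5_spec h).2.2
    omega
  · exfalso
    have := (FOdd_spec (n := 64) (fun w hw => W53_spec hw) h).2.2
    omega
  · left
    have := (FG_spec h).2.2.2.1
    omega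
  · left
    have := (FG_spec h).2.2.2.1
    omega
  · left
    have := (FG_spec h).2.2.2.1
    omega
  · left
    have := (F6_spec h).2.2.2.1
    omega
  · exact Or.inr (Or.inl h)
  · exact Or.inr (Or.inr h)

theorem case_C {v : GolayPt → ℤ} (h : v ∈ FG 0 4) : Rc v std35 := by
  have hfam := FG_fam 0 4 v h
  have hv := hfam.1
  have hn : sqNorm v = 64 := by
    rw [hfam.2.1]
    norm_num
  obtain ⟨c, e, p, e', ⟨-, hc0⟩, ⟨he, -⟩, ⟨hp, hp4⟩, he', rfl⟩ := mem_FG.mp h
  have hd := disj_of_compl hp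
  have hc0' : c = ∅ := Finset.card_eq_zero.mp hc0
  subst hc0'
  obtain ⟨a, ha⟩ : p.Nonempty := by
    rw [← Finset.card_pos, hp4]
    norm_num
  obtain ⟨s, hs, hs3⟩ := Finset.exists_subset_card_eq (s := pᶜ) (n := 3)
    (by rw [Finset.card_compl, card_golayPt, hp4]; norm_num)
  obtain ⟨x, y, z, hxy, hxz, hyz, rfl⟩ := Finset.card_eq_three.mp hs3
  have hx : x ∉ p := Finset.mem_compl.mp (hs (by simp))
  have hy : y ∉ p := Finset.mem_compl.mp (hs (by simp))
  have hz : z ∉ p := Finset.mem_compl.mp (hs (by simp))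
  have hax : a ≠ x := fun h => hx (h ▸ ha)
  have hay : a ≠ y := fun h => hy (h ▸ ha)
  have haz : a ≠ z := fun h => hz (h ▸ ha)
  have hvx : gv ∅ e p e' x = 0 := gv_apply_out he he' (Finset.notMem_empty x) hx
  have hvy : gv ∅ e p e' y = 0 := gv_apply_out he he' (Finset.notMem_empty y) hy
  have hvz : gv ∅ e p e' z = 0 := gv_apply_out he he' (Finset.notMem_empty z) hz
  have hva : gv ∅ e p e' a = 4 ∨ gv ∅ e p e' a = -4 := by
    rw [gv_apply_p he hd ha, shape4_val ha]
    split_ifs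
    · exact Or.inr rfl
    · exact Or.inl rfl
  obtain ⟨u, hvu, hu⟩ := xi_val hv (q := a) (x := x) (y := y) (z := z)
    (by simp [hax, hay, haz, hxy, hxz, hyz])
  rw [hvx, hvy, hvz] at hu
  have hu2 : u none % 4 = 2 := by
    rcases hva with h | h <;> rw [h] at hu <;> rw [hu] <;> decide
  have huL := Rv_mem_right hvu
  have hun : sqNorm u = 64 := by rw [Rv_norm hvu, hn]
  have hmem2 : (none : GolayPt) ∈ dec2 u := (mem_dec2 u none).mpr hu2
  rcases even64 huL hun (by omega) with h1 | h1 | h1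
  · exact (Rc.of_Rv hvu).trans (even_case_B huL hun (by omega) h1.1 h1.2)
  · exfalso
    have := (FG_spec h1).2.2.2.1
    rw [Finset.card_eq_zero] at this
    rw [this] at hmem2
    exact Finset.notMem_empty _ hmem2
  · exfalso
    have := (F8_spec h1).2.2.2.1
    rw [Finset.card_eq_zero] at this
    rw [this] at hmem2
    exact Finset.notMem_empty _ hmem2

theorem case_D {v : GolayPt → ℤ} (h : v ∈ F8) : Rc v std35 := by
  have hspec := F8_spec h
  have hv := hspec.1
  have hn := hspec.2.1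
  obtain ⟨⟨q, b⟩, rfl⟩ := mem_F8.mp h
  obtain ⟨s, hs, hs3⟩ := Finset.exists_subset_card_eq (s := ({q} : Finset GolayPt)ᶜ) (n := 3)
    (by rw [Finset.card_compl, card_golayPt, Finset.card_singleton]; norm_num)
  obtain ⟨x, y, z, hxy, hxz, hyz, rfl⟩ := Finset.card_eq_three.mp hs3
  have hx : x ≠ q := by
    have := hs (show x ∈ ({x, y, z} : Finset GolayPt) by simp)
    simpa using this
  have hy : y ≠ q := by
    have := hs (show y ∈ ({x, y, z} : Finset GolayPt) by simp)
    simpa using this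
  have hz : z ≠ q := by
    have := hs (show z ∈ ({x, y, z} : Finset GolayPt) by simp)
    simpa using this
  obtain ⟨u, hvu, hu⟩ := xi_val hv (q := q) (x := x) (y := y) (z := z)
    (by simp [hx.symm, hy.symm, hz.symm, hxy, hxz, hyz])
  have hq8 : v8 (q, b) q = if b then 8 else -8 := v8_q (q, b)
  rw [hq8, v8_ne (q, b) hx, v8_ne (q, b) hy, v8_ne (q, b) hz] at hu
  have hu4 : u none = 4 ∨ u none = -4 := by
    cases b
    · left
      rw [hu]
      decide
    · right
      rw [hu]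
      decide
  have huL := Rv_mem_right hvu
  have hun : sqNorm u = 64 := by rw [Rv_norm hvu, hn]
  rcases even64 huL hun (by omega) with h1 | h1 | h1
  · exact (Rc.of_Rv hvu).trans (even_case_B huL hun (by omega) h1.1 h1.2)
  · exact (Rc.of_Rv hvu).trans (case_C h1)
  · exfalso
    obtain ⟨⟨q', b'⟩, hu'⟩ := mem_F8.mp h1
    rw [hu'] at hu4
    by_cases hq' : (none : GolayPt) = q'
    · subst hq'
      have h8 : v8 (none, b') none = if b' then 8 else -8 := v8_q (none, b')
      rw [h8] at hu4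
      cases b' <;> simp at hu4
    · rw [v8_ne (q', b') hq'] at hu4
      omega

/-- Every lattice vector of sum of squares 64 is, modulo `2Λ`, in the orbit of
`(-3^5, 1^19)`. -/
theorem all64 {v : GolayPt → ℤ} (hv : v ∈ leechLattice) (hn : sqNorm v = 64) : Rc v std35 := by
  rcases Int.emod_two_eq_zero_or_one (v none) with hev | hodd
  · rcases even64 hv hn hev with h1 | h1 | h1
    · exact even_case_B hv hn hev h1.1 h1.2
    · exact case_C h1
    · exact case_D h1
  · exact odd_case hv hn hodd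

theorem trans64 {v w : GolayPt → ℤ} (hv : v ∈ leechLattice) (hnv : sqNorm v = 64)
    (hw : w ∈ leechLattice) (hnw : sqNorm w = 64) : Rc v w :=
  (all64 hv hnv).trans (all64 hw hnw).symm

end Cfsg.Agent.Lib.Helper92.Cross
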