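import Mathlib
import Cfsg.Prelude.Def_Sporadic_a
import Cfsg.Prelude.Def_SporadicCombinatorics
import Cfsg.Agent.Lib.Helper92.Cross
import Cfsg.Agent.S1571

/-!
The action of the automorphism group of the rank-24 lattice `Λ` on `Λ/2Λ`, the stabiliser of the
class of the standard cross, and the order of the group.
-/

set_option autoImplicit false

namespace Cfsg.Agent.Lib.Helper92.ActQ

open Cfsg Cfsg.Agent.Lib.Helper92.LeechCore Cfsg.Agent.Lib.Helper92.Conway
open Cfsg.Agent.Lib.Helper92.Co0Orbit Cfsg.Agent.Lib.Helper92.Orbit48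
open Cfsg.Agent.Lib.Helper92.Families2 Cfsg.Agent.Lib.Helper92.Shells
open Cfsg.Agent.Lib.Helper92.Cross
open Cfsg.Agent.S5546

/-! ### The action on classes -/

theorem comap_le (g : ↥Co0) : twoL.addSubgroupOf leechLattice
    ≤ (twoL.addSubgroupOf leechLattice).comap (addHom g.1 g.2) := by
  intro v hv
  rw [AddSubgroup.mem_comap, AddSubgroup.mem_addSubgroupOf]
  rw [AddSubgroup.mem_addSubgroupOf] at hv
  obtain ⟨z, hz, e⟩ := mem_twoL.mp hv
  rw [mem_twoL]
  refine ⟨((g.1 ⟨z, hz⟩ : leechLattice) : GolayPt → ℤ), (g.1 ⟨z, hz⟩).2, ?_⟩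
  have h1 : v = 2 • (⟨z, hz⟩ : leechLattice) := Subtype.ext e
  rw [h1, map_nsmul, addHom_apply]
  rfl

/-- The action of an automorphism on classes. -/
noncomputable def actHom (g : ↥Co0) : Q →+ Q :=
  QuotientAddGroup.map _ _ (addHom g.1 g.2) (comap_le g)

noncomputable instance mulActionQ : MulAction ↥Co0 Q where
  smul g c := actHom g c
  one_smul c := by
    induction c using QuotientAddGroup.induction_on
    rfl
  mul_smul g h c := by
    induction c using QuotientAddGroup.induction_on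
    rfl

theorem smul_mk (g : ↥Co0) (v : ↥leechLattice) :
    g • (QuotientAddGroup.mk v : Q) = QuotientAddGroup.mk (g • v) := rfl

theorem cls_coe (v : ↥leechLattice) : cls (v : GolayPt → ℤ) = QuotientAddGroup.mk v := by
  unfold cls
  rw [dif_pos v.2]

theorem smul_cls (g : ↥Co0) (v : ↥leechLattice) :
    g • cls (v : GolayPt → ℤ) = cls ((g • v : ↥leechLattice) : GolayPt → ℤ) := by
  rw [cls_coe, cls_coe, smul_mk]

theorem sqNorm_smul (g : ↥Co0) (v : ↥leechLattice) :
    sqNorm ((g • v : ↥leechLattice) : GolayPt → ℤ) = sqNorm (v : GolayPt → ℤ) := g.2.2 v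

/-! ### The standard cross -/

/-- The vector `8 e_∞`. -/
def e8 : GolayPt → ℤ := Pi.single none 8

theorem e8_eq : e8 = v8 (none, true) := rfl

theorem e8_F8 : e8 ∈ F8 := mem_F8.mpr ⟨(none, true), e8_eq⟩

theorem e8_mem : e8 ∈ leechLattice := (F8_spec e8_F8).1

theorem e8_norm : sqNorm e8 = 64 := (F8_spec e8_F8).2.1

/-- The class of the standard cross. -/
noncomputable def c0 : Q := cls e8

theorem stdCross_eq : stdCross = ↑F8 := by
  ext x
  rw [Finset.mem_coe, mem_F8]
  constructor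
  · rintro ⟨i, s, hs | hs, rfl⟩
    · exact ⟨(i, true), by rw [hs]; rfl⟩
    · exact ⟨(i, false), by rw [hs]; rfl⟩
  · rintro ⟨⟨i, b⟩, rfl⟩
    cases b
    · exact ⟨i, -8, Or.inr rfl, rfl⟩
    · exact ⟨i, 8, Or.inl rfl, rfl⟩

theorem F8_cls {x : GolayPt → ℤ} (hx : x ∈ F8) : cls x = c0 := by
  have hxL := (F8_spec hx).1
  unfold c0
  rw [cls_eq_iff hxL e8_mem]
  obtain ⟨⟨i, b⟩, rfl⟩ := mem_F8.mp hx
  refine ⟨Pi.single i (if b then 4 else -4) - Pi.single none 4, ?_, ?_⟩
  · apply Cfsg.Agent.S0393.A4_le_leech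
    refine ⟨fun k => ?_, ?_⟩
    · simp only [Pi.sub_apply, Pi.single_apply]
      split_ifs <;> decide
    · simp only [Pi.sub_apply, Finset.sum_sub_distrib, Finset.sum_pi_single',
        Finset.mem_univ, if_true]
      split_ifs <;> decide
  · funext k
    unfold v8 e8
    simp only [Pi.sub_apply, Pi.smul_apply, Pi.single_apply, nsmul_eq_mul, Nat.cast_ofNat]
    split_ifs <;> norm_num

section
open Classical

theorem fiber64 {x : GolayPt → ℤ} (hx : x ∈ leechLattice) (hxn : sqNorm x = 64) :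
    ((shell 64).filter (fun y => cls y = cls x)).card = 48 := by
  have hc : cls x ≠ 0 := cls_ne_zero hx (by rw [hxn]) (by rw [hxn]; norm_num)
  have h := class_total (cls x)
  rw [if_neg hc] at h
  have e : ∀ n : ℤ, n ≤ 64 → n ≠ 64 → (shell n).filter (fun y => cls y = cls x) = ∅ := by
    intro n hn hn'
    rw [Finset.eq_empty_iff_forall_notMem]
    intro u hu
    rw [Finset.mem_filter, mem_shell] at hu
    obtain ⟨⟨huL, hun⟩, huc⟩ := hu
    rcases pair_cases huL hx (by rw [hun]; exact hn) (by rw [hxn]) huc with h | h | h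
    · rw [h, hun] at hxn
      exact hn' hxn
    · rw [h, sqNorm_neg, hun] at hxn
      exact hn' hxn
    · rw [hun] at h
      exact hn' h.1
  rw [e 32 (by norm_num) (by norm_num), e 48 (by norm_num) (by norm_num), Finset.card_empty] at h
  omega

theorem F8_eq : F8 = (shell 64).filter (fun y => cls y = c0) := by
  apply Finset.eq_of_subset_of_card_le
  · intro x hx
    rw [Finset.mem_filter, mem_shell]
    exact ⟨⟨(F8_spec hx).1, (F8_spec hx).2.1⟩, F8_cls hx⟩
  · have := fiber64 e8_mem e8_norm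
    unfold c0
    rw [this, card_F8]

theorem stab_iff (g : ↥Co0) : g • c0 = c0 ↔ ∀ v : ↥leechLattice,
    (v : GolayPt → ℤ) ∈ stdCross → ((g • v : ↥leechLattice) : GolayPt → ℤ) ∈ stdCross := by
  constructor
  · intro h v hv
    rw [stdCross_eq, Finset.mem_coe] at hv ⊢
    rw [F8_eq, Finset.mem_filter, mem_shell]
    refine ⟨⟨(g • v).2, ?_⟩, ?_⟩
    · rw [sqNorm_smul, (F8_spec hv).2.1]
    · rw [← smul_cls, F8_cls hv, h]
  · intro h
    have h1 := h ⟨e8, e8_mem⟩ (by rw [stdCross_eq]; exact e8_F8)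
    rw [stdCross_eq, Finset.mem_coe] at h1
    have h2 := F8_cls h1
    rw [← smul_cls] at h2
    exact h2

theorem card_stab : Nat.card (MulAction.stabilizer ↥Co0 c0) = 4096 * 244823040 := by
  rw [← Cfsg.Agent.S1571.result.2]
  exact Nat.card_congr (Equiv.subtypeEquivRight (fun g =>
    MulAction.mem_stabilizer_iff.trans (stab_iff g)))

theorem orbit_eq : MulAction.orbit ↥Co0 c0 = {c | ∃ x ∈ shell 64, cls x = c} := by
  ext c
  rw [MulAction.mem_orbit_iff, Set.mem_setOf_eq]
  constructor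
  · rintro ⟨g, rfl⟩
    refine ⟨((g • (⟨e8, e8_mem⟩ : leechLattice) : ↥leechLattice) : GolayPt → ℤ), ?_, ?_⟩
    · rw [mem_shell]
      exact ⟨(g • (⟨e8, e8_mem⟩ : leechLattice)).2, by rw [sqNorm_smul]; exact e8_norm⟩
    · rw [← smul_cls]
      rfl
  · rintro ⟨x, hx, rfl⟩
    rw [mem_shell] at hx
    obtain ⟨y', ⟨f, hf, hx', hy', e⟩, z, hz, hyz⟩ := trans64 e8_mem e8_norm hx.1 hx.2
    refine ⟨⟨f, hf⟩, ?_⟩
    have h1 : ((⟨f, hf⟩ : ↥Co0) • (⟨e8, hx'⟩ : ↥leechLattice)) = ⟨y', hy'⟩ := e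
    have h2 := smul_cls ⟨f, hf⟩ ⟨e8, hx'⟩
    rw [h1] at h2
    show (⟨f, hf⟩ : ↥Co0) • cls e8 = cls x
    rw [h2]
    exact (cls_eq_iff hy' hx.1).mpr ⟨z, hz, hyz⟩

theorem card_Q4 : {c : Q | ∃ x ∈ shell 64, cls x = c}.ncard = 8292375 := by
  have hset : {c : Q | ∃ x ∈ shell 64, cls x = c}
      = ↑(Finset.univ.filter (fun c : Q => ∃ x ∈ shell 64, cls x = c)) := by
    ext c
    simp
  rw [hset, Set.ncard_coe_finset]
  have h1 : ∀ c : Q, ((shell 64).filter (fun y => cls y = c)).card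
      = if (∃ x ∈ shell 64, cls x = c) then 48 else 0 := by
    intro c
    by_cases hc : ∃ x ∈ shell 64, cls x = c
    · rw [if_pos hc]
      obtain ⟨x, hx, rfl⟩ := hc
      rw [mem_shell] at hx
      exact fiber64 hx.1 hx.2
    · rw [if_neg hc, Finset.card_eq_zero, Finset.eq_empty_iff_forall_notMem]
      intro y hy
      rw [Finset.mem_filter] at hy
      exact hc ⟨y, hy.1, hy.2⟩
  have h2 := sum_fib (shell 64)
  rw [card_shell64] at h2
  simp_rw [h1] at h2
  rw [Finset.sum_ite, Finset.sum_const, Finset.sum_const_zero, add_zero, smul_eq_mul] at h2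
  omega

/-- The order of the automorphism group of the lattice. -/
theorem card_Co0 : Nat.card ↥Co0 = 8315553613086720000 := by
  have h1 := Subgroup.index_mul_card (MulAction.stabilizer ↥Co0 c0)
  rw [MulAction.index_stabilizer, orbit_eq, card_Q4, card_stab] at h1
  rw [← h1]

end

end Cfsg.Agent.Lib.Helper92.ActQ
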