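import Mathlib
import Cfsg.Prelude.Def_Sporadic_a
import Cfsg.Prelude.Def_SporadicCombinatorics
import Cfsg.Agent.Lib.Helper92.ActQ
import Cfsg.Agent.S0398
import Cfsg.Agent.S1571

/-!
Frames: moving a pair of vectors of one cross to a standard pair, and moving an orthogonal pair
of minimal vectors to a standard pair.
-/

set_option autoImplicit false

namespace Cfsg.Agent.Lib.Helper92.Frames

open Cfsg Cfsg.Agent.Lib.Helper92.LeechCore Cfsg.Agent.Lib.Helper92.Conway
open Cfsg.Agent.Lib.Helper92.Co0Orbit Cfsg.Agent.Lib.Helper92.Orbit48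
open Cfsg.Agent.Lib.Helper92.Families2 Cfsg.Agent.Lib.Helper92.Shells
open Cfsg.Agent.Lib.Helper92.Cross Cfsg.Agent.Lib.Helper92.ActQ
open Cfsg.Agent.S5546
open Cfsg.Agent.Lib.Helper7.GolayBase Cfsg.Agent.Lib.Helper7.M24Main
open Cfsg.Agent.Lib.Helper93.Monomial

/-! ### Basic facts on the action -/

theorem smul_def (g : ↥Co0) (v : ↥leechLattice) : g • v = g.1 v := rfl

theorem smul_add' (g : ↥Co0) (v w : ↥leechLattice) : g • (v + w) = g • v + g • w := g.2.1 v w

theorem smul_neg' (g : ↥Co0) (v : ↥leechLattice) : g • (-v) = -(g • v) :=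
  map_neg (addHom g.1 g.2) v

theorem smul_sub' (g : ↥Co0) (v w : ↥leechLattice) : g • (v - w) = g • v - g • w :=
  map_sub (addHom g.1 g.2) v w

theorem dot_smul (g : ↥Co0) (v w : ↥leechLattice) :
    dotInt ((g • v : ↥leechLattice) : GolayPt → ℤ) ((g • w : ↥leechLattice) : GolayPt → ℤ)
      = dotInt (v : GolayPt → ℤ) (w : GolayPt → ℤ) := dot_inv g.1 g.2 v w

/-! ### Moving a norm-64 vector into the standard cross -/

open Classical in
theorem to_F8 (x : ↥leechLattice) (hn : sqNorm (x : GolayPt → ℤ) = 64) :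
    ∃ g : ↥Co0, ((g • x : ↥leechLattice) : GolayPt → ℤ) ∈ F8 := by
  obtain ⟨y', ⟨f, hf, hx', hy', e⟩, z, hz, hyz⟩ := trans64 x.2 hn e8_mem e8_norm
  refine ⟨⟨f, hf⟩, ?_⟩
  have h1 : ((⟨f, hf⟩ : ↥Co0) • x) = ⟨y', hy'⟩ := e
  have h2 := sqNorm_smul ⟨f, hf⟩ x
  rw [h1] at h2
  rw [h1, F8_eq, Finset.mem_filter, mem_shell]
  refine ⟨⟨hy', ?_⟩, ?_⟩
  · rw [← hn]
    exact h2
  · exact (cls_eq_iff hy' e8_mem).mpr ⟨z, hz, hyz⟩

open Classical in
theorem same_class (g : ↥Co0) (x y : ↥leechLattice)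
    (hgx : ((g • x : ↥leechLattice) : GolayPt → ℤ) ∈ F8)
    (hy : sqNorm (y : GolayPt → ℤ) = 64)
    (hc : cls (x : GolayPt → ℤ) = cls (y : GolayPt → ℤ)) :
    ((g • y : ↥leechLattice) : GolayPt → ℤ) ∈ F8 := by
  rw [F8_eq, Finset.mem_filter, mem_shell] at hgx ⊢
  refine ⟨⟨(g • y).2, by rw [sqNorm_smul, hy]⟩, ?_⟩
  rw [← smul_cls, ← hc, smul_cls]
  exact hgx.2

/-! ### Monomial elements moving pairs of the standard cross -/

/-- The vector `± 8 e_p` as an element of the lattice. -/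
noncomputable def l8 (p : GolayPt × Bool) : ↥leechLattice :=
  ⟨v8 p, (F8_spec (mem_F8.mpr ⟨p, rfl⟩)).1⟩

theorem l8_val (p : GolayPt × Bool) : ((l8 p : ↥leechLattice) : GolayPt → ℤ) = v8 p := rfl

theorem two_pt_cw {p q : GolayPt} (hpq : p ≠ q) (P Q : Prop) :
    ∃ C ∈ supports (golayCode : Set (GolayPt → ZMod 2)), (p ∈ C ↔ P) ∧ (q ∈ C ↔ Q) := by
  by_cases hP : P <;> by_cases hQ : Q
  · exact ⟨Finset.univ, univ_mem, by simp [hP], by simp [hQ]⟩
  · obtain ⟨c, hc, h1, h2⟩ := Cfsg.Agent.S0398.sep q p hpq.symm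
    exact ⟨c, hc, by simp [hP, h1], by simp [hQ, h2]⟩
  · obtain ⟨c, hc, h1, h2⟩ := Cfsg.Agent.S0398.sep p q hpq
    exact ⟨c, hc, by simp [hP, h2], by simp [hQ, h1]⟩
  · exact ⟨∅, empty_mem, by simp [hP], by simp [hQ]⟩

theorem two_trans {i j i' j' : GolayPt} (hij : i ≠ j) (hij' : i' ≠ j') :
    ∃ σ ∈ M24, σ i = i' ∧ σ j = j' := by
  obtain ⟨g1, hg1, e1⟩ := exists_map_base5 [i, j] (by simp [hij]) (by simp)
  obtain ⟨g2, hg2, e2⟩ := exists_map_base5 [i', j'] (by simp [hij']) (by simp)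
  simp only [List.map_cons, List.map_nil, List.length_cons, List.length_nil] at e1 e2
  rw [← e2] at e1
  simp only [List.cons.injEq, and_true] at e1
  refine ⟨g2⁻¹ * g1, M24.mul_mem (M24.inv_mem hg2) hg1, ?_, ?_⟩
  · rw [Equiv.Perm.mul_apply, e1.1]
    exact Equiv.Perm.inv_eq_iff_eq.mpr rfl
  · rw [Equiv.Perm.mul_apply, e1.2]
    exact Equiv.Perm.inv_eq_iff_eq.mpr rfl

theorem mono_single (σ : Equiv.Perm GolayPt) (hσ : σ ∈ M24) (C : Finset GolayPt)
    (hC : C ∈ supports (golayCode : Set (GolayPt → ZMod 2))) (i : GolayPt) (b c : Bool)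
    (h : σ i ∈ C ↔ b ≠ c) :
    (⟨monoEquiv σ hσ C hC, monoEquiv_mem_Co0 σ hσ C hC⟩ : ↥Co0) • l8 (i, b) = l8 (σ i, c) := by
  apply Subtype.ext
  rw [smul_def, monoEquiv_apply, l8_val, l8_val]
  unfold v8
  rw [Cfsg.Agent.S1571.signedPerm_single]
  congr 1
  by_cases hm : σ i ∈ C
  · have := h.mp hm
    rw [if_pos hm]
    cases b <;> cases c <;> simp_all
  · have : b = c := by
      by_contra hbc
      exact hm (h.mpr hbc)
    rw [if_neg hm, this]

theorem mono_pair {i j i' j' : GolayPt} (hij : i ≠ j) (hij' : i' ≠ j') (b b' c c' : Bool) :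
    ∃ n : ↥Co0, n • l8 (i, b) = l8 (i', c) ∧ n • l8 (j, b') = l8 (j', c') := by
  obtain ⟨σ, hσ, h1, h2⟩ := two_trans hij hij'
  obtain ⟨C, hC, h3, h4⟩ := two_pt_cw hij' (b ≠ c) (b' ≠ c')
  refine ⟨⟨monoEquiv σ hσ C hC, monoEquiv_mem_Co0 σ hσ C hC⟩, ?_, ?_⟩
  · rw [mono_single σ hσ C hC i b c (by rw [h1]; exact h3), h1]
  · rw [mono_single σ hσ C hC j b' c' (by rw [h2]; exact h4), h2]

theorem l8_neg (i : GolayPt) (b b' : Bool) (h : b ≠ b') : l8 (i, b') = -l8 (i, b) := by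
  apply Subtype.ext
  rw [AddSubgroup.coe_neg, l8_val, l8_val]
  funext k
  unfold v8
  rw [Pi.neg_apply, Pi.single_apply, Pi.single_apply]
  cases b <;> cases b' <;> simp_all <;> split_ifs <;> norm_num

theorem none_ne_pt0 : (none : GolayPt) ≠ pt 0 := by decide

/-- Two vectors of one cross, not equal or opposite, can be moved to `8 e_∞` and `8 e_0`. -/
theorem frame_pair (x y : ↥leechLattice) (hx : sqNorm (x : GolayPt → ℤ) = 64)
    (hy : sqNorm (y : GolayPt → ℤ) = 64)
    (hc : cls (x : GolayPt → ℤ) = cls (y : GolayPt → ℤ))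
    (h1 : y ≠ x) (h2 : y ≠ -x) :
    ∃ g : ↥Co0, g • x = l8 (none, true) ∧ g • y = l8 (pt 0, true) := by
  obtain ⟨g0, hg0⟩ := to_F8 x hx
  have hg0' := same_class g0 x y hg0 hy hc
  obtain ⟨⟨i, b⟩, e1⟩ := mem_F8.mp hg0
  obtain ⟨⟨j, b'⟩, e2⟩ := mem_F8.mp hg0'
  have e1' : g0 • x = l8 (i, b) := Subtype.ext e1
  have e2' : g0 • y = l8 (j, b') := Subtype.ext e2
  have hij : i ≠ j := by
    rintro rfl
    by_cases hb : b = b'
    · subst hb
      apply h1
      have : g0 • y = g0 • x := by rw [e1', e2']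
      exact MulAction.injective g0 this
    · apply h2
      have : g0 • y = g0 • (-x) := by
        rw [smul_neg', e1', e2']
        exact l8_neg i b b' hb
      exact MulAction.injective g0 this
  obtain ⟨n, hn1, hn2⟩ := mono_pair hij none_ne_pt0 b b' true true
  refine ⟨n * g0, ?_, ?_⟩
  · rw [mul_smul, e1', hn1]
  · rw [mul_smul, e2', hn2]

/-! ### Orthogonal pairs of minimal vectors -/

/-- The vector `4 e_∞ + 4 e_0`. -/
noncomputable def V0 : ↥leechLattice :=
  ⟨mvec 1 none (pt 0), mvec_mem 1 (Or.inl rfl) none (pt 0) none_ne_pt0⟩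

/-- The vector `4 e_∞ - 4 e_0`. -/
noncomputable def U0 : ↥leechLattice :=
  ⟨mvec (-1) none (pt 0), mvec_mem (-1) (Or.inr rfl) none (pt 0) none_ne_pt0⟩

theorem V0_val : ((V0 : ↥leechLattice) : GolayPt → ℤ) = mvec 1 none (pt 0) := rfl

theorem U0_val : ((U0 : ↥leechLattice) : GolayPt → ℤ) = mvec (-1) none (pt 0) := rfl

theorem sqNorm_zero_fun : sqNorm (0 : GolayPt → ℤ) = 0 := by
  unfold sqNorm
  simp

/-- An orthogonal pair of minimal vectors can be moved to the standard orthogonal pair. -/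
theorem orth_pair_std (v w : ↥leechLattice) (hv : sqNorm (v : GolayPt → ℤ) = 32)
    (hw : sqNorm (w : GolayPt → ℤ) = 32)
    (hd : dotInt (v : GolayPt → ℤ) (w : GolayPt → ℤ) = 0) :
    ∃ g : ↥Co0, g • v = V0 ∧ g • w = U0 := by
  have hx : sqNorm ((v + w : ↥leechLattice) : GolayPt → ℤ) = 64 := by
    rw [AddSubgroup.coe_add, Cfsg.Agent.Lib.Helper92.LeechCore.sqNorm_add, hv, hw, hd]
    norm_num
  have hy : sqNorm ((v - w : ↥leechLattice) : GolayPt → ℤ) = 64 := by
    rw [AddSubgroup.coe_sub, Cfsg.Agent.Lib.Helper92.LeechCore.sqNorm_sub, hv, hw, hd]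
    norm_num
  have hc : cls ((v + w : ↥leechLattice) : GolayPt → ℤ)
      = cls ((v - w : ↥leechLattice) : GolayPt → ℤ) := by
    rw [cls_eq_iff (v + w).2 (v - w).2]
    refine ⟨w, w.2, ?_⟩
    rw [AddSubgroup.coe_add, AddSubgroup.coe_sub]
    funext i
    simp only [Pi.sub_apply, Pi.add_apply, Pi.smul_apply, nsmul_eq_mul, Nat.cast_ofNat]
    ring
  have h1 : v - w ≠ v + w := by
    intro h
    have hw0 : (w : GolayPt → ℤ) = 0 := by
      funext i
      have := congrArg (fun u : ↥leechLattice => (u : GolayPt → ℤ) i) h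
      simp only [AddSubgroup.coe_add, AddSubgroup.coe_sub, Pi.sub_apply, Pi.add_apply] at this
      rw [Pi.zero_apply]
      omega
    rw [hw0, sqNorm_zero_fun] at hw
    norm_num at hw
  have h2 : v - w ≠ -(v + w) := by
    intro h
    have hv0 : (v : GolayPt → ℤ) = 0 := by
      funext i
      have := congrArg (fun u : ↥leechLattice => (u : GolayPt → ℤ) i) h
      simp only [AddSubgroup.coe_add, AddSubgroup.coe_sub, AddSubgroup.coe_neg, Pi.sub_apply,
        Pi.add_apply, Pi.neg_apply] at this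
      rw [Pi.zero_apply]
      omega
    rw [hv0, sqNorm_zero_fun] at hv
    norm_num at hv
  obtain ⟨g, hg1, hg2⟩ := frame_pair (v + w) (v - w) hx hy hc h1 h2
  rw [smul_add'] at hg1
  rw [smul_sub'] at hg2
  have k1 : ∀ i, ((g • v : ↥leechLattice) : GolayPt → ℤ) i
      + ((g • w : ↥leechLattice) : GolayPt → ℤ) i = if i = none then 8 else 0 := fun i => by
    have := congrArg (fun u : ↥leechLattice => (u : GolayPt → ℤ) i) hg1
    simp only [AddSubgroup.coe_add, Pi.add_apply, l8_val] at this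
    rw [this]
    unfold v8
    rw [Pi.single_apply]
    rfl
  have k2 : ∀ i, ((g • v : ↥leechLattice) : GolayPt → ℤ) i
      - ((g • w : ↥leechLattice) : GolayPt → ℤ) i = if i = pt 0 then 8 else 0 := fun i => by
    have := congrArg (fun u : ↥leechLattice => (u : GolayPt → ℤ) i) hg2
    simp only [AddSubgroup.coe_sub, Pi.sub_apply, l8_val] at this
    rw [this]
    unfold v8
    rw [Pi.single_apply]
    rfl
  refine ⟨g, Subtype.ext (funext fun i => ?_), Subtype.ext (funext fun i => ?_)⟩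
  · have a := k1 i
    have b := k2 i
    rw [V0_val]
    unfold mvec
    by_cases h3 : i = none
    · subst h3
      rw [if_pos rfl] at a
      rw [if_neg none_ne_pt0] at b
      rw [if_pos rfl, if_neg none_ne_pt0]
      omega
    · by_cases h4 : i = pt 0
      · rw [if_neg h3] at a
        rw [if_pos h4] at b
        rw [if_neg h3, if_pos h4]
        omega
      · rw [if_neg h3] at a
        rw [if_neg h4] at b
        rw [if_neg h3, if_neg h4]
        omega
  · have a := k1 i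
    have b := k2 i
    rw [U0_val]
    unfold mvec
    by_cases h3 : i = none
    · subst h3
      rw [if_pos rfl] at a
      rw [if_neg none_ne_pt0] at b
      rw [if_pos rfl, if_neg none_ne_pt0]
      omega
    · by_cases h4 : i = pt 0
      · rw [if_neg h3] at a
        rw [if_pos h4] at b
        rw [if_neg h3, if_pos h4]
        omega
      · rw [if_neg h3] at a
        rw [if_neg h4] at b
        rw [if_neg h3, if_neg h4]
        omega

/-- The stabiliser of a minimal vector is transitive on the minimal vectors orthogonal to it. -/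
theorem orth_trans (v w w' : ↥leechLattice) (hv : sqNorm (v : GolayPt → ℤ) = 32)
    (hw : sqNorm (w : GolayPt → ℤ) = 32) (hw' : sqNorm (w' : GolayPt → ℤ) = 32)
    (hd : dotInt (v : GolayPt → ℤ) (w : GolayPt → ℤ) = 0)
    (hd' : dotInt (v : GolayPt → ℤ) (w' : GolayPt → ℤ) = 0) :
    ∃ g : ↥Co0, g • v = v ∧ g • w = w' := by
  obtain ⟨g1, a1, b1⟩ := orth_pair_std v w hv hw hd
  obtain ⟨g2, a2, b2⟩ := orth_pair_std v w' hv hw' hd'
  refine ⟨g2⁻¹ * g1, ?_, ?_⟩
  · rw [mul_smul, a1, inv_smul_eq_iff, a2]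
  · rw [mul_smul, b1, inv_smul_eq_iff, b2]

end Cfsg.Agent.Lib.Helper92.Frames
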