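import Mathlib
import Cfsg.Prelude.Def_Sporadic_a
import Cfsg.Prelude.Def_SporadicCombinatorics
import Cfsg.Agent.Lib.Helper92.Frames
import Cfsg.Agent.S5392
import Cfsg.Agent.S5552

/-!
Pairs of minimal vectors of the rank-24 lattice with inner product `-16` or `-8` (in the scaled
coordinates): each such pair can be moved to a standard pair.
-/

set_option autoImplicit false

namespace Cfsg.Agent.Lib.Helper92.Pairs

open Cfsg Cfsg.Agent.Lib.Helper92.LeechCore Cfsg.Agent.Lib.Helper92.MinVec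
open Cfsg.Agent.Lib.Helper92.LeechGen
open Cfsg.Agent.Lib.Helper92.Co0Orbit Cfsg.Agent.Lib.Helper92.Orbit48
open Cfsg.Agent.Lib.Helper92.ActQ Cfsg.Agent.Lib.Helper92.Frames
open Cfsg.Agent.S5546
open Cfsg.Agent.Lib.Helper7.GolayBase Cfsg.Agent.Lib.Helper7.M24Main
open Cfsg.Agent.Lib.Helper7.GolayCode
open Cfsg.Agent.Lib.Helper93.Monomial

/-- The automorphism group is transitive on minimal vectors. -/
theorem trans32 (v w : ↥leechLattice) (hv : sqNorm (v : GolayPt → ℤ) = 32)
    (hw : sqNorm (w : GolayPt → ℤ) = 32) : ∃ g : ↥Co0, g • v = w := by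
  obtain ⟨f, hf, hx, hy, e⟩ := (all32 v.2 hv).trans (all32 w.2 hw).symm
  exact ⟨⟨f, hf⟩, e⟩

theorem dot_single_left (a : GolayPt) (x : ℤ) (y : GolayPt → ℤ) :
    dotInt (Pi.single a x) y = x * y a := by
  unfold dotInt
  rw [Finset.sum_eq_single a]
  · rw [Pi.single_eq_same]
  · intro b _ hb
    rw [Pi.single_eq_of_ne hb, zero_mul]
  · intro h
    exact absurd (Finset.mem_univ a) h

/-- The vector `4 s e_a + 4 t e_b`. -/
def m2 (s t : ℤ) (a b : GolayPt) : GolayPt → ℤ := Pi.single a (4 * s) + Pi.single b (4 * t)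

theorem dot_m2 (s t : ℤ) (a b : GolayPt) (y : GolayPt → ℤ) :
    dotInt (m2 s t a b) y = 4 * s * y a + 4 * t * y b := by
  unfold m2
  rw [Cfsg.Agent.S5552.dot_add_left, dot_single_left, dot_single_left]

theorem mvec_eq_single (s : ℤ) (a b : GolayPt) :
    mvec s a b = Pi.single a 4 + Pi.single b (s * 4) := by
  funext r
  unfold mvec
  rw [Pi.add_apply, Pi.single_apply, Pi.single_apply]
  split_ifs <;> ring

theorem m2_spec {s t : ℤ} (hs : s = 1 ∨ s = -1) (ht : t = 1 ∨ t = -1) {a b : GolayPt}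
    (hab : a ≠ b) : m2 s t a b ∈ leechLattice ∧ sqNorm (m2 s t a b) = 32 := by
  rcases hs with rfl | rfl <;> rcases ht with rfl | rfl
  · have e : m2 1 1 a b = mvec 1 a b := by
      rw [mvec_eq_single]
      rfl
    rw [e]
    exact ⟨mvec_mem 1 (Or.inl rfl) a b hab, mvec_sq 1 (Or.inl rfl) a b hab⟩
  · have e : m2 1 (-1) a b = mvec (-1) a b := by
      rw [mvec_eq_single]
      rfl
    rw [e]
    exact ⟨mvec_mem (-1) (Or.inr rfl) a b hab, mvec_sq (-1) (Or.inr rfl) a b hab⟩
  · have e : m2 (-1) 1 a b = mvec (-1) b a := by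
      rw [mvec_eq_single]
      unfold m2
      rw [add_comm]
      rfl
    rw [e]
    exact ⟨mvec_mem (-1) (Or.inr rfl) b a hab.symm, mvec_sq (-1) (Or.inr rfl) b a hab.symm⟩
  · have e : m2 (-1) (-1) a b = -mvec 1 a b := by
      rw [mvec_eq_single]
      unfold m2
      funext r
      simp only [Pi.add_apply, Pi.neg_apply, Pi.single_apply]
      split_ifs <;> ring
    rw [e, sqNorm_neg]
    exact ⟨neg_mem (mvec_mem 1 (Or.inl rfl) a b hab), mvec_sq 1 (Or.inl rfl) a b hab⟩

theorem V0_none : ((V0 : ↥leechLattice) : GolayPt → ℤ) none = 4 :=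
  Cfsg.Agent.S5552.mvec_left 1 none_ne_pt0

theorem V0_pt0 : ((V0 : ↥leechLattice) : GolayPt → ℤ) (pt 0) = 4 := by
  rw [V0_val, Cfsg.Agent.S5552.mvec_right 1 none_ne_pt0]
  norm_num

theorem V0_other {r : GolayPt} (h1 : r ≠ none) (h2 : r ≠ pt 0) :
    ((V0 : ↥leechLattice) : GolayPt → ℤ) r = 0 :=
  Cfsg.Agent.S5552.mvec_other 1 h1 h2

theorem V0_norm : sqNorm ((V0 : ↥leechLattice) : GolayPt → ℤ) = 32 :=
  mvec_sq 1 (Or.inl rfl) none (pt 0) none_ne_pt0

theorem dot_V0 (y : GolayPt → ℤ) :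
    dotInt ((V0 : ↥leechLattice) : GolayPt → ℤ) y = 4 * y none + 4 * y (pt 0) := by
  rw [Cfsg.Agent.S5552.dot_comm, V0_val, Cfsg.Agent.S5392.dot_mvec]
  ring

theorem dot_U0 (y : GolayPt → ℤ) :
    dotInt ((U0 : ↥leechLattice) : GolayPt → ℤ) y = 4 * y none - 4 * y (pt 0) := by
  rw [Cfsg.Agent.S5552.dot_comm, U0_val, Cfsg.Agent.S5392.dot_mvec]
  ring

/-! ### Existence of a minimal vector orthogonal to `V0` with inner product `-16` with `w` -/

theorem u_case1 (w : GolayPt → ℤ) (h : w none - w (pt 0) = 4 ∨ w none - w (pt 0) = -4) :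
    ∃ u ∈ leechLattice, sqNorm u = 32 ∧ dotInt ((V0 : ↥leechLattice) : GolayPt → ℤ) u = 0
      ∧ dotInt u w = -16 := by
  rcases h with h | h
  · refine ⟨m2 (-1) 1 none (pt 0), (m2_spec (Or.inr rfl) (Or.inl rfl) none_ne_pt0).1,
      (m2_spec (Or.inr rfl) (Or.inl rfl) none_ne_pt0).2, ?_, ?_⟩
    · rw [Cfsg.Agent.S5552.dot_comm, dot_m2, V0_none, V0_pt0]
      norm_num
    · rw [dot_m2]
      linarith
  · refine ⟨m2 1 (-1) none (pt 0), (m2_spec (Or.inl rfl) (Or.inr rfl) none_ne_pt0).1,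
      (m2_spec (Or.inl rfl) (Or.inr rfl) none_ne_pt0).2, ?_, ?_⟩
    · rw [Cfsg.Agent.S5552.dot_comm, dot_m2, V0_none, V0_pt0]
      norm_num
    · rw [dot_m2]
      linarith

theorem u_case2 (w : GolayPt → ℤ) {c d : GolayPt} (hcd : c ≠ d) (hc1 : c ≠ none)
    (hc2 : c ≠ pt 0) (hd1 : d ≠ none) (hd2 : d ≠ pt 0) {s t : ℤ} (hs : s = 1 ∨ s = -1)
    (ht : t = 1 ∨ t = -1) (h : s * w c + t * w d = -4) :
    ∃ u ∈ leechLattice, sqNorm u = 32 ∧ dotInt ((V0 : ↥leechLattice) : GolayPt → ℤ) u = 0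
      ∧ dotInt u w = -16 := by
  refine ⟨m2 s t c d, (m2_spec hs ht hcd).1, (m2_spec hs ht hcd).2, ?_, ?_⟩
  · rw [Cfsg.Agent.S5552.dot_comm, dot_m2, V0_other hc1 hc2, V0_other hd1 hd2]
    norm_num
  · rw [dot_m2]
    linarith

/-- An octad avoiding the points `∞` and `0`. -/
def O8 : Finset GolayPt := mk 10558

theorem O8_cw : IsCW O8 := mk_mem_supports (inCode_sound (by decide +kernel))

theorem O8_card : O8.card = 8 := by
  unfold O8
  rw [card_mk]
  decide +kernel

theorem O8_none : (none : GolayPt) ∉ O8 := by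
  unfold O8
  rw [mem_mk]
  decide +kernel

theorem O8_pt0 : pt 0 ∉ O8 := by
  unfold O8
  rw [mem_mk]
  decide +kernel

theorem u_case3 {c : Finset GolayPt} (hc : IsCW c) {j : GolayPt} (hj : j = none ∨ j = pt 0) :
    ∃ u ∈ leechLattice, sqNorm u = 32 ∧ dotInt ((V0 : ↥leechLattice) : GolayPt → ℤ) u = 0
      ∧ dotInt u (tw c (w3 j)) = -16 := by
  have hjO : j ∉ O8 := by
    rcases hj with rfl | rfl
    · exact O8_none
    · exact O8_pt0
  have hsub : O8 \ c ⊆ O8 := Finset.sdiff_subset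
  have hev : Even (O8 \ c).card := by
    have h1 := Finset.card_sdiff_add_card_inter O8 c
    have h2 := even_inter O8_cw hc
    rw [O8_card] at h1
    rw [Nat.even_iff]
    omega
  refine ⟨shape 2 O8 (O8 \ c), shape2_mem O8_cw hsub hev, ?_, ?_, ?_⟩
  · rw [sqNorm_shape 2 hsub, O8_card]
    norm_num
  · rw [dot_V0]
    have h1 : shape 2 O8 (O8 \ c) none = 0 := by
      unfold shape
      rw [if_neg (fun h => O8_none (hsub h)), if_neg O8_none]
    have h2 : shape 2 O8 (O8 \ c) (pt 0) = 0 := by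
      unfold shape
      rw [if_neg (fun h => O8_pt0 (hsub h)), if_neg O8_pt0]
    rw [h1, h2]
    norm_num
  · unfold dotInt
    have h : ∀ i, shape 2 O8 (O8 \ c) i * tw c (w3 j) i = (-2) * (if i ∈ O8 then 1 else 0) := by
      intro i
      unfold shape tw w3
      by_cases hi : i ∈ O8
      · have hij : i ≠ j := by
          rintro rfl
          exact hjO hi
        by_cases hic : i ∈ c
        · rw [if_neg (by rw [Finset.mem_sdiff]; exact fun h => h.2 hic), if_pos hi, if_pos hic,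
            if_neg hij, if_pos hi]
          norm_num
        · rw [if_pos (by rw [Finset.mem_sdiff]; exact ⟨hi, hic⟩), if_neg hic, if_neg hij,
            if_pos hi]
      · rw [if_neg (fun h => hi (hsub h)), if_neg hi, if_neg hi]
        norm_num
    simp_rw [h]
    rw [← Finset.mul_sum, sum_indicator, O8_card]
    norm_num

theorem exists_u (w : GolayPt → ℤ) (hw : w ∈ leechLattice) (hn : sqNorm w = 32)
    (hd : dotInt ((V0 : ↥leechLattice) : GolayPt → ℤ) w = -16
      ∨ dotInt ((V0 : ↥leechLattice) : GolayPt → ℤ) w = -8) :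
    ∃ u ∈ leechLattice, sqNorm u = 32 ∧ dotInt ((V0 : ↥leechLattice) : GolayPt → ℤ) u = 0
      ∧ dotInt u w = -16 := by
  rw [dot_V0] at hd
  rcases classify32 hw hn with ⟨p, e, hp, he, rfl⟩ | ⟨O', e, hO, hO8, he, hev, rfl⟩ |
    ⟨c, j, hc, rfl⟩
  · apply u_case1
    have hv : ∀ i, shape 4 p e i = -4 ∨ shape 4 p e i = 4 ∨ shape 4 p e i = 0 := by
      intro i
      unfold shape
      split_ifs <;> simp
    have h1 := hv none
    have h2 := hv (pt 0)
    omega
  · have hcard : 1 < (O' \ {none, pt 0}).card := by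
      have h1 := Finset.le_card_sdiff ({none, pt 0} : Finset GolayPt) O'
      have h2 : ({none, pt 0} : Finset GolayPt).card ≤ 2 := Finset.card_le_two
      omega
    obtain ⟨c, hc, d, hd', hcd⟩ := Finset.one_lt_card.mp hcard
    rw [Finset.mem_sdiff, Finset.mem_insert, Finset.mem_singleton, not_or] at hc hd'
    have hs : ∀ i ∈ O', ∃ s : ℤ, (s = 1 ∨ s = -1) ∧ s * shape 2 O' e i = -2 := by
      intro i hi
      unfold shape
      by_cases hie : i ∈ e
      · exact ⟨1, Or.inl rfl, by rw [if_pos hie]; norm_num⟩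
      · exact ⟨-1, Or.inr rfl, by rw [if_neg hie, if_pos hi]; norm_num⟩
    obtain ⟨s, hs1, hs2⟩ := hs c hc.1
    obtain ⟨t, ht1, ht2⟩ := hs d hd'.1
    exact u_case2 _ hcd hc.2.1 hc.2.2 hd'.2.1 hd'.2.2 hs1 ht1 (by rw [hs2, ht2]; norm_num)
  · by_cases hj : j = none ∨ j = pt 0
    · exact u_case3 hc hj
    · rw [not_or] at hj
      obtain ⟨d, hd1, hd2, hd3⟩ : ∃ d : GolayPt, d ≠ none ∧ d ≠ pt 0 ∧ d ≠ j := by
        by_cases h1 : j = pt 1
        · exact ⟨pt 2, by decide, by decide, by rw [h1]; decide⟩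
        · exact ⟨pt 1, by decide, by decide, fun h => h1 h.symm⟩
      have hs : ∃ s : ℤ, (s = 1 ∨ s = -1) ∧ s * tw c (w3 j) j = -3 := by
        unfold tw w3
        by_cases hjc : j ∈ c
        · exact ⟨-1, Or.inr rfl, by rw [if_pos hjc, if_pos rfl]; norm_num⟩
        · exact ⟨1, Or.inl rfl, by rw [if_neg hjc, if_pos rfl]; norm_num⟩
      have ht : ∃ t : ℤ, (t = 1 ∨ t = -1) ∧ t * tw c (w3 j) d = -1 := by
        unfold tw w3
        by_cases hdc : d ∈ c
        · exact ⟨1, Or.inl rfl, by rw [if_pos hdc, if_neg hd3]; norm_num⟩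
        · exact ⟨-1, Or.inr rfl, by rw [if_neg hdc, if_neg hd3]; norm_num⟩
      obtain ⟨s, hs1, hs2⟩ := hs
      obtain ⟨t, ht1, ht2⟩ := ht
      exact u_case2 _ hd3.symm hj.1 hj.2 hd1 hd2 hs1 ht1 (by rw [hs2, ht2]; norm_num)

/-- A pair of minimal vectors with inner product `-16` or `-8` can be moved so that the first
becomes `V0` and the second has inner product `-16` with `U0`. -/
theorem reduce_pair (v w : ↥leechLattice) (hv : sqNorm (v : GolayPt → ℤ) = 32)
    (hw : sqNorm (w : GolayPt → ℤ) = 32)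
    (hd : dotInt (v : GolayPt → ℤ) (w : GolayPt → ℤ) = -16
      ∨ dotInt (v : GolayPt → ℤ) (w : GolayPt → ℤ) = -8) :
    ∃ g : ↥Co0, g • v = V0
      ∧ dotInt ((U0 : ↥leechLattice) : GolayPt → ℤ) ((g • w : ↥leechLattice) : GolayPt → ℤ)
        = -16 := by
  obtain ⟨g0, hg0⟩ := trans32 v V0 hv V0_norm
  have h1 : dotInt ((V0 : ↥leechLattice) : GolayPt → ℤ)
      ((g0 • w : ↥leechLattice) : GolayPt → ℤ)
      = dotInt (v : GolayPt → ℤ) (w : GolayPt → ℤ) := by
    rw [← hg0, dot_smul]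
  obtain ⟨u, hu, hun, hu1, hu2⟩ := exists_u (g0 • w : ↥leechLattice).1 (g0 • w).2
    (by rw [sqNorm_smul, hw]) (by rw [h1]; exact hd)
  obtain ⟨h, hh1, hh2⟩ := orth_pair_std V0 ⟨u, hu⟩ V0_norm hun hu1
  refine ⟨h * g0, by rw [mul_smul, hg0, hh1], ?_⟩
  rw [mul_smul, ← hh2, dot_smul]
  exact hu2

/-! ### Normal forms -/

/-- The vector `-4 e_∞ + 4 e_1`. -/
noncomputable def W16 : ↥leechLattice :=
  ⟨mvec (-1) (pt 1) none, mvec_mem (-1) (Or.inr rfl) (pt 1) none (by decide)⟩

/-- The vector `(-3, 1^23)`. -/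
noncomputable def W8 : ↥leechLattice := ⟨w3 none, w3_mem none⟩

theorem O8_pt1 : pt 1 ∈ O8 := by
  unfold O8
  rw [mem_mk]
  decide +kernel

theorem base3 : (base5.take 3).map pt = [none, pt 0, pt 1] := by decide

theorem norm16 (w : ↥leechLattice) (hw : sqNorm (w : GolayPt → ℤ) = 32)
    (h1 : dotInt ((V0 : ↥leechLattice) : GolayPt → ℤ) (w : GolayPt → ℤ) = -16)
    (h2 : dotInt ((U0 : ↥leechLattice) : GolayPt → ℤ) (w : GolayPt → ℤ) = -16) :
    ∃ n : ↥Co0, n • V0 = V0 ∧ n • w = W16 := by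
  rw [dot_V0] at h1
  rw [dot_U0] at h2
  have ha : (w : GolayPt → ℤ) none = -4 := by omega
  have hb : (w : GolayPt → ℤ) (pt 0) = 0 := by omega
  obtain ⟨w, hwL⟩ := w
  change w none = -4 at ha
  change w (pt 0) = 0 at hb
  change sqNorm w = 32 at hw
  rcases classify32 hwL hw with ⟨p, e, hp, he, rfl⟩ | ⟨O', e, hO, hO8, he, hev, rfl⟩ |
    ⟨c, j, hc, rfl⟩
  · have hne : none ∈ e := by
      by_contra h
      unfold shape at ha
      rw [if_neg h] at ha
      split_ifs at ha <;> omega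
    have h0p : pt 0 ∉ p := by
      intro h
      unfold shape at hb
      rw [if_pos h] at hb
      split_ifs at hb <;> omega
    have hnp : none ∈ p := he hne
    have hcard : (p.erase none).card = 1 := by rw [Finset.card_erase_of_mem hnp, hp]
    obtain ⟨c, hc⟩ := Finset.card_eq_one.mp hcard
    have hcp : c ∈ p ∧ c ≠ none := by
      have : c ∈ p.erase none := by
        rw [hc]
        exact Finset.mem_singleton_self c
      rw [Finset.mem_erase] at this
      exact ⟨this.2, this.1⟩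
    have hc0 : c ≠ pt 0 := fun h => h0p (h ▸ hcp.1)
    have hp' : ∀ i, i ∈ p → i = none ∨ i = c := by
      intro i hi
      by_cases h : i = none
      · exact Or.inl h
      · right
        have : i ∈ p.erase none := Finset.mem_erase.mpr ⟨h, hi⟩
        rw [hc] at this
        exact Finset.mem_singleton.mp this
    obtain ⟨t, ht⟩ : ∃ t : ℤ, t = if c ∈ e then -4 else 4 := ⟨_, rfl⟩
    have hform : shape 4 p e = Pi.single none (-4) + Pi.single c t := by
      funext i
      rw [Pi.add_apply, Pi.single_apply, Pi.single_apply]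
      unfold shape
      by_cases hi1 : i = none
      · subst hi1
        rw [if_pos hne, if_pos rfl, if_neg (Ne.symm hcp.2)]
        norm_num
      · by_cases hi2 : i = c
        · subst hi2
          rw [if_neg hi1, if_pos rfl, ht]
          by_cases hie : i ∈ e
          · rw [if_pos hie, if_pos hie]
            norm_num
          · rw [if_neg hie, if_neg hie, if_pos hcp.1]
            norm_num
        · have hip : i ∉ p := fun h => by
            rcases hp' i h with h | h
            · exact hi1 h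
            · exact hi2 h
          rw [if_neg (fun h => hip (he h)), if_neg hip, if_neg hi1, if_neg hi2]
          norm_num
    obtain ⟨σ, hσ, e1⟩ := exists_map_base5 [none, pt 0, c]
      (by
        rw [List.nodup_cons, List.nodup_cons]
        refine ⟨?_, ?_, List.nodup_singleton c⟩
        · simp only [List.mem_cons, List.not_mem_nil, or_false, not_or]
          exact ⟨none_ne_pt0, Ne.symm hcp.2⟩
        · simp only [List.mem_cons, List.not_mem_nil, or_false]
          exact Ne.symm hc0)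
      (by simp)
    simp only [List.map_cons, List.map_nil, List.length_cons, List.length_nil] at e1
    rw [base3] at e1
    simp only [List.cons.injEq, and_true] at e1
    obtain ⟨s1, s2, s3⟩ := e1
    obtain ⟨C, hC, c1, c2, c3⟩ : ∃ C ∈ supports (golayCode : Set (GolayPt → ZMod 2)),
        none ∉ C ∧ pt 0 ∉ C ∧ (pt 1 ∈ C ↔ c ∈ e) := by
      by_cases hce : c ∈ e
      · exact ⟨O8, O8_cw, O8_none, O8_pt0, by simp [hce, O8_pt1]⟩
      · exact ⟨∅, empty_mem, by simp, by simp, by simp [hce]⟩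
    refine ⟨⟨monoEquiv σ hσ C hC, monoEquiv_mem_Co0 σ hσ C hC⟩, ?_, ?_⟩
    · apply Subtype.ext
      rw [smul_def, monoEquiv_apply, V0_val, mvec_eq_single, signedPerm_add,
        Cfsg.Agent.S1571.signedPerm_single, Cfsg.Agent.S1571.signedPerm_single, s1, s2,
        if_neg c1, if_neg c2]
    · apply Subtype.ext
      rw [smul_def, monoEquiv_apply]
      show signedPerm σ C (shape 4 p e) = mvec (-1) (pt 1) none
      rw [hform, signedPerm_add, Cfsg.Agent.S1571.signedPerm_single,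
        Cfsg.Agent.S1571.signedPerm_single, s1, s3, if_neg c1, mvec_eq_single, add_comm]
      congr 2
      rw [ht]
      by_cases hce : c ∈ e
      · rw [if_pos (c3.mpr hce), if_pos hce]
        norm_num
      · rw [if_neg (fun h => hce (c3.mp h)), if_neg hce]
  · exfalso
    unfold shape at ha
    split_ifs at ha <;> omega
  · exfalso
    unfold tw w3 at hb
    split_ifs at hb <;> omega

theorem norm8 (w : ↥leechLattice) (hw : sqNorm (w : GolayPt → ℤ) = 32)
    (h1 : dotInt ((V0 : ↥leechLattice) : GolayPt → ℤ) (w : GolayPt → ℤ) = -8)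
    (h2 : dotInt ((U0 : ↥leechLattice) : GolayPt → ℤ) (w : GolayPt → ℤ) = -16) :
    ∃ n : ↥Co0, n • V0 = V0 ∧ n • w = W8 := by
  rw [dot_V0] at h1
  rw [dot_U0] at h2
  have ha : (w : GolayPt → ℤ) none = -3 := by omega
  have hb : (w : GolayPt → ℤ) (pt 0) = 1 := by omega
  obtain ⟨w, hwL⟩ := w
  change w none = -3 at ha
  change w (pt 0) = 1 at hb
  change sqNorm w = 32 at hw
  rcases classify32 hwL hw with ⟨p, e, hp, he, rfl⟩ | ⟨O', e, hO, hO8, he, hev, rfl⟩ |
    ⟨c, j, hc, rfl⟩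
  · exfalso
    unfold shape at hb
    split_ifs at hb <;> omega
  · exfalso
    unfold shape at hb
    split_ifs at hb <;> omega
  · have hj : j = none := by
      by_contra h
      unfold tw w3 at ha
      rw [if_neg (Ne.symm h)] at ha
      split_ifs at ha <;> omega
    subst hj
    have hnc : none ∉ c := by
      intro h
      unfold tw w3 at ha
      rw [if_pos h, if_pos rfl] at ha
      omega
    have h0c : pt 0 ∉ c := by
      intro h
      unfold tw w3 at hb
      rw [if_pos h] at hb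
      split_ifs at hb <;> omega
    refine ⟨⟨monoEquiv 1 (one_mem _) c hc, monoEquiv_mem_Co0 1 (one_mem _) c hc⟩, ?_, ?_⟩
    · apply Subtype.ext
      rw [smul_def, monoEquiv_apply]
      funext i
      unfold signedPerm
      by_cases hi : i ∈ c
      · rw [if_pos hi]
        have hi1 : i ≠ none := fun h => hnc (h ▸ hi)
        have hi2 : i ≠ pt 0 := fun h => h0c (h ▸ hi)
        show -(((V0 : ↥leechLattice) : GolayPt → ℤ) i) = ((V0 : ↥leechLattice) : GolayPt → ℤ) i
        rw [V0_other hi1 hi2]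
        norm_num
      · rw [if_neg hi]
        rfl
    · apply Subtype.ext
      rw [smul_def, monoEquiv_apply]
      show signedPerm 1 c (tw c (w3 none)) = w3 none
      have e : signedPerm 1 c (tw c (w3 none)) = tw c (tw c (w3 none)) := by
        funext i
        rfl
      rw [e, tw_tw]

/-- A pair of minimal vectors with inner product `-16` can be moved to `(V0, W16)`. -/
theorem pair16 (v w : ↥leechLattice) (hv : sqNorm (v : GolayPt → ℤ) = 32)
    (hw : sqNorm (w : GolayPt → ℤ) = 32)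
    (hd : dotInt (v : GolayPt → ℤ) (w : GolayPt → ℤ) = -16) :
    ∃ g : ↥Co0, g • v = V0 ∧ g • w = W16 := by
  obtain ⟨g, hg1, hg2⟩ := reduce_pair v w hv hw (Or.inl hd)
  have h1 : dotInt ((V0 : ↥leechLattice) : GolayPt → ℤ)
      ((g • w : ↥leechLattice) : GolayPt → ℤ) = -16 := by
    rw [← hg1, dot_smul]
    exact hd
  obtain ⟨n, hn1, hn2⟩ := norm16 (g • w) (by rw [sqNorm_smul, hw]) h1 hg2
  exact ⟨n * g, by rw [mul_smul, hg1, hn1], by rw [mul_smul, hn2]⟩

/-- A pair of minimal vectors with inner product `-8` can be moved to `(V0, W8)`. -/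
theorem pair8 (v w : ↥leechLattice) (hv : sqNorm (v : GolayPt → ℤ) = 32)
    (hw : sqNorm (w : GolayPt → ℤ) = 32)
    (hd : dotInt (v : GolayPt → ℤ) (w : GolayPt → ℤ) = -8) :
    ∃ g : ↥Co0, g • v = V0 ∧ g • w = W8 := by
  obtain ⟨g, hg1, hg2⟩ := reduce_pair v w hv hw (Or.inr hd)
  have h1 : dotInt ((V0 : ↥leechLattice) : GolayPt → ℤ)
      ((g • w : ↥leechLattice) : GolayPt → ℤ) = -8 := by
    rw [← hg1, dot_smul]
    exact hd
  obtain ⟨n, hn1, hn2⟩ := norm8 (g • w) (by rw [sqNorm_smul, hw]) h1 hg2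
  exact ⟨n * g, by rw [mul_smul, hg1, hn1], by rw [mul_smul, hn2]⟩

/-- The stabiliser of a minimal vector is transitive on the minimal vectors having inner product
`-16` with it. -/
theorem trans16 (v w w' : ↥leechLattice) (hv : sqNorm (v : GolayPt → ℤ) = 32)
    (hw : sqNorm (w : GolayPt → ℤ) = 32) (hw' : sqNorm (w' : GolayPt → ℤ) = 32)
    (hd : dotInt (v : GolayPt → ℤ) (w : GolayPt → ℤ) = -16)
    (hd' : dotInt (v : GolayPt → ℤ) (w' : GolayPt → ℤ) = -16) :
    ∃ g : ↥Co0, g • v = v ∧ g • w = w' := by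
  obtain ⟨g1, a1, b1⟩ := pair16 v w hv hw hd
  obtain ⟨g2, a2, b2⟩ := pair16 v w' hv hw' hd'
  refine ⟨g2⁻¹ * g1, ?_, ?_⟩
  · rw [mul_smul, a1, inv_smul_eq_iff, a2]
  · rw [mul_smul, b1, inv_smul_eq_iff, b2]

/-- The stabiliser of a minimal vector is transitive on the minimal vectors having inner product
`-8` with it. -/
theorem trans8 (v w w' : ↥leechLattice) (hv : sqNorm (v : GolayPt → ℤ) = 32)
    (hw : sqNorm (w : GolayPt → ℤ) = 32) (hw' : sqNorm (w' : GolayPt → ℤ) = 32)
    (hd : dotInt (v : GolayPt → ℤ) (w : GolayPt → ℤ) = -8)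
    (hd' : dotInt (v : GolayPt → ℤ) (w' : GolayPt → ℤ) = -8) :
    ∃ g : ↥Co0, g • v = v ∧ g • w = w' := by
  obtain ⟨g1, a1, b1⟩ := pair8 v w hv hw hd
  obtain ⟨g2, a2, b2⟩ := pair8 v w' hv hw' hd'
  refine ⟨g2⁻¹ * g1, ?_, ?_⟩
  · rw [mul_smul, a1, inv_smul_eq_iff, a2]
  · rw [mul_smul, b1, inv_smul_eq_iff, b2]

end Cfsg.Agent.Lib.Helper92.Pairs
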