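import Mathlib
import Cfsg.Prelude.Def_Sporadic_a
import Cfsg.Prelude.Def_SporadicCombinatorics
import Cfsg.Agent.Lib.Helper92.Census

/-!
Correctness of the computed census of minimal vectors with a prescribed inner product.
-/

set_option autoImplicit false

namespace Cfsg.Agent.Lib.Helper92.CensusSpec

open Cfsg Cfsg.Agent.Lib.Helper92.LeechCore Cfsg.Agent.Lib.Helper92.MinVec
open Cfsg.Agent.S0394 Cfsg.Agent.Lib.Helper92.Census
open Cfsg.Agent.Lib.Helper7.GolayBase Cfsg.Agent.Lib.Helper7.GolayCode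
open Cfsg.Agent.Lib.Helper7.GolayRigid Cfsg.Agent.Lib.Helper7.GolayCount

/-! ### The points of a mask as a list -/

/-- The points `pt (i + j)`, `j < n`, with bit `j` of `m` set. -/
def ptsFrom : ℕ → ℕ → ℕ → List GolayPt
  | 0, _, _ => []
  | n + 1, i, m =>
    if m.testBit 0 = true then pt i :: ptsFrom n (i + 1) (m / 2) else ptsFrom n (i + 1) (m / 2)

theorem mem_ptsFrom {n i m : ℕ} {p : GolayPt} :
    p ∈ ptsFrom n i m ↔ ∃ j, j < n ∧ p = pt (i + j) ∧ m.testBit j = true := by
  induction n generalizing i m with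
  | zero => simp [ptsFrom]
  | succ n ih =>
    have key : (∃ j, j < n + 1 ∧ p = pt (i + j) ∧ m.testBit j = true) ↔
        ((p = pt i ∧ m.testBit 0 = true) ∨
          ∃ j, j < n ∧ p = pt (i + 1 + j) ∧ (m / 2).testBit j = true) := by
      constructor
      · rintro ⟨j, hj, hp, hb⟩
        cases j with
        | zero => exact Or.inl ⟨hp, hb⟩
        | succ j =>
          right
          refine ⟨j, by omega, ?_, ?_⟩
          · rw [hp]
            congr 1
            omega
          · rw [← Nat.testBit_add_one]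
            exact hb
      · rintro (⟨hp, hb⟩ | ⟨j, hj, hp, hb⟩)
        · exact ⟨0, by omega, hp, hb⟩
        · refine ⟨j + 1, by omega, ?_, ?_⟩
          · rw [hp]
            congr 1
            omega
          · rw [Nat.testBit_add_one]
            exact hb
    rw [key]
    unfold ptsFrom
    by_cases hb : m.testBit 0 = true
    · rw [if_pos hb, List.mem_cons, ih]
      simp [hb]
    · rw [if_neg hb, ih]
      simp [hb]

theorem pt_inj {a b : ℕ} (ha : a < 24) (hb : b < 24) (h : pt a = pt b) : a = b := by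
  have := congrArg idx h
  rwa [idx_pt ha, idx_pt hb] at this

theorem nodup_ptsFrom {n i m : ℕ} (h : i + n ≤ 24) : (ptsFrom n i m).Nodup := by
  induction n generalizing i m with
  | zero => simp [ptsFrom]
  | succ n ih =>
    unfold ptsFrom
    by_cases hb : m.testBit 0 = true
    · rw [if_pos hb, List.nodup_cons]
      refine ⟨?_, ih (by omega)⟩
      rw [mem_ptsFrom]
      rintro ⟨j, hj, hp, -⟩
      have := pt_inj (by omega) (by omega) hp
      omega
    · rw [if_neg hb]
      exact ih (by omega)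

theorem toFinset_ptsFrom (m : ℕ) : (ptsFrom 24 0 m).toFinset = mk m := by
  ext p
  rw [List.mem_toFinset, mem_ptsFrom, mem_mk]
  constructor
  · rintro ⟨j, hj, hp, hb⟩
    rw [hp, zero_add, idx_pt hj]
    exact hb
  · intro hb
    exact ⟨idx p, idx_lt p, by rw [zero_add, pt_idx], hb⟩

/-! ### The selection -/

theorem odd_test (m : ℕ) : Nat.beq (Nat.land m 1) 1 = m.testBit 0 := by
  rw [Nat.testBit_zero]
  show Nat.beq (m &&& 1) 1 = decide (m % 2 = 1)
  rw [Nat.and_one_is_mod]
  rcases Nat.mod_two_eq_zero_or_one m with h | h <;> rw [h] <;> rfl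

theorem selR_cons (x : ℕ × ℕ) (PN : List (ℕ × ℕ)) (m : ℕ) (acc : List (ℕ × ℕ)) :
    selR (x :: PN) m acc = cond (m.testBit 0) (selR PN (m / 2) (x :: acc)) (selR PN (m / 2) acc) := by
  rw [← odd_test]
  rfl

theorem selR_spec (g : GolayPt → ℕ × ℕ) (PN : List (ℕ × ℕ)) (i m : ℕ) (acc : List (ℕ × ℕ))
    (h : ∀ j (hj : j < PN.length), PN[j] = g (pt (i + j))) :
    selR PN m acc = ((ptsFrom PN.length i m).map g).reverse ++ acc := by
  induction PN generalizing i m acc with
  | nil => rfl
  | cons x PN ih =>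
    have h0 : x = g (pt i) := by
      have := h 0 (by simp)
      simpa using this
    have h' : ∀ j (hj : j < PN.length), PN[j] = g (pt (i + 1 + j)) := by
      intro j hj
      have := h (j + 1) (by simp; omega)
      rw [List.getElem_cons_succ] at this
      rw [this]
      congr 2
      omega
    rw [selR_cons, List.length_cons]
    unfold ptsFrom
    by_cases hb : m.testBit 0 = true
    · rw [hb, cond_true, if_pos rfl, ih (i + 1) (m / 2) (x :: acc) h', List.map_cons,
        List.reverse_cons, List.append_assoc, h0]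
      rfl
    · rw [Bool.not_eq_true] at hb
      rw [hb, cond_false, if_neg (by simp), ih (i + 1) (m / 2) acc h']

/-- The value function attached to a list of pairs. -/
def gN (PN : List (ℕ × ℕ)) (p : GolayPt) : ℕ × ℕ := PN.getD (idx p) (0, 0)

theorem gN_pt (PN : List (ℕ × ℕ)) (hlen : PN.length = 24) (j : ℕ) (hj : j < PN.length) :
    PN[j] = gN PN (pt (0 + j)) := by
  unfold gN
  rw [zero_add, idx_pt (by omega), List.getD_eq_getElem _ _ hj]

/-! ### The count of sign choices -/

theorem csR_nil (a T : ℕ) (par b : Bool) (s : ℕ) :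
    csR a T par [] b s = cond (and (or (not par) (not b)) (Nat.beq (Nat.mul a s) T)) 1 0 := rfl

theorem csR_cons (a T : ℕ) (par : Bool) (x : ℕ × ℕ) (l : List (ℕ × ℕ)) (b : Bool) (s : ℕ) :
    csR a T par (x :: l) b s = csR a T par l b (s + x.1) + csR a T par l (!b) (s + x.2) := rfl

theorem card_filter_powerset_insert {α : Type*} [DecidableEq α] (S : Finset α) (p : α)
    (hp : p ∉ S) (Q : Finset α → Prop) [DecidablePred Q] :
    ((insert p S).powerset.filter Q).card
      = (S.powerset.filter Q).card + (S.powerset.filter (fun e => Q (insert p e))).card := by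
  rw [Finset.powerset_insert, Finset.filter_union, Finset.card_union_of_disjoint,
    Finset.filter_image, Finset.card_image_of_injOn]
  · intro e he e' he' h
    simp only [Finset.coe_filter, Finset.mem_powerset, Set.mem_setOf_eq] at he he'
    have h1 : p ∉ e := fun h => hp (he.1 h)
    have h2 : p ∉ e' := fun h => hp (he'.1 h)
    calc e = (insert p e).erase p := (Finset.erase_insert h1).symm
      _ = (insert p e').erase p := by rw [h]
      _ = e' := Finset.erase_insert h2
  · rw [Finset.disjoint_left]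
    intro e he he'
    rw [Finset.mem_filter, Finset.mem_powerset] at he
    rw [Finset.mem_filter, Finset.mem_image] at he'
    obtain ⟨⟨e', -, rfl⟩, -⟩ := he'
    exact hp (he.1 (Finset.mem_insert_self p e'))

/-- The predicate counted by `csR`. -/
def Qp (a T : ℕ) (par : Bool) (g : GolayPt → ℕ × ℕ) (S : Finset GolayPt) (b : Bool) (s : ℕ)
    (e : Finset GolayPt) : Prop :=
  (par = true → xor b (decide (Odd e.card)) = false) ∧
    a * (s + ∑ p ∈ S \ e, (g p).1 + ∑ p ∈ e, (g p).2) = T

instance (a T : ℕ) (par : Bool) (g : GolayPt → ℕ × ℕ) (S : Finset GolayPt) (b : Bool) (s : ℕ) :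
    DecidablePred (Qp a T par g S b s) := fun e => by
  unfold Qp
  infer_instance

theorem csR_spec (a T : ℕ) (par : Bool) (g : GolayPt → ℕ × ℕ) (L : List GolayPt)
    (hL : L.Nodup) (b : Bool) (s : ℕ) :
    csR a T par (L.map g) b s = (L.toFinset.powerset.filter (Qp a T par g L.toFinset b s)).card := by
  induction L generalizing b s with
  | nil =>
    rw [List.map_nil, csR_nil, List.toFinset_nil, Finset.powerset_empty, Finset.filter_singleton]
    have hQ : Qp a T par g ∅ b s ∅ ↔ (and (or (not par) (not b)) (Nat.beq (Nat.mul a s) T)) = true := by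
      unfold Qp
      have h1 : (Nat.beq (Nat.mul a s) T = true) ↔ a * s = T := by
        rw [Nat.beq_eq]
        rfl
      rw [Bool.and_eq_true, h1]
      simp only [Finset.card_empty, Finset.sdiff_empty, Finset.sum_empty, add_zero]
      cases par <;> cases b <;> simp
    by_cases h : Qp a T par g ∅ b s ∅
    · rw [if_pos h, hQ.mp h]
      rfl
    · rw [if_neg h]
      have : (and (or (not par) (not b)) (Nat.beq (Nat.mul a s) T)) = false := by
        rw [← Bool.not_eq_true]
        exact fun h' => h (hQ.mpr h')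
      rw [this]
      rfl
  | cons p L ih =>
    rw [List.nodup_cons] at hL
    obtain ⟨hp, hL'⟩ := hL
    have hpS : p ∉ L.toFinset := by rwa [List.mem_toFinset]
    rw [List.map_cons, csR_cons, ih hL', ih hL', List.toFinset_cons,
      card_filter_powerset_insert _ p hpS]
    congr 1
    · apply congrArg Finset.card
      apply Finset.filter_congr
      intro e he
      rw [Finset.mem_powerset] at he
      have hpe : p ∉ e := fun h => hpS (he h)
      unfold Qp
      rw [Finset.insert_sdiff_of_notMem _ hpe,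
        Finset.sum_insert (fun h => hpS (Finset.mem_sdiff.mp h).1)]
      have e1 : s + (g p).1 + ∑ p ∈ L.toFinset \ e, (g p).1 + ∑ p ∈ e, (g p).2
          = s + ((g p).1 + ∑ p ∈ L.toFinset \ e, (g p).1) + ∑ p ∈ e, (g p).2 := by ring
      rw [e1]
    · apply congrArg Finset.card
      apply Finset.filter_congr
      intro e he
      rw [Finset.mem_powerset] at he
      have hpe : p ∉ e := fun h => hpS (he h)
      unfold Qp
      have e0 : insert p L.toFinset \ insert p e = L.toFinset \ e := by
        ext x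
        simp only [Finset.mem_sdiff, Finset.mem_insert, not_or]
        constructor
        · rintro ⟨h1 | h1, h2, h3⟩
          · exact absurd h1 h2
          · exact ⟨h1, h3⟩
        · rintro ⟨h1, h3⟩
          exact ⟨Or.inr h1, fun h => hpS (h ▸ h1), h3⟩
      rw [e0, Finset.sum_insert hpe, Finset.card_insert_of_notMem hpe]
      have e1 : s + (g p).2 + ∑ p ∈ L.toFinset \ e, (g p).1 + ∑ p ∈ e, (g p).2
          = s + ∑ p ∈ L.toFinset \ e, (g p).1 + ((g p).2 + ∑ p ∈ e, (g p).2) := by ring
      rw [e1]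
      have e2 : xor (!b) (decide (Odd e.card)) = xor b (decide (Odd (e.card + 1))) := by
        have : decide (Odd (e.card + 1)) = !decide (Odd e.card) := by
          by_cases ho : Odd e.card
          · have h1 : ¬ Odd (e.card + 1) := fun h => (Nat.odd_add_one.mp h) ho
            simp [ho, h1]
          · have h1 : Odd (e.card + 1) := Nat.odd_add_one.mpr ho
            simp [ho, h1]
        rw [this]
        cases b <;> cases decide (Odd e.card) <;> rfl
      rw [e2]

theorem cntMaskR_spec (a T : ℕ) (par : Bool) (PN : List (ℕ × ℕ)) (hlen : PN.length = 24) (m : ℕ) :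
    cntMaskR a T par PN m = ((mk m).powerset.filter (fun e => (par = true → Even e.card) ∧
      a * (∑ p ∈ mk m \ e, (gN PN p).1 + ∑ p ∈ e, (gN PN p).2) = T)).card := by
  unfold cntMaskR
  rw [selR_spec (gN PN) PN 0 m [] (gN_pt PN hlen), List.append_nil, ← List.map_reverse, hlen,
    csR_spec a T par (gN PN) _ (List.nodup_reverse.mpr (nodup_ptsFrom (by norm_num))),
    List.toFinset_reverse, toFinset_ptsFrom]
  apply congrArg Finset.card
  apply Finset.filter_congr
  intro e _
  unfold Qp
  rw [Bool.false_xor, zero_add]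
  simp [Nat.not_odd_iff_even]

/-! ### The third family -/

theorem tsumR_cons (x : ℕ × ℕ) (PN : List (ℕ × ℕ)) (m s : ℕ) :
    tsumR (x :: PN) m s = tsumR PN (m / 2) (s + cond (m.testBit 0) x.2 x.1) := by
  rw [← odd_test]
  rfl

theorem jcntR_cons (T' TC : ℕ) (x : ℕ × ℕ) (PN : List (ℕ × ℕ)) (m n : ℕ) :
    jcntR T' TC (x :: PN) m n = jcntR T' TC PN (m / 2)
      (n + cond (Nat.beq (T' + 4 * cond (m.testBit 0) x.1 x.2) TC) 1 0) := by
  rw [← odd_test]
  rfl

theorem beq_cond (A B : ℕ) : cond (Nat.beq A B) 1 0 = if A = B then 1 else 0 := by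
  by_cases h : A = B
  · rw [if_pos h, h, Nat.beq_refl]
    rfl
  · rw [if_neg h]
    have : Nat.beq A B = false := by
      rw [← Bool.not_eq_true, Nat.beq_eq]
      exact h
    rw [this]
    rfl

theorem tsumR_spec (g : GolayPt → ℕ × ℕ) (PN : List (ℕ × ℕ)) (i m s : ℕ)
    (h : ∀ j (hj : j < PN.length), PN[j] = g (pt (i + j))) :
    tsumR PN m s = s + ∑ j ∈ Finset.range PN.length,
      (if m.testBit j = true then (g (pt (i + j))).2 else (g (pt (i + j))).1) := by
  induction PN generalizing i m s with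
  | nil => simp [tsumR]
  | cons x PN ih =>
    have h0 : x = g (pt i) := by
      have := h 0 (by simp)
      simpa using this
    have h' : ∀ j (hj : j < PN.length), PN[j] = g (pt (i + 1 + j)) := by
      intro j hj
      have := h (j + 1) (by simp; omega)
      rw [List.getElem_cons_succ] at this
      rw [this]
      congr 2
      omega
    rw [tsumR_cons, ih (i + 1) (m / 2) _ h', List.length_cons, Finset.sum_range_succ']
    have e1 : ∀ j, (if (m / 2).testBit j = true then (g (pt (i + 1 + j))).2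
        else (g (pt (i + 1 + j))).1)
        = (if m.testBit (j + 1) = true then (g (pt (i + (j + 1)))).2
          else (g (pt (i + (j + 1)))).1) := by
      intro j
      rw [Nat.testBit_add_one, show i + 1 + j = i + (j + 1) by omega]
    simp_rw [e1]
    rw [h0, add_zero]
    cases m.testBit 0 <;> simp <;> ring

theorem jcntR_spec (T' TC : ℕ) (g : GolayPt → ℕ × ℕ) (PN : List (ℕ × ℕ)) (i m n : ℕ)
    (h : ∀ j (hj : j < PN.length), PN[j] = g (pt (i + j))) :
    jcntR T' TC PN m n = n + ∑ j ∈ Finset.range PN.length,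
      (if T' + 4 * (if m.testBit j = true then (g (pt (i + j))).1 else (g (pt (i + j))).2) = TC
        then 1 else 0) := by
  induction PN generalizing i m n with
  | nil => simp [jcntR]
  | cons x PN ih =>
    have h0 : x = g (pt i) := by
      have := h 0 (by simp)
      simpa using this
    have h' : ∀ j (hj : j < PN.length), PN[j] = g (pt (i + 1 + j)) := by
      intro j hj
      have := h (j + 1) (by simp; omega)
      rw [List.getElem_cons_succ] at this
      rw [this]
      congr 2
      omega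
    rw [jcntR_cons, ih (i + 1) (m / 2) _ h', List.length_cons, Finset.sum_range_succ', beq_cond]
    have e1 : ∀ j, (if T' + 4 * (if (m / 2).testBit j = true then (g (pt (i + 1 + j))).1
        else (g (pt (i + 1 + j))).2) = TC then 1 else 0)
        = (if T' + 4 * (if m.testBit (j + 1) = true then (g (pt (i + (j + 1)))).1
          else (g (pt (i + (j + 1)))).2) = TC then 1 else 0) := by
      intro j
      rw [Nat.testBit_add_one, show i + 1 + j = i + (j + 1) by omega]
    simp_rw [e1]
    rw [h0, add_zero]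
    cases m.testBit 0 <;> simp <;> ring

theorem sum_range_pt (F : GolayPt → ℕ) : ∑ j ∈ Finset.range 24, F (pt j) = ∑ p, F p := by
  apply Finset.sum_nbij' (fun j => pt j) (fun p => idx p)
  · intro j _
    exact Finset.mem_univ _
  · intro p _
    exact Finset.mem_range.mpr (idx_lt p)
  · intro j hj
    exact idx_pt (Finset.mem_range.mp hj)
  · intro p _
    exact pt_idx p
  · intro j _
    rfl

theorem cntCmR_spec (TC : ℕ) (PN : List (ℕ × ℕ)) (hlen : PN.length = 24) (m : ℕ) :
    cntCmR TC PN m = (Finset.univ.filter (fun j : GolayPt =>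
      (∑ p, (if p ∈ mk m then (gN PN p).2 else (gN PN p).1))
        + 4 * (if j ∈ mk m then (gN PN j).1 else (gN PN j).2) = TC)).card := by
  unfold cntCmR
  have h1 : tsumR PN m 0 = ∑ p, (if p ∈ mk m then (gN PN p).2 else (gN PN p).1) := by
    rw [tsumR_spec (gN PN) PN 0 m 0 (gN_pt PN hlen), hlen, zero_add,
      ← sum_range_pt (fun p => if p ∈ mk m then (gN PN p).2 else (gN PN p).1)]
    apply Finset.sum_congr rfl
    intro j hj
    rw [zero_add]
    have hj' := Finset.mem_range.mp hj
    have hm : pt j ∈ mk m ↔ m.testBit j = true := by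
      rw [mem_mk, idx_pt hj']
    by_cases hb : m.testBit j = true
    · rw [if_pos hb, if_pos (hm.mpr hb)]
    · rw [if_neg hb, if_neg (fun h => hb (hm.mp h))]
  have h2 : ∀ T : ℕ, jcntR T TC PN m 0 = ∑ p : GolayPt,
      (if T + 4 * (if p ∈ mk m then (gN PN p).1 else (gN PN p).2) = TC then 1 else 0) := by
    intro T
    rw [jcntR_spec T TC (gN PN) PN 0 m 0 (gN_pt PN hlen), hlen, zero_add,
      ← sum_range_pt (fun p => if T + 4 * (if p ∈ mk m then (gN PN p).1 else (gN PN p).2) = TC
        then 1 else 0)]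
    apply Finset.sum_congr rfl
    intro j hj
    rw [zero_add]
    have hj' := Finset.mem_range.mp hj
    have hm : pt j ∈ mk m ↔ m.testBit j = true := by
      rw [mem_mk, idx_pt hj']
    by_cases hb : m.testBit j = true
    · rw [if_pos hb, if_pos (hm.mpr hb)]
    · rw [if_neg hb, if_neg (fun h => hb (hm.mp h))]
  rw [h1, h2, Finset.card_filter]

/-! ### Inner products with the three families -/

theorem dot_shape (φ : GolayPt → ℤ) (a : ℤ) {O e : Finset GolayPt} (he : e ⊆ O) :
    dotInt φ (shape a O e) = a * (∑ p ∈ O \ e, φ p - ∑ p ∈ e, φ p) := by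
  unfold dotInt
  have h1 : ∑ p, φ p * shape a O e p = ∑ p ∈ O, φ p * shape a O e p := by
    symm
    apply Finset.sum_subset (Finset.subset_univ O)
    intro p _ hp
    unfold shape
    rw [if_neg (fun h => hp (he h)), if_neg hp, mul_zero]
  rw [h1, ← Finset.sum_sdiff he]
  have h2 : ∑ p ∈ O \ e, φ p * shape a O e p = ∑ p ∈ O \ e, φ p * a := by
    apply Finset.sum_congr rfl
    intro p hp
    rw [Finset.mem_sdiff] at hp
    unfold shape
    rw [if_neg hp.2, if_pos hp.1]
  have h3 : ∑ p ∈ e, φ p * shape a O e p = ∑ p ∈ e, φ p * (-a) := by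
    apply Finset.sum_congr rfl
    intro p hp
    unfold shape
    rw [if_pos hp]
  rw [h2, h3, ← Finset.sum_mul, ← Finset.sum_mul]
  ring

theorem dot_vec3 (φ : GolayPt → ℤ) (c : Finset GolayPt) (j : GolayPt) :
    dotInt φ (tw c (w3 j)) = (∑ p, (if p ∈ c then -φ p else φ p))
      - 4 * (if j ∈ c then -φ j else φ j) := by
  unfold dotInt
  have h : ∀ p, φ p * tw c (w3 j) p = (if p ∈ c then -φ p else φ p)
      - (if p = j then 4 * (if p ∈ c then -φ p else φ p) else 0) := by
    intro p
    unfold tw w3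
    by_cases hp : p ∈ c
    · by_cases hj : p = j
      · rw [if_pos hp, if_pos hj, if_pos hp, if_pos hj]
        ring
      · rw [if_pos hp, if_neg hj, if_pos hp, if_neg hj]
        ring
    · by_cases hj : p = j
      · rw [if_neg hp, if_pos hj, if_neg hp, if_pos hj]
        ring
      · rw [if_neg hp, if_neg hj, if_neg hp, if_neg hj]
        ring
  simp_rw [h]
  rw [Finset.sum_sub_distrib, Finset.sum_ite_eq' Finset.univ j, if_pos (Finset.mem_univ j)]

/-- The hypothesis relating the list of pairs to the integer vector. -/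
def RepPN (K : ℕ) (PN : List (ℕ × ℕ)) (φ : GolayPt → ℤ) : Prop :=
  ∀ p, ((gN PN p).1 : ℤ) = K + φ p ∧ ((gN PN p).2 : ℤ) = K - φ p

theorem shape_iff {K : ℕ} {PN : List (ℕ × ℕ)} {φ : GolayPt → ℤ} (hPN : RepPN K PN φ) (a : ℕ)
    (a' : ℤ) (ha : (a : ℤ) = a') {O e : Finset GolayPt} (he : e ⊆ O) (t : ℤ) (T : ℕ)
    (hT : (T : ℤ) = t + a * O.card * K) :
    a * (∑ p ∈ O \ e, (gN PN p).1 + ∑ p ∈ e, (gN PN p).2) = T ↔ dotInt φ (shape a' O e) = t := by
  rw [dot_shape φ a' he, ← Nat.cast_inj (R := ℤ), hT, ← ha]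
  push_cast
  have h1 : ∑ p ∈ O \ e, ((gN PN p).1 : ℤ) = (O \ e).card * K + ∑ p ∈ O \ e, φ p := by
    rw [Finset.sum_congr rfl (fun p _ => (hPN p).1), Finset.sum_add_distrib, Finset.sum_const,
      nsmul_eq_mul]
  have h2 : ∑ p ∈ e, ((gN PN p).2 : ℤ) = e.card * K - ∑ p ∈ e, φ p := by
    rw [Finset.sum_congr rfl (fun p _ => (hPN p).2), Finset.sum_sub_distrib, Finset.sum_const,
      nsmul_eq_mul]
  have h3 : ((O \ e).card : ℤ) + e.card - O.card = 0 := by
    have := Finset.card_sdiff_add_card_eq_card he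
    have h4 : (((O \ e).card + e.card : ℕ) : ℤ) = (O.card : ℤ) := by rw [this]
    push_cast at h4
    linarith
  rw [h1, h2]
  constructor
  · intro h
    linear_combination h - (a : ℤ) * K * h3
  · intro h
    linear_combination h + (a : ℤ) * K * h3

theorem vec3_iff {K : ℕ} {PN : List (ℕ × ℕ)} {φ : GolayPt → ℤ} (hPN : RepPN K PN φ)
    (c : Finset GolayPt) (j : GolayPt) (t : ℤ) (TC : ℕ) (hT : (TC : ℤ) = t + 28 * K) :
    (∑ p, (if p ∈ c then (gN PN p).2 else (gN PN p).1))
        + 4 * (if j ∈ c then (gN PN j).1 else (gN PN j).2) = TC ↔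
      dotInt φ (tw c (w3 j)) = t := by
  rw [dot_vec3, ← Nat.cast_inj (R := ℤ), hT]
  push_cast
  have h1 : (∑ p, (if p ∈ c then ((gN PN p).2 : ℤ) else ((gN PN p).1 : ℤ)))
      = 24 * K + ∑ p, (if p ∈ c then -φ p else φ p) := by
    have : ∀ p, (if p ∈ c then ((gN PN p).2 : ℤ) else ((gN PN p).1 : ℤ))
        = K + (if p ∈ c then -φ p else φ p) := by
      intro p
      by_cases hp : p ∈ c
      · rw [if_pos hp, if_pos hp, (hPN p).2]
        ring
      · rw [if_neg hp, if_neg hp, (hPN p).1]
    rw [Finset.sum_congr rfl (fun p _ => this p), Finset.sum_add_distrib, Finset.sum_const,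
      Finset.card_univ, card_golayPt, nsmul_eq_mul]
    norm_num
  have h2 : (if j ∈ c then ((gN PN j).1 : ℤ) else ((gN PN j).2 : ℤ))
      = K - (if j ∈ c then -φ j else φ j) := by
    by_cases hj : j ∈ c
    · rw [if_pos hj, if_pos hj, (hPN j).1]
      ring
    · rw [if_neg hj, if_neg hj, (hPN j).2]
  rw [h1, h2]
  constructor
  · intro h
    linear_combination h
  · intro h
    linear_combination h

/-! ### The decomposition of the set of minimal vectors -/

theorem card_filter_sigma {ι : Type*} {α : ι → Type*} (s : Finset ι) (t : ∀ i, Finset (α i))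
    (Q : Sigma α → Prop) [DecidablePred Q] :
    ((s.sigma t).filter Q).card = ∑ i ∈ s, ((t i).filter (fun a => Q ⟨i, a⟩)).card := by
  rw [Finset.card_filter, Finset.sum_sigma]
  apply Finset.sum_congr rfl
  intro i _
  rw [Finset.card_filter]

theorem card_filter_product {ι κ : Type*} (s : Finset ι) (t : Finset κ)
    (Q : ι × κ → Prop) [DecidablePred Q] :
    ((s ×ˢ t).filter Q).card = ∑ i ∈ s, (t.filter (fun a => Q (i, a))).card := by
  rw [Finset.card_filter, Finset.sum_product]
  apply Finset.sum_congr rfl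
  intro i _
  rw [Finset.card_filter]

open Classical in
theorem ncard_split (P : (GolayPt → ℤ) → Prop) :
    {x : GolayPt → ℤ | x ∈ leechLattice ∧ sqNorm x = 32 ∧ P x}.ncard
      = (∑ p ∈ (Finset.univ : Finset GolayPt).powersetCard 2,
          (p.powerset.filter (fun e => P (shape 4 p e))).card)
      + (∑ O ∈ octF, ((O.powerset.filter (fun e => Even e.card)).filter
          (fun e => P (shape 2 O e))).card)
      + (∑ c ∈ cwF, (Finset.univ.filter (fun j => P (tw c (w3 j)))).card) := by
  have h1 : {x : GolayPt → ℤ | x ∈ leechLattice ∧ sqNorm x = 32 ∧ P x}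
      = ↑((FA ∪ FB ∪ FC).filter P) := by
    ext x
    have h := Set.ext_iff.mp set_eq x
    rw [Finset.coe_filter]
    constructor
    · rintro ⟨a, b, c⟩
      exact ⟨h.mp ⟨a, b⟩, c⟩
    · rintro ⟨a, c⟩
      have := h.mpr a
      exact ⟨this.1, this.2, c⟩
  have dAB : Disjoint (FA.filter P) (FB.filter P) := Finset.disjoint_filter_filter disj_AB
  have dC : Disjoint (FA.filter P ∪ FB.filter P) (FC.filter P) := by
    rw [Finset.disjoint_union_left]
    exact ⟨Finset.disjoint_filter_filter disj_AC, Finset.disjoint_filter_filter disj_BC⟩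
  rw [h1, Set.ncard_coe_finset, Finset.filter_union, Finset.filter_union,
    Finset.card_union_of_disjoint dC, Finset.card_union_of_disjoint dAB]
  refine congrArg₂ (· + ·) (congrArg₂ (· + ·) ?_ ?_) ?_
  · unfold FA
    rw [Finset.filter_image, Finset.card_image_of_injOn]
    · unfold PA
      exact card_filter_sigma _ _ _
    · rintro ⟨p, e⟩ hx ⟨p', e'⟩ hx' h
      rw [Finset.coe_filter] at hx hx'
      have k1 := mem_PA.mp hx.1
      have k2 := mem_PA.mp hx'.1
      obtain ⟨rfl, rfl⟩ := shape_inj (by norm_num) k1.2 k2.2 h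
      rfl
  · unfold FB
    rw [Finset.filter_image, Finset.card_image_of_injOn]
    · unfold PB
      exact card_filter_sigma _ _ _
    · rintro ⟨p, e⟩ hx ⟨p', e'⟩ hx' h
      rw [Finset.coe_filter] at hx hx'
      have k1 := mem_PB.mp hx.1
      have k2 := mem_PB.mp hx'.1
      obtain ⟨rfl, rfl⟩ := shape_inj (by norm_num) k1.2.1 k2.2.1 h
      rfl
  · unfold FC
    rw [Finset.filter_image, Finset.card_image_of_injOn]
    · unfold PC
      exact card_filter_product _ _ _
    · rintro ⟨c, j⟩ _ ⟨c', j'⟩ _ h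
      obtain ⟨rfl, rfl⟩ := vec3_inj h
      rfl

/-! ### The census -/

/-- The number of minimal vectors having inner product `t` with `φ` is the computed census. -/
theorem census_spec (K : ℕ) (PN : List (ℕ × ℕ)) (hlen : PN.length = 24) (φ : GolayPt → ℤ)
    (hPN : RepPN K PN φ) (t : ℤ) (TA TB TC : ℕ) (hA : (TA : ℤ) = t + 8 * K)
    (hB : (TB : ℤ) = t + 16 * K) (hC : (TC : ℤ) = t + 28 * K) :
    {x : GolayPt → ℤ | x ∈ leechLattice ∧ sqNorm x = 32 ∧ dotInt φ x = t}.ncard
      = censusN PN TA TB TC := by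
  classical
  rw [ncard_split (fun x => dotInt φ x = t)]
  unfold censusN cntAN cntBN cntCN
  refine congrArg₂ (· + ·) (congrArg₂ (· + ·) ?_ ?_) ?_
  · rw [sum_masks pairMasks pairMasks_nodup (fun m hm => (pairMasks_spec m hm).1) _
      mem_pairs_iff]
    apply congrArg List.sum
    apply List.map_congr_left
    intro m hm
    rw [cntMaskR_spec 4 TA false PN hlen m]
    apply congrArg Finset.card
    ext e
    simp only [Finset.mem_filter, Finset.mem_powerset]
    apply and_congr_right
    intro he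
    have hcard : (mk m).card = 2 := by rw [card_mk, (pairMasks_spec m hm).2]
    rw [shape_iff hPN 4 4 (by norm_num) he t TA (by rw [hA, hcard]; push_cast; ring)]
    simp
  · rw [sum_masks octLit octLit_nodup octLit_lt _ mem_octF_iff]
    apply congrArg List.sum
    apply List.map_congr_left
    intro m hm
    rw [cntMaskR_spec 2 TB true PN hlen m, Finset.filter_filter]
    apply congrArg Finset.card
    ext e
    simp only [Finset.mem_filter, Finset.mem_powerset]
    apply and_congr_right
    intro he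
    have hcard : (mk m).card = 8 :=
      (mem_octF.mp ((mem_octF_iff (mk m)).mpr ⟨m, hm, rfl⟩)).2
    rw [shape_iff hPN 2 2 (by norm_num) he t TB (by rw [hB, hcard]; push_cast; ring)]
    simp
  · rw [sum_masks codeList codeList_nodup codeList_lt _ mem_cwF_iff]
    apply congrArg List.sum
    apply List.map_congr_left
    intro m hm
    rw [cntCmR_spec TC PN hlen m]
    apply congrArg Finset.card
    ext j
    simp only [Finset.mem_filter, Finset.mem_univ, true_and]
    rw [vec3_iff hPN (mk m) j t TC hC]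

/-! ### Several inner products at once -/

theorem abs_le_sq (a : ℤ) : |a| ≤ a ^ 2 := by
  rcases eq_or_ne a 0 with rfl | h
  · simp
  · have h1 : 1 ≤ |a| := Int.one_le_abs h
    have h2 : a ^ 2 = |a| * |a| := by
      rw [← sq_abs]
      ring
    nlinarith

theorem abs_dot_le (u x : GolayPt → ℤ) (hu : ∀ p, |u p| ≤ 8) (hx : sqNorm x = 32) :
    |dotInt u x| ≤ 256 := by
  unfold dotInt
  have h1 : |∑ p, u p * x p| ≤ ∑ p, |u p * x p| := Finset.abs_sum_le_sum_abs _ _
  have h2 : ∑ p, |u p * x p| ≤ ∑ p, 8 * x p ^ 2 := by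
    apply Finset.sum_le_sum
    intro p _
    rw [abs_mul]
    have a1 := hu p
    have a2 := abs_le_sq (x p)
    have a3 := abs_nonneg (x p)
    have a4 := abs_nonneg (u p)
    nlinarith
  rw [← Finset.mul_sum] at h2
  unfold sqNorm at hx
  rw [hx] at h2
  linarith

theorem dot_pack3 (u1 u2 u3 x : GolayPt → ℤ) :
    dotInt (fun p => u1 p + 10000 * u2 p + 100000000 * u3 p) x
      = dotInt u1 x + 10000 * dotInt u2 x + 100000000 * dotInt u3 x := by
  unfold dotInt
  rw [Finset.mul_sum, Finset.mul_sum, ← Finset.sum_add_distrib, ← Finset.sum_add_distrib]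
  apply Finset.sum_congr rfl
  intro p _
  ring

theorem pack3 (u1 u2 u3 : GolayPt → ℤ) (h1 : ∀ p, |u1 p| ≤ 8) (h2 : ∀ p, |u2 p| ≤ 8)
    (h3 : ∀ p, |u3 p| ≤ 8) (x : GolayPt → ℤ) (hx : sqNorm x = 32) (t1 t2 t3 : ℤ)
    (ht1 : |t1| ≤ 1000) (ht2 : |t2| ≤ 1000) (ht3 : |t3| ≤ 1000) :
    dotInt (fun p => u1 p + 10000 * u2 p + 100000000 * u3 p) x
        = t1 + 10000 * t2 + 100000000 * t3 ↔
      (dotInt u1 x = t1 ∧ dotInt u2 x = t2 ∧ dotInt u3 x = t3) := by
  rw [dot_pack3]
  have a1 := abs_le.mp (abs_dot_le u1 x h1 hx)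
  have a2 := abs_le.mp (abs_dot_le u2 x h2 hx)
  have a3 := abs_le.mp (abs_dot_le u3 x h3 hx)
  have b1 := abs_le.mp ht1
  have b2 := abs_le.mp ht2
  have b3 := abs_le.mp ht3
  constructor
  · intro h
    refine ⟨?_, ?_, ?_⟩ <;> omega
  · rintro ⟨e1, e2, e3⟩
    rw [e1, e2, e3]

/-- The census for three simultaneous inner products. -/
theorem census3 (K : ℕ) (PN : List (ℕ × ℕ)) (hlen : PN.length = 24) (u1 u2 u3 : GolayPt → ℤ)
    (h1 : ∀ p, |u1 p| ≤ 8) (h2 : ∀ p, |u2 p| ≤ 8) (h3 : ∀ p, |u3 p| ≤ 8)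
    (hPN : RepPN K PN (fun p => u1 p + 10000 * u2 p + 100000000 * u3 p)) (t1 t2 t3 : ℤ)
    (ht1 : |t1| ≤ 1000) (ht2 : |t2| ≤ 1000) (ht3 : |t3| ≤ 1000) (TA TB TC : ℕ)
    (hA : (TA : ℤ) = (t1 + 10000 * t2 + 100000000 * t3) + 8 * K)
    (hB : (TB : ℤ) = (t1 + 10000 * t2 + 100000000 * t3) + 16 * K)
    (hC : (TC : ℤ) = (t1 + 10000 * t2 + 100000000 * t3) + 28 * K) :
    {x : GolayPt → ℤ | x ∈ leechLattice ∧ sqNorm x = 32 ∧ dotInt u1 x = t1 ∧ dotInt u2 x = t2
      ∧ dotInt u3 x = t3}.ncard = censusN PN TA TB TC := by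
  rw [← census_spec K PN hlen _ hPN _ TA TB TC hA hB hC]
  congr 1
  ext x
  simp only [Set.mem_setOf_eq]
  constructor
  · rintro ⟨a, b, c⟩
    exact ⟨a, b, (pack3 u1 u2 u3 h1 h2 h3 x b t1 t2 t3 ht1 ht2 ht3).mpr c⟩
  · rintro ⟨a, b, c⟩
    exact ⟨a, b, (pack3 u1 u2 u3 h1 h2 h3 x b t1 t2 t3 ht1 ht2 ht3).mp c⟩

/-- The census for two simultaneous inner products. -/
theorem census2 (K : ℕ) (PN : List (ℕ × ℕ)) (hlen : PN.length = 24) (u1 u2 : GolayPt → ℤ)
    (h1 : ∀ p, |u1 p| ≤ 8) (h2 : ∀ p, |u2 p| ≤ 8)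
    (hPN : RepPN K PN (fun p => u1 p + 10000 * u2 p + 100000000 * 0)) (t1 t2 : ℤ)
    (ht1 : |t1| ≤ 1000) (ht2 : |t2| ≤ 1000) (TA TB TC : ℕ)
    (hA : (TA : ℤ) = (t1 + 10000 * t2 + 100000000 * 0) + 8 * K)
    (hB : (TB : ℤ) = (t1 + 10000 * t2 + 100000000 * 0) + 16 * K)
    (hC : (TC : ℤ) = (t1 + 10000 * t2 + 100000000 * 0) + 28 * K) :
    {x : GolayPt → ℤ | x ∈ leechLattice ∧ sqNorm x = 32 ∧ dotInt u1 x = t1
      ∧ dotInt u2 x = t2}.ncard = censusN PN TA TB TC := by
  have h0 : ∀ x : GolayPt → ℤ, dotInt (fun _ => (0 : ℤ)) x = 0 := by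
    intro x
    unfold dotInt
    simp
  rw [← census3 K PN hlen u1 u2 (fun _ => 0) h1 h2 (by intro p; simp) hPN t1 t2 0 ht1 ht2
    (by simp) TA TB TC hA hB hC]
  congr 1
  ext x
  simp only [Set.mem_setOf_eq, h0, and_true]

/-- Sets of lattice elements and sets of vectors. -/
theorem ncard_subtype (P : (GolayPt → ℤ) → Prop) :
    {x : ↥leechLattice | P (x : GolayPt → ℤ)}.ncard
      = {x : GolayPt → ℤ | x ∈ leechLattice ∧ P x}.ncard := by
  rw [← Set.ncard_image_of_injective _ Subtype.val_injective]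
  congr 1
  ext x
  simp only [Set.mem_image, Set.mem_setOf_eq]
  constructor
  · rintro ⟨y, hy, rfl⟩
    exact ⟨y.2, hy⟩
  · rintro ⟨hx, hP⟩
    exact ⟨⟨x, hx⟩, hP, rfl⟩

end Cfsg.Agent.Lib.Helper92.CensusSpec
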