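import Mathlib
import Cfsg.Prelude.Def_Sporadic_a
import Cfsg.Prelude.Def_SporadicCombinatorics
import Cfsg.Agent.Lib.Helper92.CensusSpec
import Cfsg.Agent.Lib.Helper92.Pairs

/-!
Counting minimal vectors of the rank-24 lattice by their inner product with a fixed minimal
vector: transport along automorphisms and the computed census for the standard vector.
-/

set_option autoImplicit false

namespace Cfsg.Agent.Lib.Helper92.Counts

open Cfsg Cfsg.Agent.Lib.Helper92.LeechCore
open Cfsg.Agent.Lib.Helper92.Census Cfsg.Agent.Lib.Helper92.CensusSpec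
open Cfsg.Agent.Lib.Helper92.ActQ Cfsg.Agent.Lib.Helper92.Frames Cfsg.Agent.Lib.Helper92.Pairs
open Cfsg.Agent.Lib.Helper7.GolayBase

/-- Transport of a count along an automorphism. -/
theorem ncard_transport (g : ↥Co0) (P Q : ↥leechLattice → Prop) (h : ∀ w, P w ↔ Q (g • w)) :
    {w | P w}.ncard = {w | Q w}.ncard := by
  rw [← Set.ncard_image_of_injective {w | P w} (MulAction.injective g)]
  congr 1
  ext w
  simp only [Set.mem_image, Set.mem_setOf_eq]
  constructor
  · rintro ⟨w0, hw0, rfl⟩
    exact (h w0).mp hw0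
  · intro hw
    exact ⟨g⁻¹ • w, (h _).mpr (by rwa [smul_inv_smul]), smul_inv_smul g w⟩

/-- The count of minimal vectors with a given inner product with a minimal vector does not
depend on the minimal vector. -/
theorem count_min_eq (v : GolayPt → ℤ) (hv : v ∈ leechLattice) (hn : sqNorm v = 32) (d : ℤ) :
    {w : GolayPt → ℤ | w ∈ leechLattice ∧ sqNorm w = 32 ∧ dotInt v w = d}.ncard
      = {w : GolayPt → ℤ | w ∈ leechLattice ∧ sqNorm w = 32 ∧
          dotInt ((V0 : ↥leechLattice) : GolayPt → ℤ) w = d}.ncard := by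
  obtain ⟨g, hg⟩ := trans32 ⟨v, hv⟩ V0 hn V0_norm
  rw [← ncard_subtype (fun w => sqNorm w = 32 ∧ dotInt v w = d),
    ← ncard_subtype (fun w => sqNorm w = 32 ∧ dotInt ((V0 : ↥leechLattice) : GolayPt → ℤ) w = d)]
  apply ncard_transport g
  intro w
  rw [sqNorm_smul, ← hg, dot_smul]

/-- The standard minimal vector as a list of pairs. -/
def PNV0 : List (ℕ × ℕ) :=
  [(1004, 996), (1000, 1000), (1000, 1000), (1000, 1000), (1000, 1000), (1000, 1000),
   (1000, 1000), (1000, 1000), (1000, 1000), (1000, 1000), (1000, 1000), (1000, 1000),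
   (1000, 1000), (1000, 1000), (1000, 1000), (1000, 1000), (1000, 1000), (1000, 1000),
   (1000, 1000), (1000, 1000), (1000, 1000), (1000, 1000), (1000, 1000), (1004, 996)]

theorem repV0 : RepPN 1000 PNV0 ((V0 : ↥leechLattice) : GolayPt → ℤ) := by
  unfold RepPN
  decide +kernel

theorem cV0_16 : censusN PNV0 7984 15984 27984 = 4600 := by decide +kernel

theorem cV0_8 : censusN PNV0 7992 15992 27992 = 47104 := by decide +kernel

theorem cV0_0 : censusN PNV0 8000 16000 28000 = 93150 := by decide +kernel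

theorem count_min_16 (v : GolayPt → ℤ) (hv : v ∈ leechLattice) (hn : sqNorm v = 32) :
    {w : GolayPt → ℤ | w ∈ leechLattice ∧ sqNorm w = 32 ∧ dotInt v w = -16}.ncard = 4600 := by
  rw [count_min_eq v hv hn, census_spec 1000 PNV0 rfl _ repV0 (-16) 7984 15984 27984
    (by norm_num) (by norm_num) (by norm_num)]
  exact cV0_16

theorem count_min_8 (v : GolayPt → ℤ) (hv : v ∈ leechLattice) (hn : sqNorm v = 32) :
    {w : GolayPt → ℤ | w ∈ leechLattice ∧ sqNorm w = 32 ∧ dotInt v w = -8}.ncard = 47104 := by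
  rw [count_min_eq v hv hn, census_spec 1000 PNV0 rfl _ repV0 (-8) 7992 15992 27992
    (by norm_num) (by norm_num) (by norm_num)]
  exact cV0_8

theorem count_min_0 (v : GolayPt → ℤ) (hv : v ∈ leechLattice) (hn : sqNorm v = 32) :
    {w : GolayPt → ℤ | w ∈ leechLattice ∧ sqNorm w = 32 ∧ dotInt v w = 0}.ncard = 93150 := by
  rw [count_min_eq v hv hn, census_spec 1000 PNV0 rfl _ repV0 0 8000 16000 28000
    (by norm_num) (by norm_num) (by norm_num)]
  exact cV0_0

end Cfsg.Agent.Lib.Helper92.Counts
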