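import Mathlib
import Cfsg.Agent.Lib.Helper92.M11Stmt
import Cfsg.Agent.Lib.Helper17.ExcCor
import Cfsg.Agent.Lib.Helper17.ExcSimple
import Cfsg.Agent.Lib.Helper17.Sylow
import Cfsg.Agent.Lib.CT.Orth
import Cfsg.Agent.S4478

/-!
# Simple groups of order 7920: basic consequences of the list of characters
(vanishing of the characters of defect zero, the two column orthogonality relations)
-/

set_option autoImplicit false
set_option linter.style.haveILetI false

namespace Cfsg.Agent.Lib.Helper92.M11Base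

open Cfsg Cfsg.Agent.Lib.Helper17.ExcMain Cfsg.Agent.Lib.Helper17.ExcCor
open Cfsg.Agent.Lib.Helper92.M11Stmt
open scoped ComplexConjugate

universe u

theorem fact2 : (7920 : ℕ).factorization 2 = 4 := by
  have h : (7920 : ℕ) = 2 ^ 4 * 495 := by norm_num
  rw [h, Nat.factorization_mul (by norm_num) (by norm_num),
    Nat.Prime.factorization_pow (by norm_num)]
  simp
  exact Nat.factorization_eq_zero_of_not_dvd (by norm_num)

theorem fact3 : (7920 : ℕ).factorization 3 = 2 := by
  have h : (7920 : ℕ) = 3 ^ 2 * 880 := by norm_num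
  rw [h, Nat.factorization_mul (by norm_num) (by norm_num),
    Nat.Prime.factorization_pow (by norm_num)]
  simp
  exact Nat.factorization_eq_zero_of_not_dvd (by norm_num)

variable {G : Type u} [Group G] [Finite G]

/-- The characters of degree 16 vanish on the elements of even order. -/
theorem th_vanish (hG : Nat.card G = 7920) (D : Chars G) (i : Fin 2) (x : G)
    (hx : 2 ∣ orderOf x) : (D.th i : G → ℂ) x = 0 :=
  Cfsg.Agent.S4478.vanish (D.th i) 2 Nat.prime_two
    (by rw [hG, fact2, D.hth i]; norm_num) x hx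

/-- The character of degree 45 vanishes on the elements of order divisible by 3. -/
theorem e_vanish (hG : Nat.card G = 7920) (D : Chars G) (x : G)
    (hx : 3 ∣ orderOf x) : (D.e : G → ℂ) x = 0 :=
  Cfsg.Agent.S4478.vanish D.e 3 Nat.prime_three
    (by rw [hG, fact3, D.he]; norm_num) x hx

/-- Column orthogonality with the identity. -/
theorem orth_one (D : Chars G) (x : G) (hx : x ≠ 1) :
    1 + 10 * ((D.a 0 : G → ℂ) x + (D.a 1 : G → ℂ) x + (D.a 2 : G → ℂ) x)
      + 11 * (D.b : G → ℂ) x + 16 * ((D.th 0 : G → ℂ) x + (D.th 1 : G → ℂ) x)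
      + 44 * (D.d : G → ℂ) x + 45 * (D.e : G → ℂ) x + 55 * (D.f : G → ℂ) x = 0 := by
  have h := Cfsg.Agent.Lib.CT.Orth.sum_apply_one_mul_of_ne x hx
  rw [D.sum_eq] at h
  simp only [trivIrr_apply] at h
  simp only [deg_eq, D.ha, D.hb, D.hth, D.hd, D.he, D.hf] at h
  push_cast at h
  linear_combination h

/-- Column orthogonality of a column with itself. -/
theorem orth_self (D : Chars G) (x : G) :
    (Nat.card (Subgroup.centralizer ({x} : Set G)) : ℝ)
      = 1 + Complex.normSq ((D.a 0 : G → ℂ) x) + Complex.normSq ((D.a 1 : G → ℂ) x)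
        + Complex.normSq ((D.a 2 : G → ℂ) x) + Complex.normSq ((D.b : G → ℂ) x)
        + Complex.normSq ((D.th 0 : G → ℂ) x) + Complex.normSq ((D.th 1 : G → ℂ) x)
        + Complex.normSq ((D.d : G → ℂ) x) + Complex.normSq ((D.e : G → ℂ) x)
        + Complex.normSq ((D.f : G → ℂ) x) := by
  have h := Cfsg.Agent.Lib.CT.Orth.second_orthogonality_of_isConj x x (IsConj.refl x)
  rw [D.sum_eq] at h
  simp only [trivIrr_apply, Complex.mul_conj] at h
  have h2 : ((Nat.card (Subgroup.centralizer ({x} : Set G)) : ℝ) : ℂ)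
      = ((1 + Complex.normSq ((D.a 0 : G → ℂ) x) + Complex.normSq ((D.a 1 : G → ℂ) x)
        + Complex.normSq ((D.a 2 : G → ℂ) x) + Complex.normSq ((D.b : G → ℂ) x)
        + Complex.normSq ((D.th 0 : G → ℂ) x) + Complex.normSq ((D.th 1 : G → ℂ) x)
        + Complex.normSq ((D.d : G → ℂ) x) + Complex.normSq ((D.e : G → ℂ) x)
        + Complex.normSq ((D.f : G → ℂ) x) : ℝ) : ℂ) := by
    push_cast
    rw [← h]
    simp
    ring
  exact_mod_cast h2

end Cfsg.Agent.Lib.Helper92.M11Base
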