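import Mathlib
import Cfsg.Agent.Lib.Helper92.M11Stmt
import Cfsg.Agent.Lib.Helper92.M11Base

/-!
# Simple groups of order 7920: the normalizer of a Sylow 3-subgroup has order 144
(assembly of the pieces)
-/

set_option autoImplicit false
set_option linter.style.haveILetI false
set_option maxHeartbeats 1000000

namespace Cfsg.Agent.Lib.Helper92.M11Asm4

open Cfsg Cfsg.Agent.Lib.Helper17.ExcMain Cfsg.Agent.Lib.Helper17.ExcCor
open Cfsg.Agent.Lib.Helper92.M11Stmt Cfsg.Agent.Lib.Helper92.M11Base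
open scoped ComplexConjugate

universe u

/-- An element of order 3 is not centralized by a subgroup of order 4. -/
theorem cent_three (hEx : ExistsChars.{u}) (h11 : Rel11.{u}) (h5 : Rel5.{u})
    (hDiv : CentDvd.{u}) (hM4 : Mult4.{u}) (hI3 : Ineq3)
    {G : Type u} [Group G] [Finite G] [IsSimpleGroup G] (hG : Nat.card G = 7920) (y : G)
    (hy : orderOf y = 3) : ¬ 4 ∣ Nat.card (Subgroup.centralizer ({y} : Set G)) := by
  classical
  intro h4
  obtain ⟨D⟩ := hEx G hG
  have hy1 : y ≠ 1 := by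
    rintro rfl
    rw [orderOf_one] at hy
    omega
  have hy3 : y ^ 3 = 1 := by rw [← hy]; exact pow_orderOf_eq_one y
  have hN144 := hDiv G hG y hy1 (by rw [hy]; norm_num) (by rw [hy]; norm_num)
  haveI : Fact (Nat.Prime 2) := ⟨Nat.prime_two⟩
  obtain ⟨S⟩ : Nonempty (Sylow 2 (Subgroup.centralizer ({y} : Set G))) := inferInstance
  obtain ⟨T, hT⟩ : ∃ T : Subgroup G,
      T = (S : Subgroup (Subgroup.centralizer ({y} : Set G))).map
        (Subgroup.centralizer ({y} : Set G)).subtype := ⟨_, rfl⟩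
  have hcardT : Nat.card T = Nat.card (S : Subgroup (Subgroup.centralizer ({y} : Set G))) := by
    rw [hT]
    exact Subgroup.card_map_of_injective (Subgroup.subtype_injective _)
  obtain ⟨j, hj⟩ := IsPGroup.iff_card.mp S.isPGroup'
  have hidx : ¬ 2 ∣ (S : Subgroup (Subgroup.centralizer ({y} : Set G))).index := S.not_dvd_index
  have hmul := Subgroup.card_mul_index (S : Subgroup (Subgroup.centralizer ({y} : Set G)))
  obtain ⟨q, hq⟩ : ∃ q : ℕ, q = Nat.card T := ⟨_, rfl⟩
  obtain ⟨r, hr⟩ : ∃ r : ℕ,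
      r = (S : Subgroup (Subgroup.centralizer ({y} : Set G))).index := ⟨_, rfl⟩
  obtain ⟨N, hN⟩ : ∃ N : ℕ, N = Nat.card (Subgroup.centralizer ({y} : Set G)) := ⟨_, rfl⟩
  rw [← hcardT, ← hq, ← hr, ← hN] at hmul
  rw [← hr] at hidx
  rw [← hN] at h4 hN144
  have hrodd : Nat.Coprime r 2 := by
    rw [Nat.coprime_comm]
    exact (Nat.Prime.coprime_iff_not_dvd Nat.prime_two).mpr hidx
  have hq4 : 4 ∣ q := by
    have h1 : Nat.Coprime 4 r := by
      have : Nat.Coprime (2 ^ 2) r := Nat.Coprime.pow_left 2 hrodd.symm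
      simpa using this
    exact h1.dvd_of_dvd_mul_right (by rw [hmul]; exact h4)
  have hq4' : 4 ≤ q := by
    have hqpos : 0 < q := by rw [hq]; exact Nat.card_pos
    exact Nat.le_of_dvd hqpos hq4
  have hr9 : r ∣ 9 := by
    have h1 : r ∣ 16 * 9 := (Dvd.intro_left q hmul).trans hN144
    have h2 : Nat.Coprime r 16 := by
      have : Nat.Coprime r (2 ^ 4) := Nat.Coprime.pow_right 4 hrodd
      simpa using this
    exact h2.dvd_of_dvd_mul_left h1
  have hN9 : N ≤ 9 * q := by
    have hr9' : r ≤ 9 := Nat.le_of_dvd (by norm_num) hr9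
    rw [← hmul]
    nlinarith
  -- the elements of `T` commute with `y`, and the character of degree 16 vanishes on `y ^ k * s`
  have hcomm : ∀ s ∈ T, Commute s y := by
    intro s hs
    rw [hT] at hs
    obtain ⟨s', -, rfl⟩ := Subgroup.mem_map.mp hs
    exact (Subgroup.mem_centralizer_iff.mp s'.2 y (Set.mem_singleton y)).symm
  have hvan : ∀ s ∈ T, s ≠ 1 → ∀ k : ℕ, (D.th 0 : G → ℂ) (y ^ k * s) = 0 := by
    intro s hs hs1 k
    apply th_vanish hG D 0
    have hc0 : Commute (y ^ k) s := ((hcomm s hs).symm).pow_left k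
    rw [hT] at hs
    obtain ⟨s', hs'S, rfl⟩ := Subgroup.mem_map.mp hs
    have hc : Commute (y ^ k) ((s' : Subgroup.centralizer ({y} : Set G)) : G) := hc0
    show 2 ∣ orderOf (y ^ k * ((s' : Subgroup.centralizer ({y} : Set G)) : G))
    obtain ⟨m, hm⟩ := S.isPGroup' ⟨s', hs'S⟩
    have hm' : ((s' : Subgroup.centralizer ({y} : Set G)) : G) ^ 2 ^ m = 1 := by
      have h1 := congrArg (fun z : (S : Subgroup (Subgroup.centralizer ({y} : Set G))) =>
        ((z : Subgroup.centralizer ({y} : Set G)) : G)) hm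
      simpa using h1
    obtain ⟨i, -, hi⟩ := (Nat.dvd_prime_pow Nat.prime_two).mp (orderOf_dvd_of_pow_eq_one hm')
    have hi0 : i ≠ 0 := by
      rintro rfl
      rw [pow_zero, orderOf_eq_one_iff] at hi
      exact hs1 hi
    have h2s : 2 ∣ orderOf ((s' : Subgroup.centralizer ({y} : Set G)) : G) := by
      rw [hi]
      exact dvd_pow_self 2 hi0
    have hw3 : (y ^ k * ((s' : Subgroup.centralizer ({y} : Set G)) : G)) ^ 3
        = ((s' : Subgroup.centralizer ({y} : Set G)) : G) ^ 3 := by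
      rw [hc.mul_pow, ← pow_mul, mul_comm k 3, pow_mul, hy3, one_pow, one_mul]
    have hcop : Nat.Coprime (orderOf ((s' : Subgroup.centralizer ({y} : Set G)) : G)) 3 := by
      rw [hi]
      exact Nat.Coprime.pow_left i (by norm_num)
    have h3 : orderOf (((s' : Subgroup.centralizer ({y} : Set G)) : G) ^ 3)
        = orderOf ((s' : Subgroup.centralizer ({y} : Set G)) : G) := hcop.orderOf_pow
    have h4 : orderOf ((y ^ k * ((s' : Subgroup.centralizer ({y} : Set G)) : G)) ^ 3)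
        ∣ orderOf (y ^ k * ((s' : Subgroup.centralizer ({y} : Set G)) : G)) := orderOf_pow_dvd 3
    rw [hw3, h3] at h4
    exact h2s.trans h4
  obtain ⟨n0, n1, n2, hsum, hnorm⟩ := hM4 G (D.th 0 : G → ℂ)
    (Cfsg.Agent.Lib.CT.Wedderburn.isCharacter_of_irr (D.th 0).2) y T hy hcomm hvan
  rw [← hq] at hsum hnorm
  rw [deg_eq, D.hth 0] at hsum
  have hsum' : q * (n0 + n1 + n2) = 16 := by
    have h1 : ((q * (n0 + n1 + n2) : ℕ) : ℂ) = ((16 : ℕ) : ℂ) := by
      push_cast
      rw [← hsum]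
      norm_num
    exact_mod_cast h1
  obtain ⟨hthe, hr11⟩ := h11 G hG D y (by rw [hy]; norm_num)
  have hr5 := h5 G hG D y (by rw [hy]; norm_num)
  have hev := e_vanish hG D y (by rw [hy])
  have ho2 := orth_one D y hy1
  have ho1 := orth_self D y
  rw [← hN] at ho1
  refine hI3 ((D.a 0 : G → ℂ) y) ((D.a 1 : G → ℂ) y) ((D.a 2 : G → ℂ) y) ((D.b : G → ℂ) y)
    ((D.th 0 : G → ℂ) y) ((D.d : G → ℂ) y) ((D.f : G → ℂ) y) N q n0 n1 n2 ?_ ?_ ?_ ?_ hsum'
    hnorm hq4' hN9
  · rw [hev] at hr11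
    linear_combination hr11
  · rw [← hthe] at hr5
    linear_combination -hr5
  · rw [← hthe, hev] at ho2
    linear_combination ho2
  · rw [← hthe, hev, map_zero] at ho1
    linarith

theorem s0434_of (hEx : ExistsChars.{u}) (h11 : Rel11.{u}) (h5 : Rel5.{u})
    (hDiv : CentDvd.{u}) (hNorm : NormDvd.{u}) (hM4 : Mult4.{u}) (hI3 : Ineq3)
    (hTI : SylTI.{u}) (hCong : SylCong.{u})
    {G : Type u} [Group G] [Finite G] [IsSimpleGroup G] (hG : Nat.card G = 7920)
    (P : Sylow 3 G) : Nat.card (Subgroup.normalizer ((P : Subgroup G) : Set G)) = 144 := by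
  classical
  have hC := hDiv G hG
  have h3 : ∀ y : G, orderOf y = 3 → ¬ 4 ∣ Nat.card (Subgroup.centralizer ({y} : Set G)) :=
    fun y hy => cent_three hEx h11 h5 hDiv hM4 hI3 hG y hy
  have hti := hTI G hG hC h3
  haveI : Fact (Nat.Prime 3) := ⟨Nat.prime_three⟩
  have hcong := hCong G 3 P (fun Q hQ => hti P Q (Ne.symm hQ))
  have hP9 : Nat.card (P : Subgroup G) = 9 := by
    have := Cfsg.Agent.Lib.Helper17.Sylow.card_sylow_subgroup (p := 3) (k := 2) (m := 880)
      (by rw [hG]; norm_num) (by norm_num) P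
    simpa using this
  have hnorm := hNorm G hG hC P
  have hidx : Nat.card (Sylow 3 G)
      = (Subgroup.normalizer ((P : Subgroup G) : Set G)).index :=
    Sylow.card_eq_index_normalizer P
  have hmul := Subgroup.card_mul_index (Subgroup.normalizer ((P : Subgroup G) : Set G))
  have h9 : 9 ∣ Nat.card (Subgroup.normalizer ((P : Subgroup G) : Set G)) := by
    rw [← hP9]
    exact Subgroup.card_dvd_of_le Subgroup.le_normalizer
  rw [hP9, hidx] at hcong
  rw [hG] at hmul
  obtain ⟨M, hM⟩ : ∃ M : ℕ, M = Nat.card (Subgroup.normalizer ((P : Subgroup G) : Set G)) :=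
    ⟨_, rfl⟩
  obtain ⟨n, hn⟩ : ∃ n : ℕ, n = (Subgroup.normalizer ((P : Subgroup G) : Set G)).index :=
    ⟨_, rfl⟩
  rw [← hM] at hnorm hmul h9 ⊢
  rw [← hn] at hcong hmul
  have hmod : n % 9 = 1 := hcong
  obtain ⟨m', rfl⟩ := h9
  have hm16 : m' ∣ 16 := Nat.dvd_of_mul_dvd_mul_left (by norm_num : 0 < 9) (by simpa using hnorm)
  have hm'le : m' ≤ 16 := Nat.le_of_dvd (by norm_num) hm16
  interval_cases m' <;> omega

end Cfsg.Agent.Lib.Helper92.M11Asm4
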