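import Mathlib
import Cfsg.Agent.Lib.Helper92.M11Stmt
import Cfsg.Agent.Lib.Helper68.M11Deg

/-!
# Simple groups of order 7920: piece [EX], the nine non-trivial irreducible characters
-/

set_option autoImplicit false
set_option linter.style.haveILetI false

namespace Cfsg.Agent.Lib.Helper92.M11EX

open Cfsg Cfsg.Agent.Lib.Helper17.ExcMain Cfsg.Agent.Lib.Helper92.M11Stmt

universe u

theorem main : Cfsg.Agent.Lib.Helper92.M11Stmt.ExistsChars.{u} := by
  intro G _ _ _ hG
  classical
  haveI : Finite (IrrCharacter G) := Cfsg.Agent.Lib.CT.Wedderburn.finite_irrCharacter G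
  haveI : Fintype (IrrCharacter G) := Fintype.ofFinite _
  obtain ⟨a₁, a₂, a₃, a₄, θ₀, θ₁, α, β, r, h1, h2, h3, h4, h5, h6, h7, h8, h9, hsum⟩ :=
    Cfsg.Agent.Lib.Helper68.M11Deg.degrees hG
  obtain ⟨L, hL⟩ : ∃ L : Fin 10 → IrrCharacter G,
      L = ![trivIrr G, a₁, a₂, a₃, a₄, θ₀, θ₁, α, β, r] := ⟨_, rfl⟩
  have hsumL : ∀ F : IrrCharacter G → ℕ, ∑ ψ, F ψ = ∑ k, F (L k) := by
    intro F
    rw [hsum F, hL]
    simp [Fin.sum_univ_succ]
    ring
  have hcount : ∀ ψ0 : IrrCharacter G,
      (Finset.univ.filter (fun k : Fin 10 => L k = ψ0)).card = 1 := by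
    intro ψ0
    rw [Finset.card_filter, ← hsumL (fun ψ => if ψ = ψ0 then 1 else 0)]
    simp
  have hbij : Function.Bijective L := by
    constructor
    · intro i j hij
      by_contra hne
      have h2 : 1 < (Finset.univ.filter (fun k : Fin 10 => L k = L i)).card :=
        Finset.one_lt_card.mpr ⟨i, by simp, j, by simp [hij], hne⟩
      rw [hcount (L i)] at h2
      exact lt_irrefl _ h2
    · intro ψ0
      have h2 : (Finset.univ.filter (fun k : Fin 10 => L k = ψ0)).Nonempty := by
        rw [← Finset.card_pos, hcount ψ0]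
        exact Nat.one_pos
      obtain ⟨k, hk⟩ := h2
      exact ⟨k, (Finset.mem_filter.mp hk).2⟩
  refine ⟨{ a := ![a₂, a₃, a₄], b := α, th := ![θ₀, θ₁], d := β, e := a₁, f := r,
            ha := ?_, hb := h7, hth := ?_, hd := h8, he := h1, hf := h9, sum_eq := ?_ }⟩
  · intro i
    fin_cases i
    · exact h2
    · exact h3
    · exact h4
  · intro i
    fin_cases i
    · exact h5
    · exact h6
  · intro F
    rw [finsum_eq_sum_of_fintype, ← Function.Bijective.sum_comp hbij F, hL]
    simp [Fin.sum_univ_succ]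
    ring

end Cfsg.Agent.Lib.Helper92.M11EX
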