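import Mathlib
import Cfsg.Agent.Lib.Helper68.M11UStmt
import Cfsg.Agent.Lib.Helper92.M11Base
import Cfsg.Agent.Lib.Helper69.InvDet
import Cfsg.Agent.Lib.Helper69.M11R11
import Cfsg.Agent.Lib.Helper69.M11R5
import Cfsg.Agent.S0435

/-!
# S0420 / COL2: some character of degree 10 of a simple group of order 7920 is positive at a
given involution

Column orthogonality at the involution `t` with `|C(t)| = 48`: the values `a_j` of the three
characters of degree 10 are integers `≡ 2 mod 4`; if all were negative then their sum `A ≤ -6`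
and the value `A - 1` of the character of degree 45 would have square `≥ 49 > 48`.
-/

set_option autoImplicit false
set_option linter.style.haveILetI false
set_option maxHeartbeats 1000000

namespace Cfsg.Agent.Lib.Helper92.MUCOL2

open Cfsg Cfsg.Agent.Lib.Helper17.ExcMain Cfsg.Agent.Lib.Helper17.ExcCor
open Cfsg.Agent.Lib.Helper68.M11UStmt
open Cfsg.Agent.Lib.Helper92.M11Stmt Cfsg.Agent.Lib.Helper92.M11Base
open scoped ComplexConjugate

universe u

theorem main : Col2.{u} := by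
  intro G _ _ _ hG D x hx
  classical
  have hGc : ¬ IsMulCommutative G :=
    Cfsg.Agent.Lib.Helper17.Sylow.not_comm_of_not_prime (by rw [hG]; norm_num)
  have hperf := Cfsg.Agent.Lib.Helper17.ExcSimple.commutator_eq_top hGc
  have hx2 : x * x = 1 := by rw [← pow_two, ← hx]; exact pow_orderOf_eq_one x
  have hx1 : x ≠ 1 := by
    rintro rfl
    rw [orderOf_one] at hx
    omega
  -- the values at `x` are integers congruent to the degree modulo 4
  have hint : ∀ ψ : IrrCharacter G, ∃ m : ℤ,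
      (ψ : G → ℂ) x = (((charDegree (ψ : G → ℂ) : ℤ) - 4 * m : ℤ) : ℂ) := by
    intro ψ
    obtain ⟨m, hm⟩ := Cfsg.Agent.Lib.Helper69.InvDet.char_invol hperf
      (Cfsg.Agent.Lib.CT.Wedderburn.isCharacter_of_irr ψ.2) x hx2
    refine ⟨m, ?_⟩
    rw [hm, deg_eq]
    push_cast
    ring
  obtain ⟨m0, hm0⟩ := hint (D.a 0)
  obtain ⟨m1, hm1⟩ := hint (D.a 1)
  obtain ⟨m2, hm2⟩ := hint (D.a 2)
  obtain ⟨mb, hmb⟩ := hint D.b
  rw [D.ha] at hm0 hm1 hm2
  rw [D.hb] at hmb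
  obtain ⟨α0, hα0⟩ : ∃ α0 : ℤ, α0 = 10 - 4 * m0 := ⟨_, rfl⟩
  obtain ⟨α1, hα1⟩ : ∃ α1 : ℤ, α1 = 10 - 4 * m1 := ⟨_, rfl⟩
  obtain ⟨α2, hα2⟩ : ∃ α2 : ℤ, α2 = 10 - 4 * m2 := ⟨_, rfl⟩
  obtain ⟨β, hβ⟩ : ∃ β : ℤ, β = 11 - 4 * mb := ⟨_, rfl⟩
  have ha0 : (D.a 0 : G → ℂ) x = (α0 : ℂ) := by rw [hm0, hα0]; norm_num
  have ha1 : (D.a 1 : G → ℂ) x = (α1 : ℂ) := by rw [hm1, hα1]; norm_num
  have ha2 : (D.a 2 : G → ℂ) x = (α2 : ℂ) := by rw [hm2, hα2]; norm_num
  have hb : (D.b : G → ℂ) x = (β : ℂ) := by rw [hmb, hβ]; norm_num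
  have hth0 := th_vanish hG D 0 x (by rw [hx])
  have hth1 := th_vanish hG D 1 x (by rw [hx])
  have hr5 := Cfsg.Agent.Lib.Helper69.M11R5.main G hG D x (by rw [hx]; norm_num)
  obtain ⟨-, hr11⟩ := Cfsg.Agent.Lib.Helper69.M11R11.main G hG D x (by rw [hx]; norm_num)
  have ho2 := orth_one D x hx1
  have ho1 := orth_self D x
  have hd : (D.d : G → ℂ) x = ((1 + β : ℤ) : ℂ) := by
    rw [← hr5, hth0, hth1, hb]
    push_cast
    ring
  have he : (D.e : G → ℂ) x = ((α0 + α1 + α2 - 1 : ℤ) : ℂ) := by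
    rw [ha0, ha1, ha2, hth0] at hr11
    push_cast
    linear_combination hr11
  have hf : (D.f : G → ℂ) x = ((-(α0 + α1 + α2) - β : ℤ) : ℂ) := by
    rw [ha0, ha1, ha2, hb, hth0, hth1, hd, he] at ho2
    push_cast at ho2 ⊢
    linear_combination (1 / 55 : ℂ) * ho2
  have h48 : Nat.card (Subgroup.centralizer ({x} : Set G)) = 48 :=
    Cfsg.Agent.S0435.result ⟨inferInstance, hG⟩ x hx
  have hNeq : (48 : ℤ) = 1 + α0 ^ 2 + α1 ^ 2 + α2 ^ 2 + β ^ 2 + (1 + β) ^ 2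
      + (α0 + α1 + α2 - 1) ^ 2 + (α0 + α1 + α2 + β) ^ 2 := by
    rw [h48, ha0, ha1, ha2, hb, hth0, hth1, hd, he, hf] at ho1
    simp only [Complex.normSq_intCast, map_zero] at ho1
    have h2 : ((48 : ℤ) : ℝ) = ((1 + α0 ^ 2 + α1 ^ 2 + α2 ^ 2 + β ^ 2 + (1 + β) ^ 2
      + (α0 + α1 + α2 - 1) ^ 2 + (α0 + α1 + α2 + β) ^ 2 : ℤ) : ℝ) := by
      push_cast
      push_cast at ho1
      linear_combination ho1
    exact_mod_cast h2
  by_contra hcon
  have hneg : ∀ i : Fin 3, ((D.a i : G → ℂ) x).re ≤ 0 := by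
    intro i
    by_contra h
    exact hcon ⟨i, lt_of_not_ge h⟩
  have h0 := hneg 0
  have h1 := hneg 1
  have h2 := hneg 2
  rw [ha0, Complex.intCast_re] at h0
  rw [ha1, Complex.intCast_re] at h1
  rw [ha2, Complex.intCast_re] at h2
  have h0' : α0 ≤ 0 := by exact_mod_cast h0
  have h1' : α1 ≤ 0 := by exact_mod_cast h1
  have h2' : α2 ≤ 0 := by exact_mod_cast h2
  have k0 : α0 ≤ -2 := by omega
  have k1 : α1 ≤ -2 := by omega
  have k2 : α2 ≤ -2 := by omega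
  nlinarith [sq_nonneg α0, sq_nonneg α1, sq_nonneg α2, sq_nonneg β, sq_nonneg (1 + β),
    sq_nonneg (α0 + α1 + α2 + β), sq_nonneg (α0 + α1 + α2 - 1 + 7)]

end Cfsg.Agent.Lib.Helper92.MUCOL2
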