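import Mathlib
import Cfsg.Agent.Lib.Helper25.ACOddStmt

/-!
# S3911 / MINHALL (call by helper25, second seat): a minimal normal subgroup of odd order is a
`p`-group or a Hall subgroup (from `SylIn`).
-/

set_option autoImplicit false

namespace Cfsg.Agent.Lib.Helper92.AOMINHALL

open Cfsg.Agent.Lib.Helper25.ACStmt Cfsg.Agent.Lib.Helper25.ACOddStmt

universe u

theorem main (hS : SylIn.{u}) : MinHall.{u} := by
  intro G _ _ hB M hMn hM hodd hmin
  by_cases h : ∃ p : ℕ, p.Prime ∧ IsPGroup p ↥M
  · exact Or.inl h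
  · right
    apply Nat.coprime_of_dvd
    intro q hq hqM hqI
    have : Fact q.Prime := ⟨hq⟩
    obtain ⟨Q⟩ : Nonempty (Sylow q G) := inferInstance
    rcases hS G hB M hMn hodd hmin q hqM Q with hQM | hp
    · have h1 : M.index ∣ (Q : Subgroup G).index := Subgroup.index_dvd_of_le hQM
      exact Q.not_dvd_index (dvd_trans hqI h1)
    · exact h ⟨q, hq, hp⟩

end Cfsg.Agent.Lib.Helper92.AOMINHALL
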