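import Mathlib
import Cfsg.Agent.Lib.Helper80.BTStmt
import Cfsg.Agent.Lib.CT.PairCount
import Cfsg.Agent.Lib.Helper3.Irr

/-!
# S0997 / GB

A signed sum `Φ = ∑_{χ ∈ S} ε χ • χ` of irreducible characters vanishing on the `2`-singular
elements: `2^b ∣ Φ(1)` when `2^b ∣ |G|`, and `Φ(1)^2 ≤ |G| |S|`.
-/

set_option autoImplicit false

namespace Cfsg.Agent.Lib.Helper92.BTGB

open Cfsg
open scoped ComplexConjugate

universe u

open Classical in
theorem sum_mul_conj {G : Type u} [Group G] [Fintype G] (χ ψ : IrrCharacter G) :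
    ∑ g : G, (χ : G → ℂ) g * conj ((ψ : G → ℂ) g) =
      (Nat.card G : ℂ) * (if χ = ψ then 1 else 0) := by
  have h := Cfsg.Agent.Lib.Helper3.Irr.irr_orthonormal χ ψ
  unfold classInner at h
  have hne : (Nat.card G : ℂ) ≠ 0 := Nat.cast_ne_zero.mpr Nat.card_pos.ne'
  rw [← h, ← mul_assoc, mul_inv_cancel₀ hne, one_mul]

theorem main : Cfsg.Agent.Lib.Helper80.BTStmt.GB.{u} := by
  intro G _ _ b hb S ε hε hvan
  classical
  have : Fintype G := Fintype.ofFinite G
  set N : ℤ := ∑ χ ∈ S, ε χ * (charDegree (χ : G → ℂ) : ℤ) with hN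
  have hdeg : ∀ χ : IrrCharacter G, ((charDegree (χ : G → ℂ) : ℕ) : ℂ) = (χ : G → ℂ) 1 :=
    fun χ => Cfsg.Agent.Lib.CT.Wedderburn.char_natCast_charDegree
      (Cfsg.Agent.Lib.CT.Wedderburn.isCharacter_of_irr χ.2)
  have hΦ1 : ∑ χ ∈ S, (ε χ : ℂ) * (χ : G → ℂ) 1 = (N : ℂ) := by
    rw [hN]
    push_cast
    refine Finset.sum_congr rfl (fun χ _ => ?_)
    rw [hdeg]
  refine ⟨?_, ?_⟩
  · obtain ⟨P⟩ : Nonempty (Sylow 2 G) := inferInstance
    have : Fintype (P : Subgroup G) := Fintype.ofFinite _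
    have hm : ∀ χ : IrrCharacter G, ∃ m : ℕ,
        ∑ w : (P : Subgroup G), (χ : G → ℂ) (w : G) = (Nat.card (P : Subgroup G) : ℂ) * m :=
      fun χ => Cfsg.Agent.Lib.CT.PairCount.char_sum_subgroup
        (Cfsg.Agent.Lib.CT.Wedderburn.isCharacter_of_irr χ.2) (P : Subgroup G)
    choose m hm using hm
    have h1 : ∑ w : (P : Subgroup G), ∑ χ ∈ S, (ε χ : ℂ) * (χ : G → ℂ) (w : G) = (N : ℂ) := by
      rw [Finset.sum_eq_single (1 : (P : Subgroup G))]
      · exact hΦ1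
      · intro w _ hw
        apply hvan
        obtain ⟨k, hk⟩ := IsPGroup.iff_orderOf.mp P.isPGroup' w
        rw [Subgroup.orderOf_coe, hk]
        have hk0 : k ≠ 0 := by
          rintro rfl
          apply hw
          rw [pow_zero, orderOf_eq_one_iff] at hk
          exact hk
        exact dvd_pow_self 2 hk0
      · intro h
        exact absurd (Finset.mem_univ _) h
    have h2 : ∑ w : (P : Subgroup G), ∑ χ ∈ S, (ε χ : ℂ) * (χ : G → ℂ) (w : G) =
        (Nat.card (P : Subgroup G) : ℂ) * ((∑ χ ∈ S, ε χ * (m χ : ℤ) : ℤ) : ℂ) := by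
      rw [Finset.sum_comm]
      push_cast
      rw [Finset.mul_sum]
      refine Finset.sum_congr rfl (fun χ _ => ?_)
      rw [← Finset.mul_sum, hm]
      ring
    have h3 : N = (Nat.card (P : Subgroup G) : ℤ) * (∑ χ ∈ S, ε χ * (m χ : ℤ)) := by
      have h4 : (N : ℂ) =
          (((Nat.card (P : Subgroup G) : ℤ) * (∑ χ ∈ S, ε χ * (m χ : ℤ)) : ℤ) : ℂ) := by
        rw [← h1, h2]
        push_cast
        rfl
      exact_mod_cast h4
    rw [h3]
    apply Dvd.dvd.mul_right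
    rw [Sylow.card_eq_multiplicity]
    push_cast
    apply pow_dvd_pow
    exact (Nat.Prime.pow_dvd_iff_le_factorization Nat.prime_two Nat.card_pos.ne').mp hb
  · have hsum : ∑ g : G, (∑ χ ∈ S, (ε χ : ℂ) * (χ : G → ℂ) g) *
        conj (∑ ψ ∈ S, (ε ψ : ℂ) * (ψ : G → ℂ) g) = (Nat.card G : ℂ) * (S.card : ℂ) := by
      have e1 : ∀ g : G, (∑ χ ∈ S, (ε χ : ℂ) * (χ : G → ℂ) g) *
          conj (∑ ψ ∈ S, (ε ψ : ℂ) * (ψ : G → ℂ) g) =
          ∑ χ ∈ S, ∑ ψ ∈ S, (ε χ : ℂ) * (ε ψ : ℂ) *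
            ((χ : G → ℂ) g * conj ((ψ : G → ℂ) g)) := by
        intro g
        rw [map_sum, Finset.sum_mul_sum]
        refine Finset.sum_congr rfl (fun χ _ => Finset.sum_congr rfl (fun ψ _ => ?_))
        rw [map_mul, map_intCast]
        ring
      simp_rw [e1]
      rw [Finset.sum_comm]
      have e2 : ∀ χ ∈ S, ∑ g : G, ∑ ψ ∈ S, (ε χ : ℂ) * (ε ψ : ℂ) *
          ((χ : G → ℂ) g * conj ((ψ : G → ℂ) g)) = (Nat.card G : ℂ) := by
        intro χ hχ
        rw [Finset.sum_comm]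
        simp_rw [← Finset.mul_sum, sum_mul_conj]
        rw [Finset.sum_eq_single χ]
        · rw [if_pos rfl]
          have h5 : (ε χ : ℂ) * (ε χ : ℂ) = 1 := by
            rcases hε χ hχ with h | h <;> rw [h] <;> push_cast <;> ring
          rw [h5]
          ring
        · intro ψ _ hne
          rw [if_neg (Ne.symm hne)]
          ring
        · intro h
          exact absurd hχ h
      rw [Finset.sum_congr rfl e2]
      simp [mul_comm]
    have hre : ∑ g : G, Complex.normSq (∑ χ ∈ S, (ε χ : ℂ) * (χ : G → ℂ) g) =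
        (Nat.card G : ℝ) * (S.card : ℝ) := by
      have h6 : ((∑ g : G, Complex.normSq (∑ χ ∈ S, (ε χ : ℂ) * (χ : G → ℂ) g) : ℝ) : ℂ) =
          (((Nat.card G : ℝ) * (S.card : ℝ) : ℝ) : ℂ) := by
        push_cast
        rw [← hsum]
        refine Finset.sum_congr rfl (fun g _ => ?_)
        rw [Complex.mul_conj]
      exact_mod_cast h6
    have hle : Complex.normSq (∑ χ ∈ S, (ε χ : ℂ) * (χ : G → ℂ) 1) ≤
        ∑ g : G, Complex.normSq (∑ χ ∈ S, (ε χ : ℂ) * (χ : G → ℂ) g) :=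
      Finset.single_le_sum
        (f := fun g => Complex.normSq (∑ χ ∈ S, (ε χ : ℂ) * (χ : G → ℂ) g))
        (fun g _ => Complex.normSq_nonneg _) (Finset.mem_univ 1)
    rw [hΦ1, hre] at hle
    have h7 : Complex.normSq (N : ℂ) = (N : ℝ) ^ 2 := by
      rw [← Complex.ofReal_intCast, Complex.normSq_ofReal]
      ring
    rw [h7] at hle
    exact_mod_cast hle

end Cfsg.Agent.Lib.Helper92.BTGB
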