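import Mathlib
import Cfsg.Agent.Lib.Helper76.BrRBStmt

/-!
# S4504 piece EXC (helper92): every nontrivial irreducible constituent of `ξ * conj ξ`
satisfies `Exc` (glue of B0X, YTWO, EX, EY, EO)
-/

set_option autoImplicit false

namespace Cfsg.Agent.Lib.Helper92.BrRBEXC

open Cfsg Cfsg.Agent.Lib.Helper76.BrRB
open scoped ComplexConjugate Classical

universe u

theorem main (hB : B0X.{u}) (hY : YTWO.{u}) (hEX : EX.{u}) (hEY : EY.{u}) (hEO : EO.{u}) :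
    EXC.{u} := by
  intro L _ _ p _ c hNC hHA ψ hnt hm
  have hp5 := c.hp5
  have hp2 : p ≠ 2 := by omega
  obtain ⟨X, Y, ε, ε', hX, hXY, hε, hε', hXval, hYsum, hXY', hYP, hOut⟩ := hB p hp2 c.P c.hP
  by_cases hψX : ψ ∈ X
  · exact hEX p c.P c.hP hp5 c.hgen (ψ : L → ℂ) ψ.2 hnt (ε ψ) (hε ψ hψX) (hXval ψ hψX)
  by_cases hψY : ψ ∈ Y
  · have hcardY : Nat.card Y = 2 := by
      rw [hX, hNC] at hXY
      have hdeg := c.hdeg
      have h1 : charDegree c.ξ * Nat.card Y = charDegree c.ξ * 2 := by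
        rw [hXY]; omega
      have h2 : 0 < charDegree c.ξ := by omega
      exact Nat.eq_of_mul_eq_mul_left h2 h1
    obtain ⟨η', h1, h2, h3⟩ := hY p c.P Y ε'
      (fun g => ∑ᶠ ξ ∈ X, (ε ξ : ℂ) * (ξ : L → ℂ) g) hcardY hε' hYsum
      (fun g hg η hη => hXY' g hg η hη) hYP ψ hψY
    exact hEY p c.P c.hP hp5 (ψ : L → ℂ) (η' : L → ℂ) ψ.2 η'.2 ε' hε' h1 h2 h3
  · obtain ⟨f, hf1, hf2⟩ := hEO p c.P c.hP (ψ : L → ℂ) ψ.2 (hOut ψ hψX hψY)
      (fun k hk _ => hHA ψ hm k hk)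
    exact ⟨f, hf1, hf2.le, fun heq => absurd heq hf2.ne⟩

end Cfsg.Agent.Lib.Helper92.BrRBEXC
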