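import Mathlib
import Cfsg.Agent.Lib.Helper40.GFStmt

/-!
# S5886 / COORD (helper92, second seat): `F ^ N` is an `L`-vector space through `ι`, hence
`L`-isomorphic to `Fin k → L`.
-/

set_option autoImplicit false

universe u

namespace Cfsg.Agent.Lib.Helper92.GFCOORD

open Cfsg.Agent.Lib.Helper40.GFStmt

/-- a copy of `Fin N → F` that will carry the `L`-module structure -/
def W (F : Type u) (N : ℕ) : Type u := Fin N → F

instance (F : Type u) [Field F] (N : ℕ) : AddCommGroup (W F N) :=
  inferInstanceAs (AddCommGroup (Fin N → F))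

instance (F : Type u) [Field F] (N : ℕ) : Module F (W F N) :=
  inferInstanceAs (Module F (Fin N → F))

instance (F : Type u) [Field F] (N : ℕ) : Module.Finite F (W F N) :=
  inferInstanceAs (Module.Finite F (Fin N → F))

theorem main : Coord.{u} := by
  intro F L _ _ _ _ N ι
  classical
  let f : L →+* Module.End F (W F N) :=
    ((Matrix.toLinAlgEquiv' : Matrix (Fin N) (Fin N) F ≃ₐ[F] _).toAlgHom.comp ι).toRingHom
  letI : Module L (W F N) := Module.compHom (W F N) f
  have hsmul : ∀ (a : L) (x : W F N), a • x = Matrix.mulVec (ι a) x := fun a x => rfl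
  haveI : IsScalarTower F L (W F N) := by
    refine ⟨fun s a x => ?_⟩
    rw [hsmul, hsmul, map_smul]
    exact Matrix.smul_mulVec s (ι a) x
  haveI : Module.Finite L (W F N) := Module.Finite.of_restrictScalars_finite F L (W F N)
  let bs := Module.finBasis L (W F N)
  let Φ₀ : W F N ≃ₗ[L] (Fin (Module.finrank L (W F N)) → L) := bs.equivFun
  refine ⟨Module.finrank L (W F N), Φ₀.restrictScalars F, fun a x => ?_⟩
  show Φ₀ (Matrix.mulVec (ι a) x) = a • Φ₀ x
  exact Φ₀.map_smul a x

end Cfsg.Agent.Lib.Helper92.GFCOORD
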