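import Mathlib
import Cfsg.Agent.Lib.Helper8.GFZ1BStmt

/-!
# S5886 / Z1B sub-call, piece SEMI (helper92, second seat)
-/

set_option autoImplicit false

universe u

namespace Cfsg.Agent.Lib.Helper92.GFZ1BSEMI

open Cfsg.Agent.Lib.Helper40.GFStmt Cfsg.Agent.Lib.Helper8.GFZ1BStmt

theorem main : Semi.{u} := by
  intro F L _ _ _ _ c h v v₂ ψ χ A D X hD κ ξ hAmul hDκ hXξ x a
  refine ⟨A a, ?_⟩
  have hx := hD.dec x
  have h1 : a • x = (a * χ x) • v + (a * ψ x) • v₂ := by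
    conv_lhs => rw [hx]
    rw [smul_add, smul_smul, smul_smul]
  have h2 : h x = (A (χ x) + X (ψ x)) • v + D (ψ x) • v₂ := by
    conv_lhs => rw [hx]
    exact hD.act _ _
  have e1 : A (a * χ x) = A a * A (χ x) := hAmul _ _
  have e2 : X (a * ψ x) = ξ * (A a * A (ψ x)) := by rw [hXξ, hAmul]
  have e3 : D (a * ψ x) = A a * D (ψ x) := by
    rw [hDκ, hDκ, ← hAmul]
    congr 1
    ring
  have e4 : X (ψ x) = ξ * A (ψ x) := hXξ _
  rw [h1, hD.act, h2, e1, e2, e3, e4, smul_add, smul_smul, smul_smul]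
  congr 1
  congr 1
  ring

end Cfsg.Agent.Lib.Helper92.GFZ1BSEMI
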