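import Mathlib
import Cfsg.Prelude.Def_OddOrderLocal
import Cfsg.Agent.Lib.Helper91.Hall

set_option autoImplicit false

/-!
helper92: an invariant complement of a normal Hall subgroup (Schur–Zassenhaus + Hall), in the
shape `Cfsg.IsComplIn F D S` for subgroups `F ≤ S ≤ M` of `G`, `F` and `S` normalized by `M`,
`M` solvable, `F` a Hall subgroup of `M`, `K ≤ M` of order prime to `|F|`: there is a
`K`-invariant complement `D` of `F` in `S`, of order prime to `|F|`, with `|F| * |D| = |S|`.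
(The proof of `Helper53.S56HALLD` with a normal Hall subgroup in place of `O_q`.)
-/

namespace Cfsg.Agent.Lib.Helper92.InvCompl

universe u

theorem invariant_compl_in {G : Type u} [Group G] [Finite G] (M F S K : Subgroup G)
    (hsolv : Group.IsSolvable M) (hFS : F ≤ S) (hSM : S ≤ M) (hKM : K ≤ M)
    (hF : M ≤ Subgroup.normalizer (F : Set G)) (hS : M ≤ Subgroup.normalizer (S : Set G))
    (hcop : (Nat.card F).Coprime (F.relIndex M)) (hK : (Nat.card K).Coprime (Nat.card F)) :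
    ∃ D : Subgroup G, Cfsg.IsComplIn F D S ∧ K ≤ Subgroup.normalizer (D : Set G) ∧
      (Nat.card D).Coprime (Nat.card F) ∧ Nat.card D ∣ F.relIndex M := by
  have hFM : F ≤ M := hFS.trans hSM
  have hcF : Nat.card (F.subgroupOf M) = Nat.card F :=
    Nat.card_congr (Subgroup.subgroupOfEquivOfLe hFM).toEquiv
  have hcK : Nat.card (K.subgroupOf M) = Nat.card K :=
    Nat.card_congr (Subgroup.subgroupOfEquivOfLe hKM).toEquiv
  have hX : Nat.card M = (F.subgroupOf M).index * Nat.card (F.subgroupOf M) := by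
    rw [mul_comm]; exact (Subgroup.card_mul_index (F.subgroupOf M)).symm
  have hcop' : ((F.subgroupOf M).index).Coprime (Nat.card (F.subgroupOf M)) := by
    rw [hcF]; exact hcop.symm
  have hRO : (Nat.card (K.subgroupOf M)).Coprime (Nat.card (F.subgroupOf M)) := by
    rw [hcF, hcK]; exact hK
  obtain ⟨T, hT, hKT⟩ := Cfsg.Agent.Lib.Helper91.Hall.hall_contain (G := M)
    (F.subgroupOf M).index (Nat.card (F.subgroupOf M)) hX hcop' (K.subgroupOf M) hRO
  have hcompl : Subgroup.IsComplement' (F.subgroupOf M) T := by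
    apply Subgroup.isComplement'_of_coprime
    · rw [hT]; exact Subgroup.card_mul_index (F.subgroupOf M)
    · rw [hT]; exact hcop'.symm
  have hdisj : F.subgroupOf M ⊓ T = ⊥ := disjoint_iff.mp hcompl.disjoint
  have hSn : ∀ (m : M) (s : M), s ∈ S.subgroupOf M → m * s * m⁻¹ ∈ S.subgroupOf M := by
    intro m s hs
    rw [Subgroup.mem_subgroupOf] at hs ⊢
    have := (Subgroup.mem_normalizer_iff.mp (hS m.2) (s : G)).mp hs
    simpa using this
  refine ⟨(T ⊓ S.subgroupOf M).map M.subtype, ⟨hFS, ?_, ?_, ?_⟩, ?_, ?_, ?_⟩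
  · rintro _ ⟨t, ht, rfl⟩
    exact Subgroup.mem_subgroupOf.mp ht.2
  · rw [eq_bot_iff]
    rintro x ⟨hxF, t, ht, rfl⟩
    have h1 : t ∈ F.subgroupOf M ⊓ T := ⟨Subgroup.mem_subgroupOf.mpr hxF, ht.1⟩
    rw [hdisj] at h1
    rw [Subgroup.mem_bot.mp h1]
    exact Subgroup.mem_bot.mpr rfl
  · intro m hm
    obtain ⟨⟨⟨o, ho⟩, ⟨t, ht⟩⟩, hot, -⟩ := hcompl.existsUnique (⟨m, hSM hm⟩ : M)
    have hot' : o * t = (⟨m, hSM hm⟩ : M) := hot
    have hoF : (o : G) ∈ F := Subgroup.mem_subgroupOf.mp ho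
    have htS : t ∈ S.subgroupOf M := by
      rw [Subgroup.mem_subgroupOf]
      have h2 : (t : G) = (o : G)⁻¹ * m := by
        have h3 : ((o * t : M) : G) = m := congrArg Subtype.val hot'
        rw [Subgroup.coe_mul] at h3
        rw [← h3]; group
      rw [h2]
      exact S.mul_mem (S.inv_mem (hFS hoF)) hm
    refine ⟨(o : G), hoF, (t : G), ⟨t, ⟨ht, htS⟩, rfl⟩, ?_⟩
    have h3 : ((o * t : M) : G) = m := congrArg Subtype.val hot'
    rw [← h3, Subgroup.coe_mul]
  · intro k hk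
    have hkT : (⟨k, hKM hk⟩ : M) ∈ T := hKT (Subgroup.mem_subgroupOf.mpr hk)
    rw [Subgroup.mem_normalizer_iff]
    intro n
    constructor
    · rintro ⟨t, ⟨htT, htS⟩, rfl⟩
      refine ⟨(⟨k, hKM hk⟩ : M) * t * (⟨k, hKM hk⟩ : M)⁻¹, ⟨?_, ?_⟩, ?_⟩
      · exact T.mul_mem (T.mul_mem hkT htT) (T.inv_mem hkT)
      · exact hSn _ _ htS
      · simp
    · rintro ⟨t, ⟨htT, htS⟩, ht⟩
      refine ⟨(⟨k, hKM hk⟩ : M)⁻¹ * t * (⟨k, hKM hk⟩ : M), ⟨?_, ?_⟩, ?_⟩
      · exact T.mul_mem (T.mul_mem (T.inv_mem hkT) htT) hkT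
      · have := hSn (⟨k, hKM hk⟩ : M)⁻¹ t htS
        rwa [inv_inv] at this
      · have ht' : (t : G) = k * n * k⁻¹ := ht
        simp only [Subgroup.subtype_apply, Subgroup.coe_mul, Subgroup.coe_inv, ht']
        group
  · have h1 : Nat.card ((T ⊓ S.subgroupOf M).map M.subtype) ∣ F.relIndex M := by
      rw [Subgroup.card_map_of_injective (Subgroup.subtype_injective M)]
      have h2 : Nat.card (T ⊓ S.subgroupOf M : Subgroup M) ∣ Nat.card T :=
        Subgroup.card_dvd_of_le inf_le_left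
      rw [hT] at h2
      exact h2
    exact Nat.Coprime.coprime_dvd_left h1 hcop.symm
  · rw [Subgroup.card_map_of_injective (Subgroup.subtype_injective M)]
    have h2 : Nat.card (T ⊓ S.subgroupOf M : Subgroup M) ∣ Nat.card T :=
      Subgroup.card_dvd_of_le inf_le_left
    rw [hT] at h2
    exact h2

end Cfsg.Agent.Lib.Helper92.InvCompl
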