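import Mathlib
import Cfsg.Prelude.Def_Classical
import Cfsg.Prelude.Def_GeometricClasses
import Cfsg.Agent.Lib.Helper37.OrthSign
import Cfsg.Agent.Lib.Helper37.OrthMinus

/-!
# Elements of `Omega(Q)` with `x * x = -1` (helper92)

Generic permutation-sign criterion (any index type, any form `Q : (ι → F) → F`):
if `x ∈ Omega(Q)` has `x * x = -1` (and `2 ≠ 0`, `Q 0 ≠ c`), then `8` divides the number of
vectors with `Q v = c`.  (`x` acts on the level set with all cycles of length `4`; its sign is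
trivial because the sign of the action is a homomorphism to `ℤˣ`.)

Application to the minus form `quadFormMinus (d - 1) F a b` (dimension `2 d`), `q` odd:
the level set `Q = 1` has `q ^ (d - 1) * (q ^ d + 1)` points, which is not divisible by `8` when
`d` is even or `q % 8 ≠ 7`; so then `Omega^-` has no element with `x * x = -1`.
-/

set_option autoImplicit false

universe u

open scoped Matrix

namespace Cfsg.Agent.Lib.Helper92.IsoSign

open Cfsg.Agent.Lib.Helper37.OrthSign

/-- a permutation with `σ ^ 4 = 1`, `σ ^ 2` fixed-point-free and trivial sign acts on a set of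
cardinality divisible by `8` -/
theorem eight_dvd_of_sign {α : Type*} [Fintype α] [DecidableEq α] (σ : Equiv.Perm α)
    (h4 : σ ^ 4 = 1) (h2 : ∀ a, σ (σ a) ≠ a) (hs : Equiv.Perm.sign σ = 1) :
    8 ∣ Fintype.card α := by
  have hall : ∀ n ∈ σ.cycleType, n = 4 := by
    intro n hn
    have h1 : n ∣ 4 := (Equiv.Perm.dvd_of_mem_cycleType hn).trans (orderOf_dvd_of_pow_eq_one h4)
    have h2' : 2 ≤ n := Equiv.Perm.two_le_of_mem_cycleType hn
    have hle : n ≤ 4 := Nat.le_of_dvd (by norm_num) h1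
    interval_cases n
    · exfalso
      rw [Equiv.Perm.cycleType_def, Multiset.mem_map] at hn
      obtain ⟨c, hc, hc2⟩ := hn
      rw [Finset.mem_val, Equiv.Perm.mem_cycleFactorsFinset_iff] at hc
      obtain ⟨hcyc, hca⟩ := hc
      have hord : orderOf c = 2 := by rw [hcyc.orderOf]; exact hc2
      obtain ⟨a, ha, -⟩ := hcyc
      have ha1 : a ∈ c.support := Equiv.Perm.mem_support.mpr ha
      have hcc : c (c a) = a := by
        have h := pow_orderOf_eq_one c
        rw [hord] at h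
        have h' := congrArg (fun f : Equiv.Perm α => f a) h
        simpa [pow_two] using h'
      have ha' : c a ∈ c.support := Equiv.Perm.apply_mem_support.mpr ha1
      apply h2 a
      rw [← hca a ha1, ← hca (c a) ha', hcc]
    · exfalso; revert h1; norm_num
    · rfl
  have hsupp : σ.support = Finset.univ := by
    ext a
    simp only [Equiv.Perm.mem_support, Finset.mem_univ, iff_true]
    intro ha
    exact h2 a (by rw [ha, ha])
  have hsum : σ.cycleType.sum = Fintype.card α := by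
    rw [Equiv.Perm.sum_cycleType, hsupp, Finset.card_univ]
  have hrep : σ.cycleType = Multiset.replicate (Multiset.card σ.cycleType) 4 :=
    Multiset.eq_replicate_card.mpr hall
  have hsum' : Multiset.card σ.cycleType * 4 = Fintype.card α := by
    rw [← hsum]
    conv_rhs => rw [hrep]
    simp
  rw [Equiv.Perm.sign_of_cycleType, hsum] at hs
  have heven : Even (Fintype.card α + Multiset.card σ.cycleType) := by
    by_contra hne
    rw [Nat.not_even_iff_odd] at hne
    rw [hne.neg_one_pow] at hs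
    exact absurd hs (by decide)
  rw [Nat.even_iff] at heven
  omega

/-- the generic criterion: an element of `Omega(Q)` with `x * x = -1` forces `8 ∣ #{Q = c}`. -/
theorem eight_dvd_card_level {ι : Type} [Fintype ι] [DecidableEq ι] {F : Type u} [Field F]
    [Fintype F] (h2 : (2 : F) ≠ 0) (Q : (ι → F) → F) (c : F) (hQ0 : Q 0 ≠ c)
    (x : Matrix.GeneralLinearGroup ι F) (hx : x ∈ Cfsg.Geo.omegaGL Q)
    (hxx : (x : Matrix ι ι F) * (x : Matrix ι ι F) = -1) :
    8 ∣ Nat.card (LevelSet Q c) := by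
  classical
  obtain ⟨y, hy, hyx⟩ := Subgroup.mem_map.mp hx
  haveI : Fintype (LevelSet Q c) := Fintype.ofFinite _
  let φ : ↥(Cfsg.isometryGroup F Q) →* Equiv.Perm (LevelSet Q c) :=
    MulAction.toPermHom (Cfsg.isometryGroup F Q) (LevelSet Q c)
  have hs1 : Equiv.Perm.sign (φ y) = 1 :=
    Abelianization.commutator_subset_ker (Equiv.Perm.sign.comp φ) hy
  have hyx' : ((y.1 : Matrix.GeneralLinearGroup ι F) : Matrix ι ι F) = (x : Matrix ι ι F) := by
    rw [← hyx]; rfl
  have hφ : ∀ v : LevelSet Q c, ((φ y v : LevelSet Q c) : ι → F) =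
      ((y.1 : Matrix.GeneralLinearGroup ι F) : Matrix ι ι F) *ᵥ v.1 := fun v => rfl
  have hsq : ∀ v : LevelSet Q c, ((φ y (φ y v) : LevelSet Q c) : ι → F) = -v.1 := by
    intro v
    rw [hφ, hφ, Matrix.mulVec_mulVec, hyx', hxx, Matrix.neg_mulVec, Matrix.one_mulVec]
  have hne : ∀ v : LevelSet Q c, φ y (φ y v) ≠ v := by
    intro v hv
    have h1 := hsq v
    rw [hv] at h1
    have h0 : v.1 = 0 := by
      funext i
      have := congrFun h1 i
      simp only [Pi.neg_apply] at this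
      have h2' : (2 : F) * v.1 i = 0 := by linear_combination this
      rcases mul_eq_zero.mp h2' with h | h
      · exact absurd h h2
      · exact h
    have hv1 := v.2
    rw [h0] at hv1
    exact hQ0 hv1
  have h4 : (φ y) ^ 4 = 1 := by
    ext v
    have e1 : ((φ y) ^ 4) v = φ y (φ y (φ y (φ y v))) := by
      simp [pow_succ]
    rw [e1, hsq, hsq]
    simp
  have h8 := eight_dvd_of_sign (φ y) h4 hne hs1
  rwa [← Nat.card_eq_fintype_card] at h8

/-! ## the minus form -/

/-- arithmetic: the number of points of `Q^- = 1` modulo `8` -/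
theorem minus_count_mod (q k : ℕ) (hq : Odd q) (h : Even k ∨ q % 8 ≠ 7) :
    (q ^ 2 * ((q ^ (k + 1) - 1) * q ^ k) + (q + 1) * q ^ (k + 1)) % 8 ≠ 0 := by
  have hq8 : q % 8 = 1 ∨ q % 8 = 3 ∨ q % 8 = 5 ∨ q % 8 = 7 := by
    rw [Nat.odd_iff] at hq; omega
  have hq2 : q ^ 2 % 8 = 1 := by
    rw [Nat.pow_mod]
    rcases hq8 with h1 | h1 | h1 | h1 <;> rw [h1]
  have hpos : 1 ≤ q ^ (k + 1) := Nat.one_le_pow _ _ (by rw [Nat.odd_iff] at hq; omega)
  rcases Nat.even_or_odd k with hk | hk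
  · -- `k` even: `q ^ k ≡ 1`, `q ^ (k + 1) ≡ q`
    obtain ⟨j, rfl⟩ := hk
    have hk1 : q ^ (j + j) % 8 = 1 := by
      rw [← two_mul, pow_mul, Nat.pow_mod, hq2]; simp
    have hk2 : q ^ (j + j + 1) % 8 = q % 8 := by
      rw [pow_succ, Nat.mul_mod, hk1]; simp
    have hk3 : (q ^ (j + j + 1) - 1) % 8 = q % 8 - 1 := by
      omega
    rw [Nat.add_mod, Nat.mul_mod (q ^ 2), Nat.mul_mod (q ^ (j + j + 1) - 1), hq2, hk1, hk3,
      Nat.mul_mod (q + 1), hk2, Nat.add_mod q 1]
    rcases hq8 with h1 | h1 | h1 | h1 <;> rw [h1] <;> norm_num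
  · -- `k` odd: `q ^ k ≡ q`, `q ^ (k + 1) ≡ 1`
    have hq7 : q % 8 ≠ 7 := by
      rcases h with h | h
      · exact absurd hk (by rw [Nat.not_odd_iff_even]; exact h)
      · exact h
    obtain ⟨j, rfl⟩ := hk
    have hk0 : q ^ (2 * j) % 8 = 1 := by
      rw [pow_mul, Nat.pow_mod, hq2]; simp
    have hk1 : q ^ (2 * j + 1) % 8 = q % 8 := by
      rw [pow_succ, Nat.mul_mod, hk0]; simp
    have hk2 : q ^ (2 * j + 1 + 1) % 8 = 1 := by
      rw [pow_succ, Nat.mul_mod, hk1, ← Nat.mul_mod, ← sq, hq2]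
    have hk3 : (q ^ (2 * j + 1 + 1) - 1) % 8 = 0 := by omega
    rw [Nat.add_mod, Nat.mul_mod (q ^ 2), Nat.mul_mod (q ^ (2 * j + 1 + 1) - 1), hq2, hk3,
      Nat.mul_mod (q + 1), hk2, Nat.add_mod q 1]
    rcases hq8 with h1 | h1 | h1 | h1
    · rw [h1]; norm_num
    · rw [h1]; norm_num
    · rw [h1]; norm_num
    · exact absurd h1 hq7

/-- `q` odd, `m` odd (i.e. `d = m + 1` even) or `q % 8 ≠ 7`: no element of `Omega^-_(2m+2)(q)`
has `x * x = -1`. -/
theorem no_negsq_minus {F : Type u} [Field F] [Fintype F] (hodd : Odd (Fintype.card F))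
    (m : ℕ) (hm : 1 ≤ m) (a b : F)
    (hab : ∀ z₁ z₂ : F, z₁ ^ 2 + a * z₁ * z₂ + b * z₂ ^ 2 = 0 → z₁ = 0 ∧ z₂ = 0)
    (h : Odd m ∨ Fintype.card F % 8 ≠ 7)
    (x : Matrix.GeneralLinearGroup ((Fin m ⊕ Fin m) ⊕ Fin 2) F)
    (hx : x ∈ Cfsg.Geo.omegaGL (Cfsg.quadFormMinus m F a b)) :
    (x : Matrix ((Fin m ⊕ Fin m) ⊕ Fin 2) ((Fin m ⊕ Fin m) ⊕ Fin 2) F) *
      (x : Matrix ((Fin m ⊕ Fin m) ⊕ Fin 2) ((Fin m ⊕ Fin m) ⊕ Fin 2) F) ≠ -1 := by
  intro hxx
  have h2F : (2 : F) ≠ 0 := by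
    apply Ring.two_ne_zero
    intro hch
    have := FiniteField.even_card_iff_char_two.mp hch
    rw [Nat.odd_iff] at hodd
    omega
  have hQ0 : Cfsg.quadFormMinus m F a b 0 ≠ 1 := by
    unfold Cfsg.quadFormMinus
    simp
  have h8 := eight_dvd_card_level h2F (Cfsg.quadFormMinus m F a b) 1 hQ0 x hx hxx
  rw [Cfsg.Agent.Lib.Helper37.OrthMinus.card_level_minus hodd m a b hab 1 one_ne_zero] at h8
  obtain ⟨k, rfl⟩ : ∃ k, m = k + 1 := ⟨m - 1, by omega⟩
  rw [Nat.add_sub_cancel] at h8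
  have h' : Even k ∨ Fintype.card F % 8 ≠ 7 := by
    rcases h with h | h
    · left
      rcases Nat.even_or_odd k with hk | hk
      · exact hk
      · exact absurd h (by rw [Nat.not_odd_iff_even]; exact hk.add_one)
    · right; exact h
  exact minus_count_mod (Fintype.card F) k hodd h' (Nat.mod_eq_zero_of_dvd h8)

end Cfsg.Agent.Lib.Helper92.IsoSign
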