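import Mathlib
import Cfsg.Agent.Lib.Helper92.J1Stmt

/-!
# S4274: assembly from the pieces of `J1Stmt`
-/

namespace Cfsg.Agent.Lib.Helper92.J1Asm

open Cfsg.Agent.Lib.Helper92.J1Stmt Cfsg.Agent.Lib.Helper92.PGStmt

universe u

/-- INV8 from its two cases. -/
theorem inv8_of (hA : Inv8A.{u}) (hB : Inv8B.{u}) : Inv8.{u} := by
  intro G _ _ _ hG S hS s t hs ht
  by_cases h4 : ∃ x : G, x ∈ (S : Subgroup G) ∧ orderOf x = 4
  · obtain ⟨x, hx, hx4⟩ := h4
    exact hA G hG S hS x hx hx4 s t hs ht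
  · simp only [not_exists, not_and] at h4
    refine hB G hG S hS ?_ s t hs ht
    intro x hx
    have hdvd : orderOf x ∣ 8 := by
      have h1 : orderOf (⟨x, hx⟩ : (S : Subgroup G)) ∣ Nat.card (S : Subgroup G) :=
        orderOf_dvd_natCard _
      rw [hS] at h1
      have h2 : orderOf (⟨x, hx⟩ : (S : Subgroup G)) = orderOf x := by
        rw [← Subgroup.orderOf_coe]
      rwa [h2] at h1
    have hle : orderOf x ≤ 8 := Nat.le_of_dvd (by norm_num) hdvd
    have hpos : 0 < orderOf x := Nat.pos_of_dvd_of_pos hdvd (by norm_num)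
    have h8 : orderOf x ≠ 8 := by
      intro h8
      apply h4 (x ^ 2) (Subgroup.pow_mem _ hx 2)
      rw [orderOf_pow' x (by norm_num : (2 : ℕ) ≠ 0), h8]
      norm_num
    have h4' : orderOf x ≠ 4 := h4 x hx
    have h12 : orderOf x = 1 ∨ orderOf x = 2 := by
      interval_cases h : orderOf x <;> simp_all
    rcases h12 with h1 | h2
    · rw [orderOf_eq_one_iff] at h1
      rw [h1, mul_one]
    · rw [← pow_two, ← h2]
      exact pow_orderOf_eq_one x

/-- The statement of S4274 from the pieces. -/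
theorem s4274_of (hS : Struct.{u}) (hQ : Quot.{u}) (hO : Ord19.{u}) (hF : Fin19.{u})
    {G : Type u} [Group G] [Finite G] (hG : Nat.card G = 175560) :
    IsSimpleGroup G ∨ ∀ P : Sylow 19 G, (P : Subgroup G).Normal := by
  by_cases hs : IsSimpleGroup G
  · exact Or.inl hs
  right
  obtain ⟨H, K, hHn, hKn, hHK, hpH, hpK, hsimp⟩ :=
    hS G 19 (by norm_num) (by rw [hG]; norm_num) (by rw [hG]; norm_num)
  have := hHn
  have hne : H ≠ K := by
    rintro rfl
    exact hpH hpK
  obtain ⟨hXs, hXc⟩ := hQ G H K hHK hne hsimp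
  have hKd : Nat.card K ∣ 175560 := by
    rw [← hG]; exact Subgroup.card_subgroup_dvd_card K
  have hXd : Nat.card (K ⧸ H.subgroupOf K) ∣ 175560 :=
    Dvd.dvd.trans (Dvd.intro _ hXc) hKd
  have hX19 : 19 ∣ Nat.card (K ⧸ H.subgroupOf K) := by
    have h1 : 19 ∣ Nat.card (K ⧸ H.subgroupOf K) * Nat.card H := by rw [hXc]; exact hpK
    rcases (Nat.Prime.dvd_mul (by norm_num)).1 h1 with h | h
    · exact h
    · exact absurd h hpH
  have := hXs
  rcases hO (K ⧸ H.subgroupOf K) hXd hX19 with h | h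
  · rw [h] at hXc
    exact hF G hG H K hHn hKn hHK hXc.symm
  · rw [h] at hXc
    exfalso
    have hH1 : Nat.card H = 1 := by
      have hpos : 0 < Nat.card H := Nat.card_pos
      have hle : Nat.card K ≤ 175560 := Nat.le_of_dvd (by norm_num) hKd
      nlinarith
    have hK1 : Nat.card K = Nat.card G := by rw [hG, ← hXc, hH1]
    have hHbot : H = ⊥ := Subgroup.card_eq_one.1 hH1
    have hKtop : K = ⊤ := (Subgroup.card_eq_iff_eq_top K).1 hK1
    apply hs
    have : Nontrivial G := by
      have : 1 < Nat.card G := by rw [hG]; norm_num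
      exact (Finite.one_lt_card_iff_nontrivial).1 this
    refine ⟨fun M hM => ?_⟩
    have := hsimp M (by rw [hHbot]; exact bot_le) (by rw [hKtop]; exact le_top)
      (fun k _ m hm => hM.conj_mem m hm k)
    rw [hHbot, hKtop] at this
    exact this

end Cfsg.Agent.Lib.Helper92.J1Asm
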