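import Mathlib
import Cfsg.Agent.Lib.Helper3.M24BlkStmt

/-!
# S5006 piece NORM (helper92): each class representative of `M24` is conjugate to its square
-/

set_option autoImplicit false

namespace Cfsg.Agent.Lib.Helper92.M24NORM

open Cfsg Cfsg.Agent.Lib.Helper7.GolayBase Cfsg.Agent.Lib.Helper7.GolayPerm
  Cfsg.Agent.Lib.Helper3.M24Blk Cfsg.Agent.Lib.Helper3.M24BlkStmt

/-- From the tables: `n * r = r * r * n`, hence `n * r * n⁻¹ = r ^ 2`. -/
theorem conj_sq (n r : G24) (nT rT : List Nat) (hn : Rep (n : Equiv.Perm GolayPt) nT)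
    (hr : Rep (r : Equiv.Perm GolayPt) rT) (h : tmul nT rT = tmul (tmul rT rT) nT) :
    n * r * n⁻¹ = r ^ 2 := by
  have h1 : n * r = r * r * n := by
    apply Subtype.ext
    rw [Subgroup.coe_mul, Subgroup.coe_mul, Subgroup.coe_mul]
    have h2 := hn.mul hr
    rw [h] at h2
    exact h2.ext ((hr.mul hr).mul hn)
  rw [h1, pow_two]
  group

theorem main : NormStmt := by
  refine ⟨?_, ?_, ?_, ?_⟩
  · exact conj_sq n11 r11 n11T r11T (rep_mkG _ _ _ _) (rep_mkG _ _ _ _) (by decide +kernel)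
  · exact conj_sq n15 r15 n15T r15T (rep_mkG _ _ _ _) (rep_mkG _ _ _ _) (by decide +kernel)
  · exact conj_sq n21 r21 n21T r21T (rep_mkG _ _ _ _) (rep_mkG _ _ _ _) (by decide +kernel)
  · have hr11 : Rep ((r11 : G24) : Equiv.Perm GolayPt) r11T := rep_mkG _ _ _ _
    have hr23 : Rep ((r23 : G24) : Equiv.Perm GolayPt) r23T := rep_mkG _ _ _ _
    show r11 * r23 * r11⁻¹ = r23 ^ 2
    exact conj_sq r11 r23 r11T r23T hr11 hr23 (by decide +kernel)

end Cfsg.Agent.Lib.Helper92.M24NORM
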