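import Mathlib
import Cfsg.Prelude.Def_Sporadic_a
import Cfsg.Prelude.Def_SporadicCombinatorics
import Cfsg.Agent.Lib.Helper92.MaxClass
import Cfsg.Agent.Lib.Helper92.Counts

/-!
Counts of minimal vectors of the rank-24 lattice with prescribed inner products with the
standard vectors `V0`, `U0` and `W16`.
-/

set_option autoImplicit false

namespace Cfsg.Agent.Lib.Helper92.MaxCount

open Cfsg Cfsg.Agent.Lib.Helper92.LeechCore
open Cfsg.Agent.Lib.Helper92.Census Cfsg.Agent.Lib.Helper92.CensusSpec
open Cfsg.Agent.Lib.Helper92.ActQ Cfsg.Agent.Lib.Helper92.Frames Cfsg.Agent.Lib.Helper92.Pairs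
open Cfsg.Agent.Lib.Helper92.Counts Cfsg.Agent.Lib.Helper92.MaxClass
open Cfsg.Agent.Lib.Helper7.GolayBase

theorem abs_V0 (p : GolayPt) : |((V0 : ↥leechLattice) : GolayPt → ℤ) p| ≤ 8 := by
  revert p
  decide +kernel

theorem abs_U0 (p : GolayPt) : |((U0 : ↥leechLattice) : GolayPt → ℤ) p| ≤ 8 := by
  revert p
  decide +kernel

theorem abs_W16 (p : GolayPt) : |((W16 : ↥leechLattice) : GolayPt → ℤ) p| ≤ 8 := by
  revert p
  decide +kernel

/-- The pair `(V0, U0)` as a list of pairs. -/
def PN2 : List (ℕ × ℕ) :=
  [(9999960004, 10000039996), (10000000000, 10000000000), (10000000000, 10000000000),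
   (10000000000, 10000000000), (10000000000, 10000000000), (10000000000, 10000000000),
   (10000000000, 10000000000), (10000000000, 10000000000), (10000000000, 10000000000),
   (10000000000, 10000000000), (10000000000, 10000000000), (10000000000, 10000000000),
   (10000000000, 10000000000), (10000000000, 10000000000), (10000000000, 10000000000),
   (10000000000, 10000000000), (10000000000, 10000000000), (10000000000, 10000000000),
   (10000000000, 10000000000), (10000000000, 10000000000), (10000000000, 10000000000),
   (10000000000, 10000000000), (10000000000, 10000000000), (10000040004, 9999959996)]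

/-- The triple `(V0, W16, U0)` as a list of pairs. -/
def PN3 : List (ℕ × ℕ) :=
  [(9600000004, 10399999996), (10000040000, 9999960000), (10000000000, 10000000000),
   (10000000000, 10000000000), (10000000000, 10000000000), (10000000000, 10000000000),
   (10000000000, 10000000000), (10000000000, 10000000000), (10000000000, 10000000000),
   (10000000000, 10000000000), (10000000000, 10000000000), (10000000000, 10000000000),
   (10000000000, 10000000000), (10000000000, 10000000000), (10000000000, 10000000000),
   (10000000000, 10000000000), (10000000000, 10000000000), (10000000000, 10000000000),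
   (10000000000, 10000000000), (10000000000, 10000000000), (10000000000, 10000000000),
   (10000000000, 10000000000), (10000000000, 10000000000), (10399960004, 9600039996)]

theorem rep2 : RepPN 10000000000 PN2 (fun p => ((V0 : ↥leechLattice) : GolayPt → ℤ) p
    + 10000 * ((U0 : ↥leechLattice) : GolayPt → ℤ) p + 100000000 * 0) := by
  unfold RepPN
  decide +kernel

theorem rep3 : RepPN 10000000000 PN3 (fun p => ((V0 : ↥leechLattice) : GolayPt → ℤ) p
    + 10000 * ((W16 : ↥leechLattice) : GolayPt → ℤ) p
    + 100000000 * ((U0 : ↥leechLattice) : GolayPt → ℤ) p) := by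
  unfold RepPN
  decide +kernel

theorem c2_m16 : censusN PN2 79999839984 159999839984 279999839984 = 44 := by decide +kernel

theorem c2_16 : censusN PN2 80000159984 160000159984 280000159984 = 44 := by decide +kernel

theorem c2_0 : censusN PN2 79999999984 159999999984 279999999984 = 2464 := by decide +kernel

theorem c2_m8 : censusN PN2 79999919984 159999919984 279999919984 = 1024 := by decide +kernel

theorem c2_8 : censusN PN2 80000079984 160000079984 280000079984 = 1024 := by decide +kernel

theorem c3_32 : censusN PN3 83199840000 163199840000 283199840000 = 1 := by decide +kernel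

theorem c3_0 : censusN PN3 79999840000 159999840000 279999840000 = 42 := by decide +kernel

theorem c3_16 : censusN PN3 81599840000 161599840000 281599840000 = 336 := by decide +kernel

theorem c3_8 : censusN PN3 80799840000 160799840000 280799840000 = 512 := by decide +kernel

/-- The second-level classes as sets of lattice elements. -/
def P2 (t : ℤ) : Set ↥leechLattice :=
  {w | sqNorm (w : GolayPt → ℤ) = 32 ∧
    dotInt ((V0 : ↥leechLattice) : GolayPt → ℤ) (w : GolayPt → ℤ) = -16 ∧
    dotInt ((U0 : ↥leechLattice) : GolayPt → ℤ) (w : GolayPt → ℤ) = t}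

/-- The third-level classes as sets of lattice elements. -/
def P3 (s : ℤ) : Set ↥leechLattice :=
  {w | sqNorm (w : GolayPt → ℤ) = 32 ∧
    dotInt ((V0 : ↥leechLattice) : GolayPt → ℤ) (w : GolayPt → ℤ) = 0 ∧
    dotInt ((W16 : ↥leechLattice) : GolayPt → ℤ) (w : GolayPt → ℤ) = -16 ∧
    dotInt ((U0 : ↥leechLattice) : GolayPt → ℤ) (w : GolayPt → ℤ) = s}

theorem card_P2 (t : ℤ) (ht : |t| ≤ 1000) (TA TB TC : ℕ)
    (hA : (TA : ℤ) = (-16 + 10000 * t + 100000000 * 0) + 8 * (10000000000 : ℕ))
    (hB : (TB : ℤ) = (-16 + 10000 * t + 100000000 * 0) + 16 * (10000000000 : ℕ))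
    (hC : (TC : ℤ) = (-16 + 10000 * t + 100000000 * 0) + 28 * (10000000000 : ℕ)) :
    (P2 t).ncard = censusN PN2 TA TB TC := by
  have h := ncard_subtype (fun w => sqNorm w = 32 ∧
    dotInt ((V0 : ↥leechLattice) : GolayPt → ℤ) w = -16 ∧
    dotInt ((U0 : ↥leechLattice) : GolayPt → ℤ) w = t)
  unfold P2
  rw [h]
  exact census2 10000000000 PN2 rfl _ _ abs_V0 abs_U0 rep2 (-16) t (by norm_num) ht TA TB TC
    hA hB hC

theorem card_P3 (s : ℤ) (hs : |s| ≤ 1000) (TA TB TC : ℕ)
    (hA : (TA : ℤ) = (0 + 10000 * (-16) + 100000000 * s) + 8 * (10000000000 : ℕ))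
    (hB : (TB : ℤ) = (0 + 10000 * (-16) + 100000000 * s) + 16 * (10000000000 : ℕ))
    (hC : (TC : ℤ) = (0 + 10000 * (-16) + 100000000 * s) + 28 * (10000000000 : ℕ)) :
    (P3 s).ncard = censusN PN3 TA TB TC := by
  have h := ncard_subtype (fun w => sqNorm w = 32 ∧
    dotInt ((V0 : ↥leechLattice) : GolayPt → ℤ) w = 0 ∧
    dotInt ((W16 : ↥leechLattice) : GolayPt → ℤ) w = -16 ∧
    dotInt ((U0 : ↥leechLattice) : GolayPt → ℤ) w = s)
  unfold P3
  rw [h]
  exact census3 10000000000 PN3 rfl _ _ _ abs_V0 abs_W16 abs_U0 rep3 0 (-16) s (by norm_num)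
    (by norm_num) hs TA TB TC hA hB hC

theorem card_P2_m16 : (P2 (-16)).ncard = 44 := by
  rw [card_P2 (-16) (by norm_num) 79999839984 159999839984 279999839984 (by norm_num)
    (by norm_num) (by norm_num)]
  exact c2_m16

theorem card_P2_16 : (P2 16).ncard = 44 := by
  rw [card_P2 16 (by norm_num) 80000159984 160000159984 280000159984 (by norm_num)
    (by norm_num) (by norm_num)]
  exact c2_16

theorem card_P2_0 : (P2 0).ncard = 2464 := by
  rw [card_P2 0 (by norm_num) 79999999984 159999999984 279999999984 (by norm_num)
    (by norm_num) (by norm_num)]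
  exact c2_0

theorem card_P2_m8 : (P2 (-8)).ncard = 1024 := by
  rw [card_P2 (-8) (by norm_num) 79999919984 159999919984 279999919984 (by norm_num)
    (by norm_num) (by norm_num)]
  exact c2_m8

theorem card_P2_8 : (P2 8).ncard = 1024 := by
  rw [card_P2 8 (by norm_num) 80000079984 160000079984 280000079984 (by norm_num)
    (by norm_num) (by norm_num)]
  exact c2_8

theorem card_P3_32 : (P3 32).ncard = 1 := by
  rw [card_P3 32 (by norm_num) 83199840000 163199840000 283199840000 (by norm_num)
    (by norm_num) (by norm_num)]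
  exact c3_32

theorem card_P3_0 : (P3 0).ncard = 42 := by
  rw [card_P3 0 (by norm_num) 79999840000 159999840000 279999840000 (by norm_num)
    (by norm_num) (by norm_num)]
  exact c3_0

theorem card_P3_16 : (P3 16).ncard = 336 := by
  rw [card_P3 16 (by norm_num) 81599840000 161599840000 281599840000 (by norm_num)
    (by norm_num) (by norm_num)]
  exact c3_16

theorem card_P3_8 : (P3 8).ncard = 512 := by
  rw [card_P3 8 (by norm_num) 80799840000 160799840000 280799840000 (by norm_num)
    (by norm_num) (by norm_num)]
  exact c3_8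

end Cfsg.Agent.Lib.Helper92.MaxCount
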