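import Mathlib
import Cfsg.Prelude.Def_MonsterType
import Cfsg.Agent.Lib.Helper92.MonMeet

/-!
Groups of Monster type: a variant of the bridge between the group and the lattice for a conjugate
`s = g z g⁻¹` of the central involution lying in `Q`, stated for a given identification of
`C / Q` with the first Conway group and of `Q / Z(Q)` with the lattice modulo 2, and producing
explicit elements of `g Q g⁻¹ ∩ C` inducing the conjugated sign changes.
-/

set_option autoImplicit false

namespace Cfsg.Agent.Lib.Helper92.MonBridge2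

open Cfsg Cfsg.Agent.Lib.Helper92.LeechCore Cfsg.Agent.Lib.Helper92.ActQ
open Cfsg.Agent.Lib.Helper92.MonQ Cfsg.Agent.Lib.Helper92.MonLat
open Cfsg.Agent.Lib.Helper92.MonVec Cfsg.Agent.Lib.Helper92.O2Co2
open Cfsg.Agent.Lib.Helper92.MonExcl Cfsg.Agent.Lib.Helper92.MonConj
open Cfsg.Agent.Lib.Helper92.NormalMono Cfsg.Agent.Lib.Helper92.MinVec
open Cfsg.Agent.Lib.Helper92.Conway Cfsg.Agent.Lib.Helper92.Shells
open Cfsg.Agent.Lib.Helper92.MonMeet
open Cfsg.Agent.Lib.Helper90.ESData Cfsg.Agent.Lib.Helper90.FStarES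
open Cfsg.Agent.S0398

section monster

variable {G : Type*} [Group G] {z : G} {Q : Subgroup (Subgroup.centralizer ({z} : Set G))}
  [Q.Normal]

/-- The bridge between the group and the lattice for a conjugate of `z` in `Q`, relative to a
given identification. -/
theorem bridge2 [Finite G] (hM : IsOfMonsterType z Q)
    {e : (Subgroup.centralizer ({z} : Set G)) ⧸ Q ≃* Spor.Co1}
    {ψ : leechLattice → ↥Q ⧸ Subgroup.center ↥Q} (hψ : IsLeechModTwoIso Q e ψ) (g : G)
    (hsQ : ∃ hsc : g * z * g⁻¹ ∈ Subgroup.centralizer ({z} : Set G),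
      (⟨g * z * g⁻¹, hsc⟩ : Subgroup.centralizer ({z} : Set G)) ∈ Q)
    (hsz : g * z * g⁻¹ ≠ z) :
    ∃ (v : leechLattice) (a : ↥Co0) (s : Q),
      ((s : Subgroup.centralizer ({z} : Set G)) : G) = g * z * g⁻¹ ∧
      ψ v = QuotientGroup.mk s ∧ sqNorm (v : GolayPt → ℤ) = 64 ∧
      a • c0 = cls (v : GolayPt → ℤ) ∧
      (∀ c (hc : IsCW c), ∃ y : ↥(Subgroup.centralizer ({z} : Set G)),
        (y : G) ∈ (Q.map (Subgroup.centralizer ({z} : Set G)).subtype).map
          (MulAut.conj g).toMonoidHom ∧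
        e (QuotientGroup.mk y) = (QuotientGroup.mk (a * eps c hc * a⁻¹) : Spor.Co1)) ∧
      (∀ y ∈ (Q.map (Subgroup.centralizer ({z} : Set G)).subtype).map (MulAut.conj g).toMonoidHom,
        y * (g * z * g⁻¹) = (g * z * g⁻¹) * y) ∧
      (∀ h : G, h * (g * z * g⁻¹) = (g * z * g⁻¹) * h →
        ∀ y ∈ (Q.map (Subgroup.centralizer ({z} : Set G)).subtype).map
          (MulAut.conj g).toMonoidHom,
          h * y * h⁻¹ ∈ (Q.map (Subgroup.centralizer ({z} : Set G)).subtype).map
            (MulAut.conj g).toMonoidHom) := by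
  obtain ⟨hsc, hsQ'⟩ := hsQ
  obtain ⟨hsnc, v, hv64, hv⟩ := rep64_of_conj hM hψ g ⟨⟨g * z * g⁻¹, hsc⟩, hsQ'⟩ rfl hsz
  have hL : LIso Q ψ := liso_of_iso hM.1.2.2.1 hψ
  obtain ⟨hadd, hsurj, hker, hequiv⟩ := hψ
  generalize hsdef : (⟨⟨g * z * g⁻¹, hsc⟩, hsQ'⟩ : Q) = s at hsnc hv
  have hs : ((s : Subgroup.centralizer ({z} : Set G)) : G) = g * z * g⁻¹ := by rw [← hsdef]
  -- the extraspecial data in `G`
  have hF : (generalizedFittingSubgroup ↥(Subgroup.centralizer ({z} : Set G))).map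
      (Subgroup.centralizer ({z} : Set G)).subtype
      = Q.map (Subgroup.centralizer ({z} : Set G)).subtype := by rw [hM.1.2.1]
  have hQg : IsExtraspecial 2 ↥(Q.map (Subgroup.centralizer ({z} : Set G)).subtype) :=
    isExtraspecial_of_mulEquiv (Q.equivMapOfInjective _ (Subgroup.subtype_injective _))
      hM.1.2.2.1
  have hS := Setup.of_gfs hM.1.1 hF hQg
  obtain ⟨z', hE0, hz'Z, -⟩ := exists_esd _ hQg hS.centralizer_eq hS.centralizer_le
  have hz' : z' = z := by
    rcases hS.center_cases hz'Z with h | h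
    · exact absurd h hE0.z1
    · exact h
  rw [hz'] at hE0
  have hcardQg : Nat.card ↥(Q.map (Subgroup.centralizer ({z} : Set G)).subtype) = 2 ^ 25 := by
    rw [Subgroup.card_map_of_injective (Subgroup.subtype_injective _)]
    exact hM.1.2.2.2.1
  have hsQg : g * z * g⁻¹ ∈ Q.map (Subgroup.centralizer ({z} : Set G)).subtype :=
    ⟨s.1, s.2, hs⟩
  have hE' := hE0.conj g
  have hzQ' := hE0.mem_conj_of_conj_mem (by rw [hcardQg]; norm_num) g hsQg hsz
  have hcardQ'g : Nat.card ↥((Q.map (Subgroup.centralizer ({z} : Set G)).subtype).map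
      (MulAut.conj g).toMonoidHom) = 2 ^ 25 := by
    rw [Subgroup.card_map_of_injective (MulAut.conj g).injective]
    exact hcardQg
  generalize hQg_def : Q.map (Subgroup.centralizer ({z} : Set G)).subtype = Qg at *
  generalize hQ'g_def : Qg.map (MulAut.conj g).toMonoidHom = Q'g at *
  -- the 2-subgroup of the automorphism group induced by `Q'g ∩ C`
  let φ : ↥(Subgroup.centralizer ({z} : Set G)) →* Spor.Co1 :=
    (e : (Subgroup.centralizer ({z} : Set G)) ⧸ Q →* Spor.Co1).comp (QuotientGroup.mk' Q)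
  let π : ↥Co0 →* Spor.Co1 := QuotientGroup.mk' (Subgroup.center ↥Co0)
  let M : Subgroup ↥Co0 :=
    ((Q'g.subgroupOf (Subgroup.centralizer ({z} : Set G))).map φ).comap π
  have hMmem : ∀ g0 : ↥Co0, g0 ∈ M ↔ ∃ y : ↥(Subgroup.centralizer ({z} : Set G)),
      (y : G) ∈ Q'g ∧ e (QuotientGroup.mk y) = (QuotientGroup.mk g0 : Spor.Co1) :=
    fun g0 => Iff.rfl
  have hMp : IsPGroup 2 M := by
    apply IsPGroup.comap_of_ker_isPGroup
    · apply IsPGroup.map
      apply IsPGroup.comap_of_injective _ _ (Subgroup.subtype_injective _)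
      exact IsPGroup.of_card hcardQ'g
    · rw [QuotientGroup.ker_mk']
      exact IsPGroup.of_card (n := 1) (by rw [pow_one]; exact Cfsg.Agent.S0398.result)
  have hMψ : ∀ g0 ∈ M, ψ (g0 • v) = ψ v := by
    intro g0 hg0
    obtain ⟨y, hy, hyg⟩ := (hMmem g0).mp hg0
    have h1 := hequiv y g0 hyg.symm v s hv
    have hys : y * (s : ↥(Subgroup.centralizer ({z} : Set G))) * y⁻¹
        = (s : ↥(Subgroup.centralizer ({z} : Set G))) := by
      apply Subtype.ext
      show (y : G) * ((s : ↥(Subgroup.centralizer ({z} : Set G))) : G) * (y : G)⁻¹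
        = ((s : ↥(Subgroup.centralizer ({z} : Set G))) : G)
      rw [hs, hE'.zc (y : G) hy]
      group
    rw [h1, hv]
    congr 1
    exact Subtype.ext hys
  have hlift : ∀ k : ↥Co0, ψ (k • v) = ψ v → ∃ h : ↥(Subgroup.centralizer ({z} : Set G)),
      e (QuotientGroup.mk h) = (QuotientGroup.mk k : Spor.Co1) ∧
      (h : G) * (g * z * g⁻¹) = (g * z * g⁻¹) * (h : G) := by
    intro k hk
    obtain ⟨h, hh⟩ := QuotientGroup.mk_surjective (e.symm (QuotientGroup.mk k))
    have hhk : e (QuotientGroup.mk h) = (QuotientGroup.mk k : Spor.Co1) := by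
      rw [hh, MulEquiv.apply_symm_apply]
    have h1 := hequiv h k hhk.symm v s hv
    rw [hk, hv] at h1
    rcases hL.mk_eq h1 with h2 | h2
    · refine ⟨h, hhk, ?_⟩
      have h3 : (h : G) * ((s : ↥(Subgroup.centralizer ({z} : Set G))) : G) * (h : G)⁻¹
          = ((s : ↥(Subgroup.centralizer ({z} : Set G))) : G) :=
        congrArg (fun x : Q => ((x : ↥(Subgroup.centralizer ({z} : Set G))) : G)) h2
      rw [hs] at h3
      have := congrArg (fun x => x * (h : G)) h3
      simpa [mul_assoc] using this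
    · obtain ⟨q, hq⟩ := hL.exists_conj_c hsnc
      refine ⟨(q : ↥(Subgroup.centralizer ({z} : Set G)))⁻¹ * h, ?_, ?_⟩
      · rw [QuotientGroup.mk_mul, map_mul, hhk]
        have : (QuotientGroup.mk ((q : ↥(Subgroup.centralizer ({z} : Set G)))⁻¹) :
            (Subgroup.centralizer ({z} : Set G)) ⧸ Q) = 1 :=
          (QuotientGroup.eq_one_iff _).mpr (Q.inv_mem q.2)
        rw [this, map_one, one_mul]
      · have h3 : (h : G) * ((s : ↥(Subgroup.centralizer ({z} : Set G))) : G) * (h : G)⁻¹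
            = ((s : ↥(Subgroup.centralizer ({z} : Set G))) : G)
              * ((hL.c : ↥(Subgroup.centralizer ({z} : Set G))) : G) :=
          congrArg (fun x : Q => ((x : ↥(Subgroup.centralizer ({z} : Set G))) : G)) h2
        have h4 : ((q : ↥(Subgroup.centralizer ({z} : Set G))) : G)
            * ((s : ↥(Subgroup.centralizer ({z} : Set G))) : G)
            * ((q : ↥(Subgroup.centralizer ({z} : Set G))) : G)⁻¹
            = ((s : ↥(Subgroup.centralizer ({z} : Set G))) : G)
              * ((hL.c : ↥(Subgroup.centralizer ({z} : Set G))) : G) :=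
          congrArg (fun x : Q => ((x : ↥(Subgroup.centralizer ({z} : Set G))) : G)) hq
        rw [← h4, hs] at h3
        show ((q : ↥(Subgroup.centralizer ({z} : Set G))) : G)⁻¹ * (h : G) * (g * z * g⁻¹)
          = (g * z * g⁻¹) * (((q : ↥(Subgroup.centralizer ({z} : Set G))) : G)⁻¹ * (h : G))
        calc ((q : ↥(Subgroup.centralizer ({z} : Set G))) : G)⁻¹ * (h : G) * (g * z * g⁻¹)
            = ((q : ↥(Subgroup.centralizer ({z} : Set G))) : G)⁻¹
                * ((h : G) * (g * z * g⁻¹) * (h : G)⁻¹) * (h : G) := by group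
          _ = ((q : ↥(Subgroup.centralizer ({z} : Set G))) : G)⁻¹
                * (((q : ↥(Subgroup.centralizer ({z} : Set G))) : G) * (g * z * g⁻¹)
                  * ((q : ↥(Subgroup.centralizer ({z} : Set G))) : G)⁻¹) * (h : G) := by rw [h3]
          _ = (g * z * g⁻¹) * (((q : ↥(Subgroup.centralizer ({z} : Set G))) : G)⁻¹ * (h : G)) := by
              group
  have hMnorm : ∀ k : ↥Co0, ψ (k • v) = ψ v → ∀ m ∈ M, k * m * k⁻¹ ∈ M := by
    intro k hk m hm
    obtain ⟨y, hy, hym⟩ := (hMmem m).mp hm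
    obtain ⟨h, hhk, hhs⟩ := hlift k hk
    rw [hMmem]
    refine ⟨h * y * h⁻¹, hE'.norm (h : G) hhs (y : G) hy, ?_⟩
    rw [QuotientGroup.mk_mul, QuotientGroup.mk_mul, QuotientGroup.mk_inv, map_mul, map_mul,
      map_inv, hhk, hym]
    rfl
  have hnegM : negC ∈ M := by
    rw [hMmem]
    refine ⟨1, Q'g.one_mem, ?_⟩
    rw [QuotientGroup.mk_one, map_one]
    exact ((QuotientGroup.eq_one_iff negC).mpr negC_central).symm
  -- transport to the standard frame
  have hvorb : cls (v : GolayPt → ℤ) ∈ MulAction.orbit ↥Co0 c0 := by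
    rw [orbit_eq]
    exact ⟨(v : GolayPt → ℤ), mem_shell.mpr ⟨v.2, hv64⟩, rfl⟩
  obtain ⟨a, ha⟩ := hvorb
  have ha' : a • c0 = cls (v : GolayPt → ℤ) := ha
  have hstabv : ∀ k : ↥Co0, ψ (k • v) = ψ v ↔ (a⁻¹ * k * a) • c0 = c0 := by
    intro k
    rw [psi_eq_iff hL, ← smul_cls, ← ha', mul_smul, mul_smul, inv_smul_eq_iff]
  let M' : Subgroup ↥Co0 := M.map (MulAut.conj a⁻¹).toMonoidHom
  have hM'mem : ∀ m : ↥Co0, m ∈ M' ↔ a * m * a⁻¹ ∈ M := by
    intro m
    have := Cfsg.Agent.Lib.Helper90.Basic.mem_map_conj_iff M a⁻¹ m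
    rw [inv_inv] at this
    exact this
  have hM'p : IsPGroup 2 M' := hMp.map _
  have hM'stab : ∀ m ∈ M', m • c0 = c0 := by
    intro m hm
    have h1 := hMψ _ ((hM'mem m).mp hm)
    rw [hstabv] at h1
    have h2 : a⁻¹ * (a * m * a⁻¹) * a = m := by group
    rw [h2] at h1
    exact h1
  have hconjψ : ∀ k : ↥Co0, k • c0 = c0 → ψ ((a * k * a⁻¹) • v) = ψ v := by
    intro k hk
    rw [hstabv]
    have h2 : a⁻¹ * (a * k * a⁻¹) * a = k := by group
    rw [h2]
    exact hk
  have hM'norm : ∀ k : ↥Co0, k • c0 = c0 → ∀ m ∈ M', k * m * k⁻¹ ∈ M' := by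
    intro k hk m hm
    rw [hM'mem] at hm ⊢
    have h3 := hMnorm _ (hconjψ k hk) _ hm
    have h4 : a * k * a⁻¹ * (a * m * a⁻¹) * (a * k * a⁻¹)⁻¹ = a * (k * m * k⁻¹) * a⁻¹ := by
      group
    rw [h4] at h3
    exact h3
  have hnegM' : negC ∈ M' := by
    rw [hM'mem, conj_negC]
    exact hnegM
  have hback : ∀ m ∈ M, a⁻¹ * m * a ∈ M' := by
    intro m hm
    rw [hM'mem]
    have : a * (a⁻¹ * m * a) * a⁻¹ = m := by group
    rw [this]
    exact hm
  rcases normal_two hM'p hM'stab hM'norm hnegM' with hcase | hcase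
  · exfalso
    have hMtriv : ∀ m ∈ M, (QuotientGroup.mk m : Spor.Co1) = 1 := by
      intro m hm
      have h5 : a * (a⁻¹ * m * a) * a⁻¹ = m := by group
      rcases hcase _ (hback m hm) with h2 | h2
      · have : m = 1 := by
          rw [← h5, h2]
          group
        rw [this]
        rfl
      · have : m = negC := by
          rw [← h5, h2, conj_negC]
        rw [this]
        exact (QuotientGroup.eq_one_iff negC).mpr negC_central
    obtain ⟨a1, ha1, a2, ha2, ha1z, ha2z, hne⟩ := exists_noncomm hE'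
      (by rw [hcardQ'g]; norm_num) hzQ' (z_ne_one hM) (Ne.symm hsz) (z_sq hM)
    have hP : ∀ y : G, y ∈ Q'g → y * z = z * y → y ∈ Qg := by
      intro y hy hyz
      have hyC : y ∈ Subgroup.centralizer ({z} : Set G) := by
        rw [Subgroup.mem_centralizer_iff]
        intro a ha
        rw [Set.mem_singleton_iff] at ha
        rw [ha]
        exact hyz.symm
      obtain ⟨g0, hg0⟩ := QuotientGroup.mk_surjective
        (e (QuotientGroup.mk (⟨y, hyC⟩ : ↥(Subgroup.centralizer ({z} : Set G)))))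
      have hg0M : g0 ∈ M := (hMmem g0).mpr ⟨⟨y, hyC⟩, hy, hg0.symm⟩
      have hone := hMtriv g0 hg0M
      rw [hone] at hg0
      have h3 : (QuotientGroup.mk (⟨y, hyC⟩ : ↥(Subgroup.centralizer ({z} : Set G))) :
          (Subgroup.centralizer ({z} : Set G)) ⧸ Q) = 1 := by
        have := congrArg e.symm hg0.symm
        simpa using this
      rw [← hQg_def]
      exact ⟨⟨y, hyC⟩, (QuotientGroup.eq_one_iff _).mp h3, rfl⟩
    have h1 := hP a1 ha1 ha1z
    have h2 := hP a2 ha2 ha2z
    have hcomm1 : a1 * a2 * a1⁻¹ * a2⁻¹ = 1 := by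
      rcases hE0.comm a1 h1 a2 h2 with h | h
      · exact h
      · rcases hE'.comm a1 ha1 a2 ha2 with h' | h'
        · exact h'
        · exfalso
          rw [h] at h'
          exact hsz h'.symm
    apply hne
    have := congrArg (fun x => x * a2 * a1) hcomm1
    simpa [mul_assoc] using this
  · have hMeps : ∀ m : ↥Co0, m ∈ M ↔ ∃ c, ∃ hc : IsCW c, m = a * eps c hc * a⁻¹ := by
      intro m
      constructor
      · intro hm
        obtain ⟨c, hc, h2⟩ := (hcase _).mp (hback m hm)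
        refine ⟨c, hc, ?_⟩
        rw [← h2]
        group
      · rintro ⟨c, hc, rfl⟩
        exact (hM'mem _).mp ((hcase _).mpr ⟨c, hc, rfl⟩)
    refine ⟨v, a, s, hs, hv, hv64, ha', ?_, ?_, ?_⟩
    · intro c hc
      have hmem : a * eps c hc * a⁻¹ ∈ M := (hMeps _).mpr ⟨c, hc, rfl⟩
      obtain ⟨y, hy, hyg⟩ := (hMmem _).mp hmem
      exact ⟨y, hy, hyg⟩
    · exact fun y hy => hE'.zc y hy
    · exact fun h hh y hy => hE'.norm h hh y hy

end monster

end Cfsg.Agent.Lib.Helper92.MonBridge2
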