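import Mathlib
import Cfsg.Agent.Lib.Lead.OrdTypeStmt

/-!
# S3998 / NORMCNT (second seat): if the number of `p`-rough elements equals the order of a Sylow
`p`-subgroup `P`, then `P` is normal.
-/

set_option autoImplicit false

namespace Cfsg.Agent.Lib.Helper92.OTNORMCNT

open Cfsg.Agent.Lib.Lead.OrdTypeStmt

universe u

theorem main : NormCnt.{u} := by
  intro X _ _ p _ P hcnt
  have hsub : ((P : Subgroup X) : Set X) ⊆ rough X p := by
    intro x hx q hq hdvd
    have hp : IsPGroup p (P : Subgroup X) := P.isPGroup'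
    obtain ⟨k, hk⟩ := hp ⟨x, hx⟩
    have h1 : orderOf x ∣ p ^ k := by
      apply orderOf_dvd_of_pow_eq_one
      have := congrArg Subtype.val hk
      simpa using this
    have h2 : q ∣ p ^ k := dvd_trans hdvd h1
    have h3 : q ∣ p := hq.dvd_of_dvd_pow h2
    have h4 : q = p := (Nat.prime_dvd_prime_iff_eq hq (Fact.out)).1 h3
    exact h4.ge
  have heq : ((P : Subgroup X) : Set X) = rough X p := by
    apply Set.eq_of_subset_of_ncard_le hsub
    rw [← Nat.card_coe_set_eq, ← Nat.card_coe_set_eq]
    have h5 : Nat.card (rough X p) = Nat.card P := hcnt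
    rw [h5]
    exact le_of_eq rfl
  constructor
  intro n hn g
  have h6 : n ∈ rough X p := by
    rw [← heq]; exact hn
  have h7 : g * n * g⁻¹ ∈ rough X p := by
    intro q hq hdvd
    apply h6 q hq
    have h8 : orderOf (g * n * g⁻¹) = orderOf n := (MulAut.conj g).orderOf_eq n
    rwa [h8] at hdvd
  have h9 : g * n * g⁻¹ ∈ ((P : Subgroup X) : Set X) := by
    rw [heq]; exact h7
  exact h9

end Cfsg.Agent.Lib.Helper92.OTNORMCNT
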