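import Mathlib
import Cfsg.Agent.Lib.Helper1.PDStmt

/-!
# S4020 / EXPAB (call by helper1, second seat): a Sylow subgroup of exponent `p` is abelian
(from `Big` and `NoExtra`).
-/

set_option autoImplicit false

namespace Cfsg.Agent.Lib.Helper92.PDEXPAB

open Cfsg.Agent.Lib.Helper1.PDStmt

universe u

theorem main (hB : Big.{u}) (hN : NoExtra.{u}) : ExpAb.{u} := by
  intro G _ _ hD p _ P hexp a ha b hb
  obtain ⟨k, hk⟩ := (IsPGroup.iff_card.1 P.isPGroup')
  by_cases h4 : 4 ≤ k
  · have h1 : p ^ 4 ∣ Nat.card ↥(P : Subgroup G) := by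
      rw [hk]
      exact pow_dvd_pow p h4
    exact hB G hD p P hexp h1 a ha b hb
  · by_cases h3 : k = 3
    · subst h3
      exact hN G hD p P hk hexp a ha b hb
    · have hk2 : k ≤ 2 := by omega
      have hcomm : ∀ x y : ↥(P : Subgroup G), x * y = y * x := by
        interval_cases k
        · have h5 : Nat.card ↥(P : Subgroup G) = 1 := by simpa using hk
          have h6 : Subsingleton ↥(P : Subgroup G) := (Nat.card_eq_one_iff_unique.1 h5).1
          intro x y
          rw [Subsingleton.elim x 1, Subsingleton.elim y 1]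
        · have h5 : Nat.card ↥(P : Subgroup G) = p := by simpa using hk
          have h6 : IsCyclic ↥(P : Subgroup G) := isCyclic_of_prime_card h5
          obtain ⟨g, hg⟩ := h6.exists_generator
          intro x y
          obtain ⟨m, rfl⟩ := Subgroup.mem_zpowers_iff.1 (hg x)
          obtain ⟨n, rfl⟩ := Subgroup.mem_zpowers_iff.1 (hg y)
          exact (Commute.zpow_zpow_self g m n).eq
        · intro x y
          exact IsPGroup.commutative_of_card_eq_prime_sq hk x y
      have h7 := hcomm ⟨a, ha⟩ ⟨b, hb⟩
      exact congrArg Subtype.val h7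

end Cfsg.Agent.Lib.Helper92.PDEXPAB
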