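import Mathlib
import Cfsg.Agent.Lib.Helper92.PGStmt

/-!
# S2490: assembly from the pieces of `PGStmt`
-/

namespace Cfsg.Agent.Lib.Helper92.PGAsm

open Cfsg.Agent.Lib.Helper92.PGStmt

universe u

theorem prime_dvd_7920 {a : ℕ} (ha : a.Prime) (h : a ∣ 7920) :
    a = 2 ∨ a = 3 ∨ a = 5 ∨ a = 11 := by
  have e : (7920 : ℕ) = 2 ^ 4 * 3 ^ 2 * 5 * 11 := by norm_num
  rw [e] at h
  rcases (Nat.Prime.dvd_mul ha).1 h with h | h
  · rcases (Nat.Prime.dvd_mul ha).1 h with h | h
    · rcases (Nat.Prime.dvd_mul ha).1 h with h | h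
      · left
        exact (Nat.prime_dvd_prime_iff_eq ha Nat.prime_two).1 (ha.dvd_of_dvd_pow h)
      · right; left
        exact (Nat.prime_dvd_prime_iff_eq ha Nat.prime_three).1 (ha.dvd_of_dvd_pow h)
    · right; right; left
      exact (Nat.prime_dvd_prime_iff_eq ha (by norm_num)).1 h
  · right; right; right
    exact (Nat.prime_dvd_prime_iff_eq ha (by norm_num)).1 h

/-- FINAL: the edges contradict disconnectedness. -/
theorem final {G : Type u} [Group G] [Finite G] (hord : Nat.card G = 7920) (hE : Edges G)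
    (hdisc : (∃ A : Set ℕ, (∃ a ∈ A, a.Prime ∧ a ∣ Nat.card G) ∧
      (∃ b ∉ A, b.Prime ∧ b ∣ Nat.card G) ∧
      ∀ a ∈ A, ∀ b ∉ A, a.Prime → b.Prime → a ∣ Nat.card G → b ∣ Nat.card G →
        ¬ ∃ g : G, orderOf g = a * b)) : False := by
  obtain ⟨A, ⟨a, haA, hap, had⟩, ⟨b, hbA, hbp, hbd⟩, hno⟩ := hdisc
  obtain ⟨h22, h33, h5⟩ := hE
  rw [hord] at had hbd
  have d2 : 2 ∣ Nat.card G := by rw [hord]; norm_num
  have d3 : 3 ∣ Nat.card G := by rw [hord]; norm_num
  have d5 : 5 ∣ Nat.card G := by rw [hord]; norm_num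
  have d11 : 11 ∣ Nat.card G := by rw [hord]; norm_num
  have p2 : (2 : ℕ).Prime := Nat.prime_two
  have p3 : (3 : ℕ).Prime := Nat.prime_three
  have p5 : (5 : ℕ).Prime := by norm_num
  have p11 : (11 : ℕ).Prime := by norm_num
  -- membership equivalences
  have e2 : (11 : ℕ) ∈ A ↔ (2 : ℕ) ∈ A := by
    constructor
    · intro h; by_contra h'
      exact hno 11 h 2 h' p11 p2 d11 d2 (by obtain ⟨g, hg⟩ := h22; exact ⟨g, by rw [hg]⟩)
    · intro h; by_contra h'
      exact hno 2 h 11 h' p2 p11 d2 d11 (by obtain ⟨g, hg⟩ := h22; exact ⟨g, by rw [hg]⟩)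
  have e3 : (11 : ℕ) ∈ A ↔ (3 : ℕ) ∈ A := by
    constructor
    · intro h; by_contra h'
      exact hno 11 h 3 h' p11 p3 d11 d3 (by obtain ⟨g, hg⟩ := h33; exact ⟨g, by rw [hg]⟩)
    · intro h; by_contra h'
      exact hno 3 h 11 h' p3 p11 d3 d11 (by obtain ⟨g, hg⟩ := h33; exact ⟨g, by rw [hg]⟩)
  have e5 : (11 : ℕ) ∈ A ↔ (5 : ℕ) ∈ A := by
    rcases h5 with h55 | h15
    · constructor
      · intro h; by_contra h'
        exact hno 11 h 5 h' p11 p5 d11 d5 (by obtain ⟨g, hg⟩ := h55; exact ⟨g, by rw [hg]⟩)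
      · intro h; by_contra h'
        exact hno 5 h 11 h' p5 p11 d5 d11 (by obtain ⟨g, hg⟩ := h55; exact ⟨g, by rw [hg]⟩)
    · rw [e3]
      constructor
      · intro h; by_contra h'
        exact hno 3 h 5 h' p3 p5 d3 d5 (by obtain ⟨g, hg⟩ := h15; exact ⟨g, by rw [hg]⟩)
      · intro h; by_contra h'
        exact hno 5 h 3 h' p5 p3 d5 d3 (by obtain ⟨g, hg⟩ := h15; exact ⟨g, by rw [hg]⟩)
  have hin : (11 : ℕ) ∈ A := by
    rcases prime_dvd_7920 hap had with rfl | rfl | rfl | rfl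
    · exact e2.2 haA
    · exact e3.2 haA
    · exact e5.2 haA
    · exact haA
  have hout : (11 : ℕ) ∉ A := by
    rcases prime_dvd_7920 hbp hbd with rfl | rfl | rfl | rfl
    · exact fun h => hbA (e2.1 h)
    · exact fun h => hbA (e3.1 h)
    · exact fun h => hbA (e5.1 h)
    · exact hbA
  exact hout hin

/-- Non-simple groups of order 7920 have the edges. -/
theorem edges_of_not_simple (hS : Struct.{u}) (hQ : Quot.{u}) (hO : Ord.{u})
    (hA : CaseA.{u}) (hB : Case660.{u})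
    {G : Type u} [Group G] [Finite G] (hord : Nat.card G = 7920)
    (hns : ¬ IsSimpleGroup G) : Edges G := by
  obtain ⟨H, K, hHn, hKn, hHK, hpH, hpK, hsimp⟩ :=
    hS G 11 (by norm_num) (by rw [hord]; norm_num) (by rw [hord]; norm_num)
  have := hHn
  have hne : H ≠ K := by
    rintro rfl
    exact hpH hpK
  obtain ⟨hXs, hXc⟩ := hQ G H K hHK hne hsimp
  have hKd : Nat.card K ∣ 7920 := by
    rw [← hord]; exact Subgroup.card_subgroup_dvd_card K
  have hXd : Nat.card (K ⧸ H.subgroupOf K) ∣ 7920 :=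
    Dvd.dvd.trans (Dvd.intro _ hXc) hKd
  have hX11 : 11 ∣ Nat.card (K ⧸ H.subgroupOf K) := by
    have h1 : 11 ∣ Nat.card (K ⧸ H.subgroupOf K) * Nat.card H := by rw [hXc]; exact hpK
    rcases (Nat.Prime.dvd_mul (by norm_num)).1 h1 with h | h
    · exact h
    · exact absurd h hpH
  have := hXs
  rcases hO (K ⧸ H.subgroupOf K) hXd hX11 with h | h | h
  · rw [h] at hXc
    exact hA G hord H K hHn hKn hHK hXc.symm
  · rw [h] at hXc
    exact hB G hord H K hHn hKn hHK hXc.symm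
  · rw [h] at hXc
    exfalso
    have hH1 : Nat.card H = 1 := by
      have hpos : 0 < Nat.card H := Nat.card_pos
      have hle : Nat.card K ≤ 7920 := Nat.le_of_dvd (by norm_num) hKd
      nlinarith
    have hK1 : Nat.card K = Nat.card G := by rw [hord, ← hXc, hH1]
    have hHbot : H = ⊥ := Subgroup.card_eq_one.1 hH1
    have hKtop : K = ⊤ := (Subgroup.card_eq_iff_eq_top K).1 hK1
    apply hns
    have : Nontrivial G := by
      have : 1 < Nat.card G := by rw [hord]; norm_num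
      exact (Finite.one_lt_card_iff_nontrivial).1 this
    refine ⟨fun M hM => ?_⟩
    have := hsimp M (by rw [hHbot]; exact bot_le) (by rw [hKtop]; exact le_top)
      (fun k _ m hm => hM.conj_mem m hm k)
    rw [hHbot, hKtop] at this
    exact this

/-- The statement of S2490 from the pieces. -/
theorem s2490_of (hS : Struct.{u}) (hQ : Quot.{u}) (hO : Ord.{u})
    (hA : CaseA.{u}) (hB : Case660.{u})
    {G : Type u} [Group G] [Finite G] (hord : Nat.card G = 7920)
    (hdisc : (∃ A : Set ℕ, (∃ a ∈ A, a.Prime ∧ a ∣ Nat.card G) ∧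
      (∃ b ∉ A, b.Prime ∧ b ∣ Nat.card G) ∧
      ∀ a ∈ A, ∀ b ∉ A, a.Prime → b.Prime → a ∣ Nat.card G → b ∣ Nat.card G →
        ¬ ∃ g : G, orderOf g = a * b)) :
    IsSimpleGroup G := by
  by_contra hns
  exact final hord (edges_of_not_simple hS hQ hO hA hB hord hns) hdisc

end Cfsg.Agent.Lib.Helper92.PGAsm
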