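import Mathlib
import Cfsg.Agent.Lib.Helper23.S64Stmt
import Cfsg.Agent.Lib.Helper96.S64FITQ

/-!
# S1364 / QFIT (call by helper23): if `N` is maximal among the normal `q`-subgroups of `X` inside the
normal subgroup `H`, then `F(H / N)` has no element of order `q`.

Adapted from `Cfsg.Agent.Lib.Helper96.S64FITQ.main` (the same argument for `N = O_q(X) ⊓ H`).
-/

set_option autoImplicit false

namespace Cfsg.Agent.Lib.Helper92.S64QFIT

open Cfsg.Agent.Lib.Helper76.PSolv

universe u

theorem main : Cfsg.Agent.Lib.Helper23.S64Stmt.QuotFit.{u} := by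
  intro X _ _ H N _ hHn hNH q hq hNp hmax y hy hyq
  haveI : Fact q.Prime := ⟨hq⟩
  by_contra hy1
  have hsurj : Function.Surjective (QuotientGroup.mk' N) := QuotientGroup.mk'_surjective _
  haveI hHb : (H.map (QuotientGroup.mk' N)).Normal := Subgroup.Normal.map hHn _ hsurj
  -- `q` divides the order of the Fitting subgroup
  have hord : orderOf y = q := orderOf_eq_prime hyq hy1
  have hdvd : q ∣ Nat.card (Cfsg.fittingOf (H.map (QuotientGroup.mk' N))) := by
    have h1 : orderOf (⟨y, hy⟩ : ↥(Cfsg.fittingOf (H.map (QuotientGroup.mk' N)))) = q := by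
      rw [← hord]
      exact (Subgroup.orderOf_mk y hy)
    rw [← h1]
    exact orderOf_dvd_natCard _
  have hd2 : q ∣ Nat.card (Cfsg.fittingSubgroup ↥(H.map (QuotientGroup.mk' N))) := by
    have e : Nat.card (Cfsg.fittingOf (H.map (QuotientGroup.mk' N))) =
        Nat.card (Cfsg.fittingSubgroup ↥(H.map (QuotientGroup.mk' N))) := by
      unfold Cfsg.fittingOf
      exact Subgroup.card_map_of_injective (H.map (QuotientGroup.mk' N)).subtype_injective
    rwa [e] at hdvd
  have hC := Cfsg.Agent.Lib.Helper96.S64FITQ.pCore_ne_bot_of_dvd_fitting q hd2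
  haveI := Cfsg.Agent.Lib.Helper96.S64FITQ.pCore_char q ↥(H.map (QuotientGroup.mk' N))
  have hSn : ((Cfsg.pCore q ↥(H.map (QuotientGroup.mk' N))).map
      (H.map (QuotientGroup.mk' N)).subtype).Normal :=
    ConjAct.normal_of_characteristic_of_normal
  have hSp : IsPGroup q ((Cfsg.pCore q ↥(H.map (QuotientGroup.mk' N))).map
      (H.map (QuotientGroup.mk' N)).subtype) := (pCore_isPGroup q).map _
  have hSle : (Cfsg.pCore q ↥(H.map (QuotientGroup.mk' N))).map
      (H.map (QuotientGroup.mk' N)).subtype ≤ H.map (QuotientGroup.mk' N) := by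
    rintro _ ⟨z, -, rfl⟩
    exact z.2
  have hSne : (Cfsg.pCore q ↥(H.map (QuotientGroup.mk' N))).map
      (H.map (QuotientGroup.mk' N)).subtype ≠ ⊥ := by
    intro h
    exact hC ((Subgroup.map_eq_bot_iff_of_injective _
      (H.map (QuotientGroup.mk' N)).subtype_injective).mp h)
  have hKn := hSn.comap (QuotientGroup.mk' N)
  have hKp := hSp.comap_of_ker_isPGroup (QuotientGroup.mk' N) (by
    rw [QuotientGroup.ker_mk']
    exact hNp)
  have hK2 : ((Cfsg.pCore q ↥(H.map (QuotientGroup.mk' N))).map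
      (H.map (QuotientGroup.mk' N)).subtype).comap (QuotientGroup.mk' N) ≤ H := by
    intro g hg
    have hgH : (QuotientGroup.mk' N) g ∈ H.map (QuotientGroup.mk' N) := hSle hg
    obtain ⟨h, hh, hhg⟩ := hgH
    have hmem : h⁻¹ * g ∈ N := by
      rw [← QuotientGroup.eq_one_iff]
      have e : (QuotientGroup.mk' N) (h⁻¹ * g) = 1 := by
        rw [map_mul, map_inv, hhg, inv_mul_cancel]
      exact e
    have e : g = h * (h⁻¹ * g) := by group
    rw [e]
    exact H.mul_mem hh (hNH hmem)
  have hK3 : N ≤ ((Cfsg.pCore q ↥(H.map (QuotientGroup.mk' N))).map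
      (H.map (QuotientGroup.mk' N)).subtype).comap (QuotientGroup.mk' N) := by
    intro g hg
    rw [Subgroup.mem_comap]
    have e : (QuotientGroup.mk' N) g = 1 := (QuotientGroup.eq_one_iff g).mpr hg
    rw [e]
    exact Subgroup.one_mem _
  have hK := hmax _ hKn hK3 hK2 hKp
  apply hSne
  rw [eq_bot_iff]
  intro s hs
  obtain ⟨g, rfl⟩ := hsurj s
  have hg : g ∈ N := by
    rw [← hK]
    exact hs
  rw [Subgroup.mem_bot]
  exact (QuotientGroup.eq_one_iff g).mpr hg

end Cfsg.Agent.Lib.Helper92.S64QFIT
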