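import Mathlib
import Cfsg.Agent.Lib.Helper23.S64Stmt
import Cfsg.Agent.Lib.Helper31.S64QUOTPRIME

/-!
# S1364 / QPRIME (call by helper23): prime action passes to the quotient by a normal `N ≤ H`.

This is the `≤` half of the landed `Cfsg.Agent.Lib.Helper31.S64QUOTPRIME.main`
(the same statement as an equality, without the solvability hypothesis).
-/

set_option autoImplicit false

namespace Cfsg.Agent.Lib.Helper92.S64QPRIME

universe u

theorem main : Cfsg.Agent.Lib.Helper23.S64Stmt.QuotPrime.{u} := by
  intro X _ _ _ H K N _ hNH hcop hprime y hy hy1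
  exact (Cfsg.Agent.Lib.Helper31.S64QUOTPRIME.main H K N hNH hcop hprime y hy hy1).le

end Cfsg.Agent.Lib.Helper92.S64QPRIME
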